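import Mathlib

/-!
# Arithmetic for degrees dividing 9·2^a·q^b
-/

set_option autoImplicit false

namespace Cfsg.Agent.Lib.Order9TwoQ

/-- A prime power next to a power of two, prime to 3, is a prime. -/
theorem exp_eq_one {q j i : ℕ} (hq : q.Prime) (hq2 : q ≠ 2) (hq3 : q ≠ 3) (hj : j ≠ 0)
    (h : q ^ j + 1 = 2 ^ i ∨ 2 ^ i + 1 = q ^ j) : j = 1 := by
  have hodd : Odd q := hq.odd_of_ne_two hq2
  have hq5 : 5 ≤ q := by
    have := hq.two_le
    by_contra hlt
    interval_cases q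
    · exact hq2 rfl
    · exact hq3 rfl
    · exact absurd hq (by decide)
  rcases Nat.even_or_odd j with ⟨k, rfl⟩ | hjo
  · exfalso
    have hk : k ≠ 0 := by omega
    have hx : 5 ≤ q ^ k := hq5.trans (Nat.le_self_pow hk q)
    have hxo : q ^ k % 2 = 1 := Nat.odd_iff.mp hodd.pow
    rw [pow_add] at h
    rcases h with h | h
    · -- a square plus one is twice an odd number
      have h4 : (q ^ k * q ^ k + 1) % 4 = 2 := by
        have h : q ^ k % 4 = 1 ∨ q ^ k % 4 = 3 := by omega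
        rcases h with e | e <;> simp [Nat.add_mod, Nat.mul_mod, e]
      rw [h] at h4
      rcases i with - | - | i
      · simp at h4
      · have : q ^ k * q ^ k + 1 = 2 := by simpa using h
        nlinarith
      · rw [pow_add] at h4
        omega
    · obtain ⟨x, hx'⟩ : ∃ x, q ^ k = x + 1 := ⟨q ^ k - 1, by omega⟩
      rw [hx'] at h hx hxo
      have hd : x ∣ 2 ^ i := ⟨x + 2, by linarith⟩
      have hd' : x + 2 ∣ 2 ^ i := ⟨x, by linarith⟩
      obtain ⟨m, -, hm⟩ := (Nat.dvd_prime_pow Nat.prime_two).mp hd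
      obtain ⟨n, -, hn⟩ := (Nat.dvd_prime_pow Nat.prime_two).mp hd'
      obtain ⟨m, rfl⟩ : ∃ m', m = m' + 2 := ⟨m - 2, by
        rcases m with - | - | m <;> simp at hm ⊢ <;> omega⟩
      obtain ⟨n, rfl⟩ : ∃ n', n = n' + 2 := ⟨n - 2, by
        rcases n with - | - | n <;> simp at hn ⊢ <;> omega⟩
      rw [pow_add] at hm hn
      omega
  · by_contra hne
    have hq1 : 1 < q := hq.one_lt
    have hlt : q ^ 1 < q ^ j := Nat.pow_lt_pow_right hq1 (by omega)
    rw [pow_one] at hlt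
    rcases h with h | h
    · have hd : q + 1 ∣ 2 ^ i := by
        have := hjo.nat_add_dvd_pow_add_pow q 1
        rwa [one_pow, h] at this
      obtain ⟨m, -, hm⟩ := (Nat.dvd_prime_pow Nat.prime_two).mp hd
      -- the cofactor is odd
      have hgeom : (∑ l ∈ Finset.range j, (-(q : ℤ)) ^ l) * ((q : ℤ) + 1) = (q : ℤ) ^ j + 1 := by
        have h1 := geom_sum_mul (-(q : ℤ)) j
        rw [hjo.neg_pow] at h1
        linarith
      have hS : Odd (∑ l ∈ Finset.range j, (-(q : ℤ)) ^ l) := by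
        rw [Int.odd_iff]
        have : ∀ l, (-(q : ℤ)) ^ l % 2 = 1 := fun l =>
          Int.odd_iff.mp (((Int.odd_coe_nat q).mpr hodd).neg.pow)
        rw [Finset.sum_int_mod, Finset.sum_congr rfl fun l _ => this l]
        simp only [Finset.sum_const, Finset.card_range, nsmul_eq_mul, mul_one]
        exact Int.odd_iff.mp ((Int.odd_coe_nat j).mpr hjo)
      have hmi : m ≤ i := by
        refine (Nat.pow_le_pow_iff_right (by norm_num : 1 < 2)).mp ?_
        rw [← hm, ← h]; omega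
      have heq : (∑ l ∈ Finset.range j, (-(q : ℤ)) ^ l) = 2 ^ (i - m) := by
        have h2 : ((q : ℤ) + 1) = 2 ^ m := by exact_mod_cast hm
        have h3 : (q : ℤ) ^ j + 1 = 2 ^ i := by exact_mod_cast h
        rw [h2, h3, ← Nat.sub_add_cancel hmi, pow_add] at hgeom
        exact mul_right_cancel₀ (by positivity) hgeom
      rw [heq] at hS
      have h0 : i - m = 0 := by
        by_contra h0
        exact (Int.not_even_iff_odd.mpr hS) (even_two.pow_of_ne_zero h0)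
      have : m = i := by omega
      subst this
      omega
    · have hgeom : ((∑ l ∈ Finset.range j, q ^ l : ℕ) : ℤ) * ((q : ℤ) - 1) = 2 ^ i := by
        push_cast
        rw [geom_sum_mul]
        have : (2 : ℤ) ^ i + 1 = (q : ℤ) ^ j := by exact_mod_cast h
        linarith
      have hS : Odd (∑ l ∈ Finset.range j, q ^ l) := by
        rw [Nat.odd_iff, Finset.sum_nat_mod,
          Finset.sum_congr rfl fun l _ => Nat.odd_iff.mp (hodd.pow (n := l))]
        simpa using Nat.odd_iff.mp hjo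
      have hdvd : (∑ l ∈ Finset.range j, q ^ l) ∣ 2 ^ i := by
        have : ((∑ l ∈ Finset.range j, q ^ l : ℕ) : ℤ) ∣ ((2 ^ i : ℕ) : ℤ) :=
          ⟨(q : ℤ) - 1, by push_cast at hgeom ⊢; linarith⟩
        exact_mod_cast this
      obtain ⟨m, -, hm⟩ := (Nat.dvd_prime_pow Nat.prime_two).mp hdvd
      have h0 : m = 0 := by
        by_contra h0
        rw [hm] at hS
        exact (Nat.not_even_iff_odd.mpr hS) (even_two.pow_of_ne_zero h0)
      rw [hm, h0] at hgeom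
      have h3 : (2 : ℤ) ^ i + 1 = (q : ℤ) ^ j := by exact_mod_cast h
      have h4 : (q : ℤ) < (q : ℤ) ^ j := by exact_mod_cast hlt
      simp at hgeom
      linarith

/-- A divisor of the group order prime to 3 is a product of the two other prime powers. -/
theorem exists_form {q a b f : ℕ} (hq : q.Prime) (hd : f ∣ 9 * 2 ^ a * q ^ b) (h3 : ¬ 3 ∣ f) :
    ∃ i j, i ≤ a ∧ j ≤ b ∧ f = 2 ^ i * q ^ j := by
  have hc : f.Coprime 9 := by
    rw [show (9 : ℕ) = 3 ^ 2 from rfl]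
    exact (Nat.Prime.coprime_iff_not_dvd Nat.prime_three).mpr h3 |>.symm.pow_right 2
  rw [mul_assoc] at hd
  obtain ⟨x, y, hx, hy, rfl⟩ := Nat.dvd_mul.mp (hc.dvd_of_dvd_mul_left hd)
  obtain ⟨i, hi, rfl⟩ := (Nat.dvd_prime_pow Nat.prime_two).mp hx
  obtain ⟨j, hj, rfl⟩ := (Nat.dvd_prime_pow hq).mp hy
  exact ⟨i, j, hi, hj, rfl⟩

/-- A divisor of the group order prime to q. -/
theorem exists_form_q {q a b f : ℕ} (hq : q.Prime) (hd : f ∣ 9 * 2 ^ a * q ^ b) (hf : ¬ q ∣ f) :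
    ∃ u i, u ≤ 2 ∧ f = 3 ^ u * 2 ^ i := by
  have hc : f.Coprime (q ^ b) := ((hq.coprime_iff_not_dvd).mpr hf).symm.pow_right b
  obtain ⟨x, y, hx, hy, rfl⟩ := Nat.dvd_mul.mp (hc.dvd_of_dvd_mul_right hd)
  obtain ⟨i, -, rfl⟩ := (Nat.dvd_prime_pow Nat.prime_two).mp hy
  obtain ⟨u, hu, rfl⟩ := (Nat.dvd_prime_pow Nat.prime_three).mp
    (show x ∣ 3 ^ 2 from hx)
  exact ⟨u, i, hu, rfl⟩

/-- Consecutive nontrivial degrees prime to 3. -/
theorem consecutive {q a b m : ℕ} (hq : q.Prime) (hq2 : q ≠ 2) (hq3 : q ≠ 3) (hm : 1 < m)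
    (hd : m ∣ 9 * 2 ^ a * q ^ b) (hd' : m + 1 ∣ 9 * 2 ^ a * q ^ b)
    (h3 : ¬ 3 ∣ m) (h3' : ¬ 3 ∣ m + 1) :
    ∃ i, 2 ≤ i ∧ ((m = 2 ^ i ∧ q = 2 ^ i + 1) ∨ (m + 1 = 2 ^ i ∧ m = q)) := by
  obtain ⟨i, j, -, -, hf⟩ := exists_form hq hd h3
  obtain ⟨i', j', -, -, hf'⟩ := exists_form hq hd' h3'
  have hqd : j = 0 ∨ j' = 0 := by
    by_contra! h
    have h1 : q ∣ m := hf ▸ dvd_mul_of_dvd_right (dvd_pow_self q h.1) _
    have h2 : q ∣ m + 1 := hf' ▸ dvd_mul_of_dvd_right (dvd_pow_self q h.2) _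
    exact hq.ne_one (Nat.dvd_one.mp ((Nat.dvd_add_right h1).mp h2))
  have h2d : i = 0 ∨ i' = 0 := by
    by_contra! h
    have h1 : 2 ∣ m := hf ▸ dvd_mul_of_dvd_left (dvd_pow_self 2 h.1) _
    have h2 : 2 ∣ m + 1 := hf' ▸ dvd_mul_of_dvd_left (dvd_pow_self 2 h.2) _
    omega
  have hq5 : 5 ≤ q := by
    have := hq.two_le
    by_contra hlt
    interval_cases q
    · exact hq2 rfl
    · exact hq3 rfl
    · exact absurd hq (by decide)
  have big : ∀ k : ℕ, 4 ≤ 2 ^ k → 2 ≤ k := fun k hk => by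
    rcases k with - | - | k <;> simp at hk ⊢
  rcases hqd with rfl | rfl <;> rcases h2d with rfl | rfl <;> simp at hf hf'
  · omega
  · have hj : j' ≠ 0 := by rintro rfl; simp at hf'; omega
    have := exp_eq_one hq hq2 hq3 hj (Or.inr (by rw [← hf, ← hf']))
    subst this
    exact ⟨i, big i (by simp at hf'; omega), Or.inl ⟨hf, by simp at hf'; omega⟩⟩
  · have hj : j ≠ 0 := by rintro rfl; simp at hf; omega
    have := exp_eq_one hq hq2 hq3 hj (Or.inl (by rw [← hf, hf']))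
    subst this
    simp at hf
    exact ⟨i', big i' (by omega), Or.inr ⟨hf', hf⟩⟩
  · omega

/-- Reduction of the exponent of two. -/
theorem two_pow_red {q i : ℕ} (hq : q = 2 ^ i + 1 ∨ q + 1 = 2 ^ i) (r : ℕ) :
    ∃ s : ℤ, (s = 1 ∨ s = -1) ∧ (q : ℤ) ∣ 2 ^ r - s * 2 ^ (r % i) := by
  obtain ⟨e, he, hi⟩ : ∃ e : ℤ, (e = 1 ∨ e = -1) ∧ (q : ℤ) ∣ 2 ^ i - e := by
    rcases hq with h | h
    · exact ⟨-1, Or.inr rfl, by rw [h]; push_cast; simp⟩
    · refine ⟨1, Or.inl rfl, ⟨1, ?_⟩⟩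
      have : (q : ℤ) + 1 = 2 ^ i := by exact_mod_cast h
      linarith
  refine ⟨e ^ (r / i), ?_, ?_⟩
  · rcases he with rfl | rfl
    · simp
    · exact neg_one_pow_eq_or ℤ _
  · have h := dvd_mul_of_dvd_left (hi.trans (sub_dvd_pow_sub_pow _ _ (r / i)))
      ((2 : ℤ) ^ (r % i))
    rwa [sub_mul, ← pow_mul, ← pow_add, Nat.div_add_mod] at h

/-- No small multiple of a power of two is congruent to a sign. -/
theorem eq_zero_of_modEq {q i : ℕ} (hq : q = 2 ^ i + 1 ∨ q + 1 = 2 ^ i) (h31 : 31 ≤ q) {u r : ℕ}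
    (hu : u ≤ 2) {e : ℤ} (he : e = 1 ∨ e = -1)
    (h : (q : ℤ) ∣ 3 ^ u * 2 ^ r - e) : u = 0 ∧ i ∣ r := by
  have h16 : 16 < 2 ^ i := by rcases hq with h | h <;> omega
  have hi : 4 < i := (Nat.pow_lt_pow_iff_right (by norm_num : 1 < 2)).mp (by simpa using h16)
  obtain ⟨s, hs, hr⟩ := two_pow_red hq r
  have h' : (q : ℤ) ∣ 3 ^ u * (s * 2 ^ (r % i)) - e := by
    have := dvd_sub h (hr.mul_left (3 ^ u))
    rwa [mul_sub, sub_sub_sub_cancel_left] at this
  -- hence the small representative is congruent to a sign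
  obtain ⟨f, hf, h''⟩ : ∃ f : ℤ, (f = 1 ∨ f = -1) ∧ (q : ℤ) ∣ 3 ^ u * 2 ^ (r % i) - f := by
    rcases hs with rfl | rfl
    · exact ⟨e, he, by simpa using h'⟩
    · refine ⟨-e, by omega, ?_⟩
      have := h'.neg_right
      ring_nf at this ⊢
      exact this
  set j := r % i with hj
  have hji : j < i := Nat.mod_lt _ (by omega)
  have h3 : (3 : ℤ) ^ u ≤ 9 := by
    interval_cases u <;> norm_num
  have h3' : (1 : ℤ) ≤ 3 ^ u := one_le_pow₀ (by norm_num)
  have hqi : (2 : ℤ) ^ i - 1 ≤ q := by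
    rcases hq with h | h
    · have : (q : ℤ) = 2 ^ i + 1 := by exact_mod_cast h
      linarith
    · have : (q : ℤ) + 1 = 2 ^ i := by exact_mod_cast h
      linarith
  by_cases hsmall : j + 4 ≤ i
  · have h0 : (3 : ℤ) ^ u * 2 ^ j - f = 0 := by
      refine Int.eq_zero_of_abs_lt_dvd h'' ?_
      have h16' : (2 : ℤ) ^ j * 16 ≤ 2 ^ i := by
        rw [show (16 : ℤ) = 2 ^ 4 by norm_num, ← pow_add]
        exact pow_le_pow_right₀ (by norm_num) hsmall
      have hp : (1 : ℤ) ≤ 2 ^ j := one_le_pow₀ (by norm_num)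
      rw [abs_lt]
      constructor <;> rcases hf with rfl | rfl <;> nlinarith
    have hf1 : f = 1 := by
      rcases hf with rfl | rfl
      · rfl
      · have : (0 : ℤ) < 3 ^ u * 2 ^ j := by positivity
        omega
    subst hf1
    have hone : 3 ^ u * 2 ^ j = 1 := by exact_mod_cast sub_eq_zero.mp h0
    obtain ⟨hu1, hj1⟩ := mul_eq_one.mp hone
    refine ⟨?_, Nat.dvd_of_mod_eq_zero ?_⟩
    · simpa using hu1
    · rw [← hj]; simpa using hj1
  · exfalso
    obtain ⟨k, hk1, hk4, hk⟩ : ∃ k, 1 ≤ k ∧ k ≤ 3 ∧ j + k = i := ⟨i - j, by omega, by omega, by omega⟩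
    obtain ⟨g, hg, hgi⟩ : ∃ g : ℤ, (g = 1 ∨ g = -1) ∧ (q : ℤ) ∣ 2 ^ i - g := by
      rcases hq with h | h
      · exact ⟨-1, Or.inr rfl, by rw [h]; push_cast; simp⟩
      · refine ⟨1, Or.inl rfl, ⟨1, ?_⟩⟩
        have : (q : ℤ) + 1 = 2 ^ i := by exact_mod_cast h
        linarith
    have h5 : (q : ℤ) ∣ 3 ^ u * g - f * 2 ^ k := by
      have := dvd_sub (h''.mul_right (2 ^ k)) (hgi.mul_left (3 ^ u))
      rw [sub_mul, mul_assoc, ← pow_add, hk, mul_sub] at this
      rwa [sub_sub_sub_cancel_left] at this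
    have hne : (3 : ℤ) ^ u * g - f * 2 ^ k ≠ 0 := by
      interval_cases k <;> interval_cases u <;> rcases hg with rfl | rfl <;>
        rcases hf with rfl | rfl <;> norm_num
    have := Int.le_of_dvd (abs_pos.mpr hne) ((dvd_abs _ _).mpr h5)
    have h31' : (31 : ℤ) ≤ q := by exact_mod_cast h31
    have h8 : (2 : ℤ) ^ k ≤ 8 := by interval_cases k <;> norm_num
    have h0 : (0 : ℤ) ≤ 2 ^ k := by positivity
    rcases hg with rfl | rfl <;> rcases hf with rfl | rfl <;>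
      rcases abs_cases ((3 : ℤ) ^ u * _ - _ * 2 ^ k) with ⟨e, -⟩ | ⟨e, -⟩ <;> rw [e] at this <;>
      linarith

end Cfsg.Agent.Lib.Order9TwoQ
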