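import Mathlib
import Cfsg.Agent.Lib.Chars.Ops

/-!
# The automizer of a Sylow 3-subgroup of order nine with three classes of 3-elements
-/

set_option autoImplicit false

namespace Cfsg.Agent.Lib.Order9TwoQ

open Subgroup

universe u

section aut

variable {A : Type u} [Group A] [Finite A] (E : Subgroup (MulAut A))

/-- The fixed subgroup of an automorphism. -/
def fixSub (σ : MulAut A) : Subgroup A where
  carrier := {a | σ a = a}
  one_mem' := map_one σ
  mul_mem' := fun {a b} (ha : σ a = a) (hb : σ b = b) => by show σ (a * b) = a * b; rw [map_mul, ha, hb]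
  inv_mem' := fun {a} (ha : σ a = a) => by show σ a⁻¹ = a⁻¹; rw [map_inv, ha]

theorem mem_fixSub {σ : MulAut A} {a : A} : a ∈ fixSub σ ↔ σ a = a := Iff.rfl

theorem card_fixSub (hA : Nat.card A = 9) {σ : MulAut A} (hσ : σ ≠ 1) :
    Nat.card (fixSub σ) = 1 ∨ Nat.card (fixSub σ) = 3 := by
  have hd : Nat.card (fixSub σ) ∣ 3 ^ 2 := by
    rw [show 3 ^ 2 = Nat.card A by rw [hA]; rfl]
    exact card_subgroup_dvd_card _
  obtain ⟨k, hk, hk'⟩ := (Nat.dvd_prime_pow Nat.prime_three).mp hd
  interval_cases k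
  · exact Or.inl hk'
  · exact Or.inr hk'
  · exfalso
    refine hσ (MulEquiv.ext fun a => ?_)
    have : fixSub σ = ⊤ := eq_top_of_card_eq _ (by rw [hk', hA]; rfl)
    exact mem_fixSub.mp (this ▸ mem_top a)

/-- Coprime automizers of a group of order nine with at least four orbits. -/
theorem automizer_cases (hA : Nat.card A = 9) (hc : ∀ a b : A, a * b = b * a)
    (h3 : ¬ 3 ∣ Nat.card E) (hfix : ∀ a : A, (∀ σ ∈ E, σ a = a) → a = 1)
    (horb : 4 ≤ Nat.card (Quotient (MulAction.orbitRel E A))) :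
    ((∀ σ ∈ E, σ = 1 ∨ ∀ a, σ a = a⁻¹) ∧ ∃ σ ∈ E, ∀ a, σ a = a⁻¹) ∨
      ∃ a b : A, a ≠ 1 ∧ b ≠ 1 ∧ a ^ 3 = 1 ∧ b ^ 3 = 1 ∧ b ∉ zpowers a ∧
        (∀ σ ∈ E, (σ a = a ∨ σ a = a⁻¹) ∧ (σ b = b ∨ σ b = b⁻¹)) ∧
        (∃ σ ∈ E, σ a = a⁻¹ ∧ σ b = b) ∧ ∃ σ ∈ E, σ a = a ∧ σ b = b⁻¹ := by
  classical
  haveI : Finite (MulAut A) := Finite.of_injective _ DFunLike.coe_injective
  cases nonempty_fintype A
  haveI : Fintype E := Fintype.ofFinite _
  have hne : ∃ a : A, a ≠ 1 := by
    haveI : Nontrivial A := Finite.one_lt_card_iff_nontrivial.mp (by omega)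
    exact exists_ne 1
  have hburn : ∑ σ : E, Fintype.card (MulAction.fixedBy A σ) =
      Nat.card (Quotient (MulAction.orbitRel E A)) * Fintype.card E := by
    rw [Nat.card_eq_fintype_card]
    exact MulAction.sum_card_fixedBy_eq_card_orbits_mul_card_group E A
  have hfc : ∀ σ : E, Fintype.card (MulAction.fixedBy A σ) = Nat.card (fixSub (σ : MulAut A)) :=
    fun σ => by
      rw [← Nat.card_eq_fintype_card]
      exact Nat.card_congr (Equiv.subtypeEquivRight fun a => Iff.rfl)
  have h1 : Fintype.card (MulAction.fixedBy A (1 : E)) = 9 := by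
    rw [hfc, ← hA]
    exact Nat.card_congr (Equiv.subtypeUnivEquiv fun a => mem_fixSub.mpr rfl)
  have hle : ∀ σ : E, σ ≠ 1 → Fintype.card (MulAction.fixedBy A σ) ≤ 3 := fun σ hσ => by
    rw [hfc]
    have := card_fixSub hA (σ := (σ : MulAut A)) fun h => hσ (Subtype.ext h)
    omega
  have hsum := Finset.add_sum_erase (Finset.univ) (fun σ : E => Fintype.card (MulAction.fixedBy A σ))
    (Finset.mem_univ 1)
  have hbound := Finset.sum_le_card_nsmul (Finset.univ.erase (1 : E)) _ 3
    (fun σ hσ => hle σ (Finset.ne_of_mem_erase hσ))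
  rw [Finset.card_erase_of_mem (Finset.mem_univ _), Finset.card_univ, smul_eq_mul] at hbound
  have h4 := Nat.mul_le_mul_right (Fintype.card E) horb
  have hpos : 0 < Fintype.card E := Fintype.card_pos
  have hcardE : Nat.card E = Fintype.card E := Nat.card_eq_fintype_card
  rw [hcardE] at h3
  have hsmall : Fintype.card E ≤ 6 := by omega
  -- an element with trivial fixed points of order two inverts
  have hinv : ∀ σ : MulAut A, σ * σ = 1 → (∀ a, σ a = a → a = 1) → ∀ a, σ a = a⁻¹ := fun σ hσ h a => by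
    refine eq_inv_of_mul_eq_one_right (h _ ?_)
    rw [map_mul, ← MulAut.mul_apply, hσ, MulAut.one_apply, hc]
  interval_cases hn : Fintype.card E
  · exfalso
    obtain ⟨a, ha⟩ := hne
    refine ha (hfix a fun σ hσ => ?_)
    have hs : (⟨σ, hσ⟩ : E) = 1 := Fintype.card_le_one_iff.mp hn.le _ _
    rw [show σ = 1 from congrArg Subtype.val hs]
    rfl
  · left
    obtain ⟨σ, hσ, huniq⟩ := (Nat.card_eq_two_iff' (1 : E)).mp (by rw [hcardE])
    have hsq : (σ : MulAut A) * σ = 1 := by
      have h := pow_card_eq_one' (x := σ)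
      rw [hcardE, pow_two] at h
      exact congrArg Subtype.val h
    have hfixσ : ∀ a, (σ : MulAut A) a = a → a = 1 := fun a ha => hfix a fun τ hτ => by
      by_cases h : (⟨τ, hτ⟩ : E) = 1
      · rw [show τ = 1 from congrArg Subtype.val h]; rfl
      · rw [show τ = σ from congrArg Subtype.val (huniq _ h)]; exact ha
    refine ⟨fun τ hτ => ?_, σ, σ.2, hinv _ hsq hfixσ⟩
    by_cases h : (⟨τ, hτ⟩ : E) = 1
    · exact Or.inl (congrArg Subtype.val h)
    · rw [show τ = σ from congrArg Subtype.val (huniq _ h)]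
      exact Or.inr (hinv _ hsq hfixσ)
  · omega
  · right
    -- two elements have nontrivial fixed points
    let U := (Finset.univ.erase (1 : E)).filter fun σ => Fintype.card (MulAction.fixedBy A σ) = 3
    have hU : 2 ≤ U.card := by
      have hsplit := Finset.sum_filter_add_sum_filter_not (Finset.univ.erase (1 : E))
        (fun σ => Fintype.card (MulAction.fixedBy A σ) = 3)
        (fun σ => Fintype.card (MulAction.fixedBy A σ))
      have hA1 := Finset.sum_le_card_nsmul U _ 3 (fun σ hσ => (Finset.mem_filter.mp hσ).2.le)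
      have hA2 := Finset.sum_le_card_nsmul ((Finset.univ.erase (1 : E)).filter
        fun σ => ¬ Fintype.card (MulAction.fixedBy A σ) = 3)
        (fun σ => Fintype.card (MulAction.fixedBy A σ)) 1 (fun σ hσ => by
          obtain ⟨hσ1, hσ2⟩ := Finset.mem_filter.mp hσ
          have hne1 := Finset.ne_of_mem_erase hσ1
          have := card_fixSub hA (σ := (σ : MulAut A)) fun h => hne1 (Subtype.ext h)
          rw [← hfc] at this
          exact (this.resolve_right hσ2).le)
      have hcnt := Finset.card_filter_add_card_filter_not (s := Finset.univ.erase (1 : E))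
        (fun σ => Fintype.card (MulAction.fixedBy A σ) = 3)
      rw [Finset.card_erase_of_mem (Finset.mem_univ _), Finset.card_univ, hn] at hcnt
      simp only [smul_eq_mul, U] at hA1 hA2 ⊢
      omega
    obtain ⟨σ, hσU, τ, hτU, hστ⟩ := Finset.one_lt_card.mp hU
    have hcomm : ∀ x y : E, x * y = y * x :=
      IsPGroup.commutative_of_card_eq_prime_sq (p := 2) (G := E) (by rw [hcardE]; rfl)
    -- the fixed points of a member of U
    have hmem : ∀ x ∈ U, x ≠ 1 ∧ ∃ c : A, c ≠ 1 ∧ c ^ 3 = 1 ∧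
        ∀ d : A, (x : MulAut A) d = d → d ∈ zpowers c := by
      intro x hx
      obtain ⟨hx1, hx3⟩ := Finset.mem_filter.mp hx
      rw [hfc] at hx3
      haveI : Nontrivial (fixSub (x : MulAut A)) :=
        Finite.one_lt_card_iff_nontrivial.mp (by omega)
      obtain ⟨c, hc1⟩ := exists_ne (1 : fixSub (x : MulAut A))
      haveI : Fact (Nat.Prime 3) := ⟨Nat.prime_three⟩
      refine ⟨Finset.ne_of_mem_erase hx1, c, fun h => hc1 (Subtype.ext h), ?_, fun d hd => ?_⟩
      · have := congrArg Subtype.val (pow_card_eq_one' (x := c))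
        rwa [hx3] at this
      · obtain ⟨k, hk⟩ := Subgroup.mem_zpowers_iff.mp
          (mem_zpowers_of_prime_card hx3 hc1 : (⟨d, hd⟩ : fixSub (x : MulAut A)) ∈ zpowers c)
        exact Subgroup.mem_zpowers_iff.mpr ⟨k, congrArg Subtype.val hk⟩
    obtain ⟨hσ1, a, ha1, ha3, ha⟩ := hmem σ hσU
    obtain ⟨hτ1, b, hb1, hb3, hb⟩ := hmem τ hτU
    have hfixed : ∀ x : E, x ∈ U → ∀ c : A, c ≠ 1 → c ^ 3 = 1 →
        (∀ d : A, (x : MulAut A) d = d → d ∈ zpowers c) → (x : MulAut A) c = c := by
      intro x hx c hc1 hc3 hxc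
      obtain ⟨hx1, hx3⟩ := Finset.mem_filter.mp hx
      rw [hfc] at hx3
      have hlec : fixSub (x : MulAut A) ≤ zpowers c := fun d hd => hxc d hd
      have heq : fixSub (x : MulAut A) = zpowers c := eq_of_le_of_card_ge hlec (by
        rw [hx3, Nat.card_zpowers]
        exact Nat.le_of_dvd (by norm_num) (orderOf_dvd_of_pow_eq_one hc3))
      exact mem_fixSub.mp (heq ▸ mem_zpowers c)
    have hσa := hfixed σ hσU a ha1 ha3 ha
    have hτb := hfixed τ hτU b hb1 hb3 hb
    -- nothing nontrivial is fixed by both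
    have hboth : ∀ c : A, (σ : MulAut A) c = c → (τ : MulAut A) c = c → c = 1 := by
      intro c hc1 hc2
      refine hfix c fun x hx => ?_
      let S : Subgroup E := (MulAction.stabilizer E c)
      have hσS : σ ∈ S := hc1
      have hτS : τ ∈ S := hc2
      have hS : S = ⊤ := by
        refine eq_top_of_card_eq _ ?_
        have h3' : 3 ≤ Nat.card S := by
          rw [Nat.card_eq_fintype_card, Fintype.card_subtype]
          refine le_trans (le_of_eq ?_) (Finset.card_le_card (s := {1, σ, τ}) fun y hy => ?_)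
          · rw [Finset.card_insert_of_notMem (by simp [hσ1.symm, hτ1.symm]),
              Finset.card_insert_of_notMem (by simp [hστ]), Finset.card_singleton]
          · simp only [Finset.mem_insert, Finset.mem_singleton] at hy
            rw [Finset.mem_filter]
            refine ⟨Finset.mem_univ _, ?_⟩
            rcases hy with rfl | rfl | rfl
            exacts [one_mem _, hσS, hτS]
        have hd : Nat.card S ∣ 4 := (by rw [← hcardE]; exact card_subgroup_dvd_card S)
        have := Nat.le_of_dvd (by norm_num) hd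
        rw [hcardE]
        interval_cases h' : Nat.card S
        · omega
        · rfl
      exact (hS ▸ mem_top (⟨x, hx⟩ : E) : (⟨x, hx⟩ : E) ∈ S)
    -- every member preserves both lines
    have hpow : ∀ c d : A, c ^ 3 = 1 → d ∈ zpowers c → d = 1 ∨ d = c ∨ d = c⁻¹ := by
      intro c d hc3 hd
      obtain ⟨k, rfl⟩ := Subgroup.mem_zpowers_iff.mp hd
      have hk : c ^ k = c ^ (k % 3) := by
        conv_lhs => rw [← Int.emod_add_mul_ediv k 3, zpow_add, zpow_mul, zpow_ofNat, hc3, one_zpow,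
          mul_one]
      rw [hk]
      have h0 := Int.emod_nonneg k (by norm_num : (3 : ℤ) ≠ 0)
      have h2 := Int.emod_lt_of_pos k (by norm_num : (0 : ℤ) < 3)
      interval_cases h : k % 3
      · exact Or.inl (zpow_zero c)
      · exact Or.inr (Or.inl (zpow_one c))
      · refine Or.inr (Or.inr (eq_inv_of_mul_eq_one_left ?_))
        rw [← zpow_add_one, show (2 : ℤ) + 1 = ((3 : ℕ) : ℤ) from rfl, zpow_natCast, hc3]
    have hline : ∀ (y : E) (c : A), c ≠ 1 → c ^ 3 = 1 → (y : MulAut A) c = c →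
        (∀ d : A, (y : MulAut A) d = d → d ∈ zpowers c) →
        ∀ x : E, (x : MulAut A) c = c ∨ (x : MulAut A) c = c⁻¹ := by
      intro y c hc1 hc3 hyc hy x
      rcases hpow c _ hc3 (hy ((x : MulAut A) c) (by
        rw [← MulAut.mul_apply, ← coe_mul, hcomm, coe_mul, MulAut.mul_apply, hyc])) with h | h
      · exact absurd ((map_eq_one_iff _ (MulEquiv.injective _)).mp h) hc1
      · exact h
    have hla := hline σ a ha1 ha3 hσa ha
    have hlb := hline τ b hb1 hb3 hτb hb
    refine ⟨a, b, ha1, hb1, ha3, hb3, fun hba => ?_, fun x hx => ⟨hla ⟨x, hx⟩, hlb ⟨x, hx⟩⟩,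
      ⟨τ, τ.2, (hla τ).resolve_left fun h => ha1 (hboth a hσa h), hτb⟩,
      ⟨σ, σ.2, hσa, (hlb σ).resolve_left fun h => hb1 (hboth b h hτb)⟩⟩
    obtain ⟨k, rfl⟩ := Subgroup.mem_zpowers_iff.mp hba
    exact hb1 (hboth _ (by rw [map_zpow, hσa]) hτb)
  · exfalso
    haveI : Fact (Nat.Prime 5) := ⟨by norm_num⟩
    have h5 : IsPGroup 5 E := IsPGroup.of_card (n := 1) (by rw [hcardE]; rfl)
    have hmod := h5.card_modEq_card_fixedPoints (α := A)
    have hone : Nat.card (MulAction.fixedPoints E A) = 1 := by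
      rw [Nat.card_eq_one_iff_unique]
      exact ⟨⟨fun x y => Subtype.ext ((hfix x.1 fun σ hσ => x.2 ⟨σ, hσ⟩).trans
        (hfix y.1 fun σ hσ => y.2 ⟨σ, hσ⟩).symm)⟩, ⟨⟨1, fun σ => map_one (σ : MulAut A)⟩⟩⟩
    rw [hA, hone] at hmod
    exact absurd hmod (by decide)
  · omega

end aut

end Cfsg.Agent.Lib.Order9TwoQ
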