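import Mathlib
import Cfsg.Prelude.Def_Transfer
import Cfsg.Agent.Lib.Order9TwoQ.Basic
import Cfsg.Agent.Lib.SmallGroups.Basic

/-!
# Local structure at the prime three
-/

set_option autoImplicit false
set_option linter.unusedSectionVars false

namespace Cfsg.Agent.Lib.Order9TwoQ

open Cfsg Subgroup
open Cfsg.Agent.Lib

universe u

variable {G : Type u} [Group G] [Finite G]

theorem fact_three' : Fact (Nat.Prime 3) := ⟨Nat.prime_three⟩

attribute [local instance] fact_three'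

variable (R : Sylow 3 G) (hR : Nat.card (R : Subgroup G) = 9)

include hR

theorem comm_mem {u v : G} (hu : u ∈ (R : Subgroup G)) (hv : v ∈ (R : Subgroup G)) :
    u * v = v * u :=
  congrArg Subtype.val (IsPGroup.commutative_of_card_eq_prime_sq (p := 3) (G := (R : Subgroup G))
    (by rw [hR]; rfl) ⟨u, hu⟩ ⟨v, hv⟩)

theorem isMulCommutative_sylow : IsMulCommutative (R : Subgroup G) :=
  ⟨⟨fun a b => Subtype.ext (comm_mem R hR a.2 b.2)⟩⟩

theorem le_centralizer_self {u : G} (hu : u ∈ (R : Subgroup G)) :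
    (R : Subgroup G) ≤ centralizer ({u} : Set G) := fun w hw =>
  mem_centralizer_singleton_iff.mpr (comm_mem R hR hw hu)

/-- Fusion in the Sylow subgroup is controlled by its normalizer. -/
theorem fusion {u v : G} (hu : u ∈ (R : Subgroup G)) (hv : v ∈ (R : Subgroup G))
    (h : IsConj u v) :
    ∃ n ∈ normalizer ((R : Subgroup G) : Set G), n * u * n⁻¹ = v := by
  obtain ⟨g, hg⟩ := isConj_iff.mp h
  have hc : ∀ w ∈ (R : Subgroup G), w ∈ centralizer ((R : Subgroup G) : Set G) := fun w hw =>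
    mem_centralizer_iff.mpr fun x hx => comm_mem R hR hx hw
  have hgu : g⁻¹⁻¹ * u * g⁻¹ = v := by rw [inv_inv, hg]
  obtain ⟨n, hn, he⟩ := R.conj_eq_normalizer_conj_of_mem_centralizer u g⁻¹ (hc u hu)
    (hgu.symm ▸ hc v hv)
  exact ⟨n⁻¹, inv_mem hn, by rw [inv_inv, ← he, hgu]⟩

/-- Every 3-element has a conjugate in the Sylow subgroup. -/
theorem exists_conj_mem {x : G} (hx : ∃ k : ℕ, orderOf x = 3 ^ k) :
    ∃ u ∈ (R : Subgroup G), IsConj x u := by
  obtain ⟨k, hk⟩ := hx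
  obtain ⟨S, hS⟩ := (IsPGroup.of_card (n := k) (G := zpowers x)
    (by rw [Nat.card_zpowers, hk])).exists_le_sylow
  obtain ⟨c, hc⟩ := MulAction.exists_smul_eq G S R
  refine ⟨c * x * c⁻¹, ?_, isConj_iff.mpr ⟨c, rfl⟩⟩
  rw [← hc]
  exact Subgroup.mem_map.mpr ⟨x, hS (mem_zpowers x), rfl⟩

theorem exists_pow_of_mem {u : G} (hu : u ∈ (R : Subgroup G)) : ∃ k : ℕ, orderOf u = 3 ^ k := by
  obtain ⟨k, hk⟩ := (IsPGroup.iff_orderOf.mp R.isPGroup') ⟨u, hu⟩
  exact ⟨k, by rwa [Subgroup.orderOf_mk] at hk⟩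

/-- No nontrivial element of the Sylow subgroup is centralized by its normalizer. -/
theorem eq_one_of_fixed [IsSimpleGroup G] (hG : ¬ IsMulCommutative G) {u : G}
    (hu : u ∈ (R : Subgroup G))
    (hfix : ∀ n ∈ normalizer ((R : Subgroup G) : Set G), n * u * n⁻¹ = u) : u = 1 := by
  letI : CommGroup (R : Subgroup G) :=
    { (inferInstance : Group (R : Subgroup G)) with
      mul_comm := fun a b => Subtype.ext (comm_mem R hR a.2 b.2) }
  have key : ∀ (k : ℕ) (g₀ : G), g₀⁻¹ * u ^ k * g₀ ∈ (R : Subgroup G) →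
      g₀⁻¹ * u ^ k * g₀ = u ^ k := by
    intro k g₀ h
    obtain ⟨n, hn, he⟩ := fusion R hR (pow_mem hu k) h (isConj_iff.mpr ⟨g₀⁻¹, by rw [inv_inv]⟩)
    rw [← he, ← conj_pow, hfix n hn]
  have hφ := SmallGroups.hom_commGroup_eq_one hG
    (MonoidHom.transfer (MonoidHom.id (R : Subgroup G))) u
  rw [MonoidHom.transfer_eq_pow _ _ key] at hφ
  have h1 : u ^ (R : Subgroup G).index = 1 := congrArg Subtype.val hφ
  have h2 : u ^ 9 = 1 := by
    have := congrArg Subtype.val (pow_card_eq_one' (x := (⟨u, hu⟩ : (R : Subgroup G))))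
    rwa [hR] at this
  have hcop : Nat.gcd (R : Subgroup G).index 9 = 1 := by
    rw [show (9 : ℕ) = 3 ^ 2 from rfl]
    exact ((Nat.prime_three.coprime_iff_not_dvd).mpr R.not_dvd_index).symm.pow_right 2
  have := pow_gcd_eq_one.mpr ⟨h1, h2⟩
  rwa [hcop, pow_one] at this

/-- Centralizers with no fusion have normal complements. -/
theorem hasNormalPComplement_centralizer {u : G} (hu : u ∈ (R : Subgroup G))
    (hfus : ∀ n ∈ normalizer ((R : Subgroup G) : Set G), n * u * n⁻¹ = u →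
      n ∈ centralizer ((R : Subgroup G) : Set G)) :
    HasNormalPComplement 3 (centralizer ({u} : Set G)) := by
  set C := centralizer ({u} : Set G)
  have hPC : (R : Subgroup G) ≤ C := le_centralizer_self R hR hu
  let PC : Sylow 3 C := R.subtype hPC
  refine ⟨PC, _, inferInstance, MonoidHom.ker_transferSylow_isComplement' PC fun n hn => ?_⟩
  have hnN : (n : G) ∈ normalizer ((R : Subgroup G) : Set G) := by
    rw [mem_normalizer_iff]
    intro w
    refine ⟨fun hw => ?_, fun hw => ?_⟩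
    · have := (mem_normalizer_iff.mp hn ⟨w, hPC hw⟩).mp (mem_subgroupOf.mpr hw)
      simpa [PC, mem_subgroupOf] using this
    · have hwC : w ∈ C := by
        have h1 : w = (n : G)⁻¹ * ((n : G) * w * (n : G)⁻¹) * n := by group
        rw [h1]
        exact mul_mem (mul_mem (inv_mem n.2) (hPC hw)) n.2
      have := (mem_normalizer_iff.mp hn ⟨w, hwC⟩).mpr (mem_subgroupOf.mpr hw)
      simpa [PC, mem_subgroupOf] using this
  have := mem_centralizer_iff.mp (hfus n hnN (by
    rw [mem_centralizer_singleton_iff.mp n.2, mul_inv_cancel_right]))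
  rw [mem_centralizer_iff]
  intro w hw
  exact Subtype.ext (this w (mem_subgroupOf.mp hw))

omit hR

/-- Inversion type: the normalizer acts on the Sylow subgroup as plus or minus one. -/
structure InvType : Prop where
  card : Nat.card (R : Subgroup G) = 9
  dich : ∀ n ∈ normalizer ((R : Subgroup G) : Set G),
    (∀ u ∈ (R : Subgroup G), n * u * n⁻¹ = u) ∨ ∀ u ∈ (R : Subgroup G), n * u * n⁻¹ = u⁻¹
  exists_inv : ∃ n ∈ normalizer ((R : Subgroup G) : Set G),
    ∀ u ∈ (R : Subgroup G), n * u * n⁻¹ = u⁻¹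

/-- Klein type with axes a and b. -/
structure KleinType (a b : G) : Prop where
  card : Nat.card (R : Subgroup G) = 9
  mem_a : a ∈ (R : Subgroup G)
  mem_b : b ∈ (R : Subgroup G)
  a_ne : a ≠ 1
  b_ne : b ≠ 1
  a_cube : a ^ 3 = 1
  b_cube : b ^ 3 = 1
  notMem : b ∉ zpowers a
  axes : ∀ n ∈ normalizer ((R : Subgroup G) : Set G),
    (n * a * n⁻¹ = a ∨ n * a * n⁻¹ = a⁻¹) ∧ (n * b * n⁻¹ = b ∨ n * b * n⁻¹ = b⁻¹)
  refl_a : ∃ n ∈ normalizer ((R : Subgroup G) : Set G), n * a * n⁻¹ = a⁻¹ ∧ n * b * n⁻¹ = b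
  refl_b : ∃ n ∈ normalizer ((R : Subgroup G) : Set G), n * a * n⁻¹ = a ∧ n * b * n⁻¹ = b⁻¹

include hR

/-- The two possible local types. -/
theorem local_types [IsSimpleGroup G] (hG : ¬ IsMulCommutative G)
    (h3 : 3 ≤ Nat.card {C : ConjClasses G // ∃ g ∈ C.carrier, g ≠ 1 ∧ orderOf g ∣ 9}) :
    InvType R ∨ ∃ a b, KleinType R a b := by
  classical
  let A := (R : Subgroup G)
  let N := normalizer (A : Set G)
  let f : N →* MulAut A := A.normalizerMonoidHom
  have hf : ∀ (n : N) (w : A), ((f n w : A) : G) = (n : G) * w * (n : G)⁻¹ := fun n w => rfl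
  have hE3 : ¬ 3 ∣ Nat.card f.range := by
    intro h
    have hker : A.subgroupOf N ≤ f.ker := fun n hn => by
      rw [MonoidHom.mem_ker]
      refine MulEquiv.ext fun w => Subtype.ext ?_
      rw [hf, comm_mem R hR (mem_subgroupOf.mp hn) w.2, mul_inv_cancel_right]
      rfl
    have h1 : Nat.card f.range ∣ A.index := by
      rw [← Subgroup.index_ker]
      exact (Subgroup.index_dvd_of_le hker).trans
        ⟨N.index, (relIndex_mul_index le_normalizer).symm⟩
    exact R.not_dvd_index (h.trans h1)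
  have hfix : ∀ w : A, (∀ σ ∈ f.range, σ w = w) → w = 1 := fun w hw =>
    Subtype.ext (eq_one_of_fixed R hR hG w.2 fun n hn => by
      have := congrArg Subtype.val (hw (f ⟨n, hn⟩) ⟨⟨n, hn⟩, rfl⟩)
      rwa [hf] at this)
  have horb : 4 ≤ Nat.card (Quotient (MulAction.orbitRel f.range A)) := by
    let T := {C : ConjClasses G // ∃ g ∈ C.carrier, g ≠ 1 ∧ orderOf g ∣ 9}
    have hrep : ∀ C : T, ∃ w : A, ConjClasses.mk (w : G) = C.1 ∧ w ≠ 1 := by
      rintro ⟨C, g, hg, hg1, hg9⟩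
      obtain ⟨k, -, hk⟩ := (Nat.dvd_prime_pow Nat.prime_three).mp (show orderOf g ∣ 3 ^ 2 from hg9)
      obtain ⟨v, hv, hgv⟩ := exists_conj_mem R hR ⟨k, hk⟩
      refine ⟨⟨v, hv⟩, ?_, fun h => hg1 ?_⟩
      · exact (ConjClasses.mk_eq_mk_iff_isConj.mpr hgv.symm).trans
          (ConjClasses.mem_carrier_iff_mk_eq.mp hg)
      · have : v = 1 := congrArg Subtype.val h
        rw [this] at hgv
        exact isConj_one_left.mp hgv
    choose rep hrep1 hrep2 using hrep
    let F : Option T → Quotient (MulAction.orbitRel f.range A) :=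
      fun o => ⟦o.elim 1 rep⟧
    have hFinj : Function.Injective F := by
      have key : ∀ C : T, ∀ w : A, (⟦rep C⟧ : Quotient (MulAction.orbitRel f.range A)) = ⟦w⟧ →
          IsConj (rep C : G) w := by
        intro C w h
        obtain ⟨⟨σ, n, rfl⟩, hσ⟩ := MulAction.orbitRel_apply.mp (Quotient.exact h)
        have h2 := congrArg Subtype.val hσ
        refine isConj_iff.mpr ⟨(n : G)⁻¹, ?_⟩
        rw [← h2]
        show (n : G)⁻¹ * ((f n w : A) : G) * (n : G)⁻¹⁻¹ = w
        rw [hf]; group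
      rintro (- | C) (- | D) h
      · rfl
      · exact absurd (isConj_one_left.mp (key D 1 h.symm)) fun e => hrep2 D (Subtype.ext e)
      · exact absurd (isConj_one_left.mp (key C 1 h)) fun e => hrep2 C (Subtype.ext e)
      · refine congrArg some (Subtype.ext ?_)
        rw [← hrep1 C, ← hrep1 D]
        exact ConjClasses.mk_eq_mk_iff_isConj.mpr (key C (rep D) h)
    have hcard := Nat.card_le_card_of_injective F hFinj
    rw [Finite.card_option] at hcard
    exact (Nat.succ_le_succ h3).trans hcard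
  rcases automizer_cases f.range hR (fun x y => Subtype.ext (comm_mem R hR x.2 y.2)) hE3 hfix horb
    with ⟨hd, σ, hσ, hinv⟩ | ⟨a, b, ha, hb, ha3, hb3, hba, hax, ⟨σ, hσ, hσa, hσb⟩, τ, hτ, hτa, hτb⟩
  · refine Or.inl ⟨hR, fun n hn => ?_, ?_⟩
    · rcases hd (f ⟨n, hn⟩) ⟨⟨n, hn⟩, rfl⟩ with h | h
      · refine Or.inl fun v hv => ?_
        have := congrArg (fun s : MulAut A => ((s ⟨v, hv⟩ : A) : G)) h
        rwa [hf] at this
      · refine Or.inr fun v hv => ?_
        have := congrArg Subtype.val (h ⟨v, hv⟩)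
        rwa [hf] at this
    · obtain ⟨⟨n, hn⟩, rfl⟩ := hσ
      refine ⟨n, hn, fun v hv => ?_⟩
      have := congrArg Subtype.val (hinv ⟨v, hv⟩)
      rwa [hf] at this
  · obtain ⟨n, rfl⟩ := hσ
    obtain ⟨m, rfl⟩ := hτ
    have hval : ∀ (k : N) (w v : A), f k w = v → (k : G) * w * (k : G)⁻¹ = v := fun k w v h => by
      rw [← hf, h]
    refine Or.inr ⟨a, b, hR, a.2, b.2, fun h => ha (Subtype.ext h), fun h => hb (Subtype.ext h),
      congrArg Subtype.val ha3, congrArg Subtype.val hb3, fun h => hba ?_, fun k hk => ?_,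
      ⟨n, n.2, hval n a _ hσa, hval n b _ hσb⟩, ⟨m, m.2, hval m a _ hτa, hval m b _ hτb⟩⟩
    · obtain ⟨z, hz⟩ := Subgroup.mem_zpowers_iff.mp h
      exact Subgroup.mem_zpowers_iff.mpr ⟨z, Subtype.ext (by rw [← hz]; simp)⟩
    · obtain ⟨h1, h2⟩ := hax (f ⟨k, hk⟩) ⟨⟨k, hk⟩, rfl⟩
      exact ⟨h1.imp (hval ⟨k, hk⟩ a _) (hval ⟨k, hk⟩ a _),
        h2.imp (hval ⟨k, hk⟩ b _) (hval ⟨k, hk⟩ b _)⟩

end Cfsg.Agent.Lib.Order9TwoQ
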