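import Mathlib
import Cfsg.Agent.Lib.Order9TwoQ.Setting
import Cfsg.Agent.Lib.PairPSolv.Count
import Cfsg.Agent.Lib.PairPSolv.Coherent
import Cfsg.Agent.Lib.H66.SmallCofactor.Basic

/-!
# The principal 3-block with inverting automizer
-/

set_option autoImplicit false
set_option linter.unusedSectionVars false

namespace Cfsg.Agent.Lib.Order9TwoQ

open Cfsg Subgroup
open Cfsg.Agent.Lib
open scoped ComplexConjugate

universe u

attribute [local instance] fact_three'

variable {G : Type u} [Group G] [Fintype G]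

theorem card_dual {A : Type u} [Group A] [Finite A] (hc : ∀ a b : A, a * b = b * a) :
    Nat.card (A →* ℂˣ) = Nat.card A := by
  letI : CommGroup A := { (inferInstance : Group A) with mul_comm := hc }
  exact Nat.card_congr (CommGroup.monoidHom_mulEquiv_of_hasEnoughRootsOfUnity A ℂ).some.toEquiv

theorem exists_dual_ne {A : Type u} [Group A] [Finite A] (hc : ∀ a b : A, a * b = b * a) {a : A}
    (h : a ≠ 1) : ∃ φ : A →* ℂˣ, φ a ≠ 1 := by
  letI : CommGroup A := { (inferInstance : Group A) with mul_comm := hc }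
  exact CommGroup.exists_apply_ne_one_of_hasEnoughRootsOfUnity A ℂ h

/-- Nontrivial linear characters of a finite abelian group separate the identity. -/
theorem sum_dual {A : Type u} [Group A] [Finite A] (hc : ∀ a b : A, a * b = b * a)
    [Fintype (A →* ℂˣ)] [DecidableEq A] (a : A) :
    ∑ l : A →* ℂˣ, (l a : ℂ) = if a = 1 then (Nat.card A : ℂ) else 0 := by
  split_ifs with h
  · subst h
    simp only [map_one, Units.val_one, Finset.sum_const, Finset.card_univ, nsmul_eq_mul, mul_one]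
    rw [← Nat.card_eq_fintype_card, card_dual hc]
  · obtain ⟨φ, hφ⟩ := exists_dual_ne hc h
    have he : ∑ l : A →* ℂˣ, (l a : ℂ) = (φ a : ℂ) * ∑ l : A →* ℂˣ, (l a : ℂ) := by
      rw [Finset.mul_sum]
      exact (Fintype.sum_equiv (Equiv.mulLeft φ) _ _ fun l => by simp).symm
    exact (mul_eq_zero.mp (show ((φ a : ℂ) - 1) * ∑ l : A →* ℂˣ, (l a : ℂ) = 0 by
      rw [sub_mul, one_mul, ← he, sub_self])).resolve_left (sub_ne_zero.mpr fun e => hφ (Units.ext e))

/-- A nontrivial linear character sums to zero. -/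
theorem sum_linChar {A : Type u} [Group A] [Fintype A] [DecidableEq (A →* ℂˣ)] (l : A →* ℂˣ) :
    ∑ a : A, (l a : ℂ) = if l = 1 then (Nat.card A : ℂ) else 0 := by
  split_ifs with h
  · subst h; simp [Nat.card_eq_fintype_card]
  · obtain ⟨w, hw⟩ : ∃ w, l w ≠ 1 := by
      by_contra! h'
      exact h (MonoidHom.ext h')
    have he : ∑ a : A, (l a : ℂ) = (l w : ℂ) * ∑ a : A, (l a : ℂ) := by
      rw [Finset.mul_sum]
      exact (Fintype.sum_equiv (Equiv.mulLeft w) _ _ fun a => by simp).symm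
    exact (mul_eq_zero.mp (show ((l w : ℂ) - 1) * ∑ a : A, (l a : ℂ) = 0 by
      rw [sub_mul, one_mul, ← he, sub_self])).resolve_left (sub_ne_zero.mpr fun e => hw (Units.ext e))

/-- Elementary identities in the dual group. -/
theorem dual_inv_inv {A : Type u} [Group A] (k : A →* ℂˣ) : k⁻¹⁻¹ = k := by
  ext a; simp

theorem dual_inv_eq_iff {A : Type u} [Group A] {k l : A →* ℂˣ} : l = k⁻¹ ↔ k = l⁻¹ :=
  ⟨fun h => by rw [h, dual_inv_inv], fun h => by rw [h, dual_inv_inv]⟩

theorem dual_inv_mul_eq_one {A : Type u} [Group A] {k l : A →* ℂˣ} : k⁻¹ * l = 1 ↔ k = l := by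
  constructor
  · intro h
    ext a
    have := DFunLike.congr_fun h a
    simp only [MonoidHom.mul_apply, MonoidHom.inv_apply, MonoidHom.one_apply, inv_mul_eq_one] at this
    rw [this]
  · rintro rfl
    ext a; simp

variable {R : Sylow 3 G} (hI : InvType R)

include hI

/-- Fusion is plus or minus one. -/
theorem InvType.isConj_iff {u v : G} (hu : u ∈ (R : Subgroup G)) (hv : v ∈ (R : Subgroup G)) :
    IsConj u v ↔ v = u ∨ v = u⁻¹ := by
  constructor
  · intro h
    obtain ⟨n, hn, rfl⟩ := fusion R hI.card hu hv h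
    exact (hI.dich n hn).imp (fun h => h u hu) (fun h => h u hu)
  · rintro (rfl | rfl)
    · exact IsConj.refl _
    · obtain ⟨n, -, hn⟩ := hI.exists_inv
      exact _root_.isConj_iff.mpr ⟨n, hn u hu⟩

theorem InvType.ne_inv {u : G} (hu : u ∈ (R : Subgroup G)) (hu1 : u ≠ 1) : u ≠ u⁻¹ := by
  intro h
  obtain ⟨k, hk⟩ := exists_pow_of_mem R hI.card hu
  have h2 : u ^ 2 = 1 := by rw [pow_two]; nth_rw 2 [h]; exact mul_inv_cancel u
  have h2' := orderOf_dvd_of_pow_eq_one h2
  rw [hk] at h2'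
  rcases k with - | k
  · exact hu1 (orderOf_eq_one_iff.mp (by simpa using hk))
  · have := (dvd_pow_self 3 k.succ_ne_zero).trans h2'
    norm_num at this

theorem InvType.hasNormalPComplement {u : G} (hu : u ∈ (R : Subgroup G)) (hu1 : u ≠ 1) :
    HasNormalPComplement 3 (centralizer ({u} : Set G)) := by
  refine hasNormalPComplement_centralizer R hI.card hu fun n hn hnu => ?_
  rcases hI.dich n hn with h | h
  · exact mem_centralizer_iff.mpr fun w hw => ((mul_inv_eq_iff_eq_mul.mp (h w hw))).symm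
  · exact absurd (hnu.symm.trans (h u hu)) (hI.ne_inv hu hu1)

/-- The shape of the principal block. -/
structure CharData (R : Sylow 3 G) (M : Ideal AlgInt) (X : IrrCharacter G)
    (Ys : Finset (IrrCharacter G)) (δ : ℤ) : Prop where
  sign : δ = 1 ∨ δ = -1
  X_ne : X ≠ Chars.trivialIrr G
  X_notMem : X ∉ Ys
  one_notMem : Chars.trivialIrr G ∉ Ys
  card_Ys : Ys.card = 4
  mem_X : X ∈ principalBlock M G
  mem_Ys : ∀ Y ∈ Ys, Y ∈ principalBlock M G
  rel : ∀ Y ∈ Ys, ∀ g : G, ¬ 3 ∣ orderOf g → (Y : G → ℂ) g = (X : G → ℂ) g + δ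
  X_val : ∀ u ∈ (R : Subgroup G), u ≠ 1 → (X : G → ℂ) u = δ
  col : ∀ Q : Finset G, (∀ u, u ∈ Q ↔ u ∈ (R : Subgroup G) ∧ u ≠ 1) →
    (∑ u ∈ Q, (X : G → ℂ) u = 8 * δ) ∧ (∀ Y ∈ Ys, ∑ u ∈ Q, (Y : G → ℂ) u = -2 * δ) ∧
    ∀ χ ∈ principalBlock M G, χ ≠ Chars.trivialIrr G → χ ≠ X → χ ∉ Ys →
      ∑ u ∈ Q, (χ : G → ℂ) u = 0

/-- Existence of the shape. -/
theorem InvType.exists_charData [IsSimpleGroup G] (hG : ¬ IsMulCommutative G)
    {M : Ideal AlgInt} [M.IsPrime] (hM : IsPModular 3 M) :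
    ∃ (X : IrrCharacter G) (Ys : Finset (IrrCharacter G)) (δ : ℤ), CharData R M X Ys δ := by
  classical
  have hP := isMulCommutative_sylow R hI.card
  have hC : ∀ u ∈ (R : Subgroup G), u ≠ 1 → HasNormalPComplement 3 (centralizer ({u} : Set G)) :=
    fun u hu hu1 => hI.hasNormalPComplement hu hu1
  have hc' : ∀ a b : (R : Subgroup G), a * b = b * a :=
    fun a b => Subtype.ext (comm_mem R hI.card a.2 b.2)
  haveI : Finite ((R : Subgroup G) →* ℂˣ) := Nat.finite_of_card_ne_zero
    (by rw [card_dual hc', hI.card]; norm_num)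
  haveI : Fintype ((R : Subgroup G) →* ℂˣ) := Fintype.ofFinite _
  haveI : Fintype (R : Subgroup G) := Fintype.ofFinite _
  have hR9 : (Nat.card (R : Subgroup G) : ℂ) = 9 := by rw [hI.card]; norm_num
  have hcardL : Fintype.card ((R : Subgroup G) →* ℂˣ) = 9 := by
    rw [← Nat.card_eq_fintype_card, card_dual hc', hI.card]
  -- the multiplicities
  choose m hm using fun (χ : IrrCharacter G) (l : (R : Subgroup G) →* ℂˣ) =>
    Chars.isCharacter_classInner_nat
      (Chars.isCharacter_comp (R : Subgroup G).subtype (Chars.irr_isCharacter χ))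
      (Chars.isCharacter_hom l)
  set v : IrrCharacter G → ((R : Subgroup G) →* ℂˣ) → ℤ :=
    fun χ l => (m χ l : ℤ) - m χ 1 with hv
  have hconj : ∀ (l : (R : Subgroup G) →* ℂˣ) w, conj (l w : ℂ) = (l w⁻¹ : ℂ) := fun l w => by
    rw [← Complex.inv_eq_conj (Chars.norm_hom_apply l w), map_inv, Units.val_inv_eq_inv_val]
  have hv' : ∀ χ l, (v χ l : ℂ) = (9 : ℂ)⁻¹ * ∑ w : (R : Subgroup G),
      (χ : G → ℂ) w * ((l w⁻¹ : ℂ) - 1) := by
    intro χ l
    simp only [hv, Int.cast_sub, Int.cast_natCast, ← hm, classInner, hR9, coe_subtype, hconj,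
      MonoidHom.one_apply, Units.val_one, ← mul_sub, ← Finset.sum_sub_distrib]
    simp only [mul_one, mul_sub, map_one]
  -- recovering the values
  have hval : ∀ (χ : IrrCharacter G) (w : (R : Subgroup G)), w ≠ 1 →
      (χ : G → ℂ) w = ∑ l, (v χ l : ℂ) * (l w : ℂ) := by
    intro χ w hw
    have key : ∀ x : (R : Subgroup G), ∑ l : (R : Subgroup G) →* ℂˣ,
        ((l x⁻¹ : ℂ) - 1) * (l w : ℂ) = if x = w then 9 else 0 := by
      intro x
      simp only [sub_mul, one_mul, ← Units.val_mul, ← map_mul, Finset.sum_sub_distrib, sum_dual hc',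
        if_neg hw, sub_zero, inv_mul_eq_one, hR9]
    simp only [hv', mul_assoc, Finset.sum_mul, ← Finset.mul_sum]
    rw [Finset.sum_comm]
    simp only [← Finset.mul_sum, key, mul_ite, mul_zero, Finset.sum_ite_eq', Finset.mem_univ,
      if_true]
    field_simp
  -- sums over the nonidentity elements
  have hS : ∀ (χ : IrrCharacter G) (Q : Finset G), (∀ u, u ∈ Q ↔ u ∈ (R : Subgroup G) ∧ u ≠ 1) →
      ∑ u ∈ Q, (χ : G → ℂ) u = -∑ l, (v χ l : ℂ) := by
    intro χ Q hQ
    have h1 : ∑ u ∈ Q, (χ : G → ℂ) u = ∑ w ∈ Finset.univ.erase (1 : (R : Subgroup G)),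
        (χ : G → ℂ) (w : G) := (Finset.sum_bij (fun (w : (R : Subgroup G)) _ => (w : G))
      (fun w hw => (hQ _).mpr ⟨w.2, fun e => Finset.ne_of_mem_erase hw (Subtype.ext e)⟩)
      (fun a _ b _ h => Subtype.ext h)
      (fun u hu => ⟨⟨u, ((hQ u).mp hu).1⟩, Finset.mem_erase.mpr
        ⟨fun e => ((hQ u).mp hu).2 (congrArg Subtype.val e), Finset.mem_univ _⟩, rfl⟩)
      fun _ _ => rfl).symm
    rw [h1, Finset.sum_congr rfl fun w hw => hval χ w (Finset.ne_of_mem_erase hw), Finset.sum_comm,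
      ← Finset.sum_neg_distrib]
    refine Finset.sum_congr rfl fun l _ => ?_
    rw [← Finset.mul_sum]
    by_cases hl : l = 1
    · have : v χ l = 0 := by simp [hv, hl]
      simp [this]
    · rw [Finset.sum_erase_eq_sub (Finset.mem_univ _), sum_linChar, if_neg hl, map_one,
        Units.val_one]
      ring
  have hB : IsPBlock M (principalBlock M G) := Blocks.PrincipalSection.isPBlock_principalBlock M G
  -- orthogonality with the regular elements
  have hrelv : ∀ (g : G), ¬ 3 ∣ orderOf g → ∀ l,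
      ∑ χ ∈ (principalBlock M G).toFinset, (χ : G → ℂ) g * (v χ l : ℂ) = 0 := by
    intro g hg l
    simp only [hv', Finset.mul_sum]
    rw [Finset.sum_comm]
    refine Finset.sum_eq_zero fun w _ => ?_
    by_cases hw : w = 1
    · simp [hw]
    · have h := Blocks.block_orth_conj hM hB (Blocks.isPPart_one_of_pRegular hg)
        (Blocks.isPPart_self_of_pElement (p := 3) (g := ((w⁻¹ : (R : Subgroup G)) : G))
          (exists_pow_of_mem R hI.card (w⁻¹).2))
        fun h => hw (inv_eq_one.mp (Subtype.ext (isConj_one_right.mp h)))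
      rw [finsum_mem_eq_toFinset_sum] at h
      rw [Finset.sum_congr rfl fun (χ : IrrCharacter G) _ => show (χ : G → ℂ) g * ((9 : ℂ)⁻¹ *
          ((χ : G → ℂ) (w : G) * ((l w⁻¹ : ℂ) - 1))) =
          ((9 : ℂ)⁻¹ * ((l w⁻¹ : ℂ) - 1)) * ((χ : G → ℂ) g * conj ((χ : G → ℂ) (w⁻¹ : (R : Subgroup G))))
        by rw [Subgroup.coe_inv, Chars.irr_inv, Complex.conj_conj]; ring, ← Finset.mul_sum, h,
        mul_zero]
  let Λ := {l : (R : Subgroup G) →* ℂˣ // l ≠ 1}
  let ι := {χ // χ ∈ (principalBlock M G).toFinset}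
  let r : Λ → Λ → Prop := fun k l => l.1 = k.1 ∨ l.1 = k.1⁻¹
  have hr : Equivalence r := by
    refine ⟨fun k => Or.inl rfl, fun {k l} h => ?_, fun {k l n} h h' => ?_⟩
    · rcases h with h | h
      · exact Or.inl h.symm
      · exact Or.inr (dual_inv_eq_iff.mp h)
    · rcases h with h | h <;> rcases h' with h' | h'
      · exact Or.inl (h'.trans h)
      · exact Or.inr (h'.trans (congrArg _ h))
      · exact Or.inr (h'.trans h)
      · exact Or.inl (h'.trans (by rw [h, dual_inv_inv]))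
  have hsq : ∀ k : Λ, k.1 ≠ k.1⁻¹ := by
    intro k h
    refine k.2 (MonoidHom.ext fun w => ?_)
    have h2 : k.1 w ^ 2 = 1 := by
      rw [pow_two]; nth_rw 2 [h]
      rw [MonoidHom.inv_apply, mul_inv_cancel]
    have h9 : k.1 w ^ 9 = 1 := by rw [← map_pow, ← hI.card, pow_card_eq_one', map_one]
    rw [MonoidHom.one_apply, ← pow_one (k.1 w), show (1 : ℕ) = Nat.gcd 2 9 from rfl]
    exact pow_gcd_eq_one.mpr ⟨h2, h9⟩
  have gram : ∀ k l : Λ, ∑ χ : ι, v χ.1 k.1 * v χ.1 l.1 = (2 : ℤ) + if r k l then 1 else 0 := by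
    intro k l
    rw [Finset.sum_coe_sort (principalBlock M G).toFinset (fun χ => v χ k.1 * v χ l.1)]
    apply Int.cast_injective (α := ℂ)
    push_cast
    have hterm : ∀ χ : IrrCharacter G, (v χ k.1 : ℂ) * (v χ l.1 : ℂ) =
        (81 : ℂ)⁻¹ * ∑ w : (R : Subgroup G), ∑ x : (R : Subgroup G), ((k.1 w⁻¹ : ℂ) - 1) *
          ((l.1 x : ℂ) - 1) * ((χ : G → ℂ) w * conj ((χ : G → ℂ) x)) := by
      intro χ
      rw [show (v χ l.1 : ℂ) = conj (v χ l.1 : ℂ) from (map_intCast _ _).symm, hv', hv']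
      simp only [map_mul, map_sub, map_sum, map_inv₀, map_ofNat, hconj, map_one, inv_inv]
      rw [mul_mul_mul_comm, ← mul_inv, Finset.sum_mul_sum]
      norm_num
      exact Finset.sum_congr rfl fun w _ => Finset.sum_congr rfl fun x _ => by ring
    rw [Finset.sum_congr rfl fun χ _ => hterm χ]
    rw [← Finset.mul_sum, Finset.sum_comm, Finset.sum_congr rfl fun w _ => Finset.sum_comm]
    simp only [← Finset.mul_sum]
    have hsum : ∀ w : (R : Subgroup G), (∑ x : (R : Subgroup G), ((k.1 w⁻¹ : ℂ) - 1) *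
        ((l.1 x : ℂ) - 1) * ∑ χ ∈ (principalBlock M G).toFinset,
          (χ : G → ℂ) w * conj ((χ : G → ℂ) x)) =
        9 * (((k.1 w⁻¹ : ℂ) - 1) * (((l.1 w : ℂ) - 1) + ((l.1 w⁻¹ : ℂ) - 1))) := by
      intro w
      by_cases hw : w = 1
      · simp [hw]
      have hw1 : (w : G) ≠ 1 := fun e => hw (Subtype.ext e)
      have hne : w ≠ w⁻¹ := fun e => hI.ne_inv w.2 hw1 (congrArg Subtype.val e)
      rw [Finset.sum_congr rfl (g := fun x : (R : Subgroup G) => if x = w ∨ x = w⁻¹ then
        9 * (((k.1 w⁻¹ : ℂ) - 1) * ((l.1 x : ℂ) - 1)) else 0)]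
      · rw [← Finset.sum_filter, show (Finset.univ.filter fun x => x = w ∨ x = w⁻¹) =
          ({w, w⁻¹} : Finset (R : Subgroup G)) by ext; simp, Finset.sum_pair hne]
        ring
      · intro x _
        by_cases hx : x = 1
        · subst hx
          have h1 : ¬ ((1 : (R : Subgroup G)) = w ∨ (1 : (R : Subgroup G)) = w⁻¹) := by
            rintro (e | e)
            exacts [hw e.symm, hw (inv_eq_one.mp e.symm)]
          rw [if_neg h1, map_one, Units.val_one, sub_self, mul_zero, zero_mul]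
        · rw [PairPSolv.gram R hP hC hM w.2 hw1 x.2 fun e => hx (Subtype.ext e), hR9]
          have hiff : IsConj (w : G) x ↔ x = w ∨ x = w⁻¹ := by
            rw [hI.isConj_iff w.2 x.2, Subtype.ext_iff, Subtype.ext_iff, Subgroup.coe_inv]
          simp only [hiff]
          split_ifs <;> ring
    have hA : ∑ w : (R : Subgroup G), ((k.1 w⁻¹ * l.1 w : ℂˣ) : ℂ) =
        if l.1 = k.1 then 9 else 0 := by
      have := sum_linChar (k.1⁻¹ * l.1)
      simp only [dual_inv_mul_eq_one, hR9, MonoidHom.mul_apply, MonoidHom.inv_apply] at this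
      simp only [map_inv]
      rw [this]
      simp [eq_comm]
    have hB' : ∑ w : (R : Subgroup G), ((k.1 w⁻¹ * l.1 w⁻¹ : ℂˣ) : ℂ) =
        if l.1 = k.1⁻¹ then 9 else 0 := by
      have := sum_linChar (k.1⁻¹ * l.1⁻¹)
      simp only [dual_inv_mul_eq_one, hR9, MonoidHom.mul_apply, MonoidHom.inv_apply] at this
      simp only [map_inv]
      rw [this]
      simp only [← dual_inv_eq_iff]
    have hk : ∀ n : Λ, ∑ w : (R : Subgroup G), (n.1 w⁻¹ : ℂ) = 0 := fun n => by
      rw [Fintype.sum_equiv (Equiv.inv _) (fun w => (n.1 w⁻¹ : ℂ)) (fun w => (n.1 w : ℂ))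
        fun w => rfl, sum_linChar, if_neg n.2]
    have hl : ∑ w : (R : Subgroup G), (l.1 w : ℂ) = 0 := by rw [sum_linChar, if_neg l.2]
    rw [Finset.sum_congr rfl fun w _ => (hsum w).trans (show _ =
        9 * ((k.1 w⁻¹ * l.1 w : ℂˣ) : ℂ) + 9 * ((k.1 w⁻¹ * l.1 w⁻¹ : ℂˣ) : ℂ)
          - 18 * (k.1 w⁻¹ : ℂ) - 9 * (l.1 w : ℂ) - 9 * (l.1 w⁻¹ : ℂ) + 18 by
        rw [Units.val_mul, Units.val_mul]; ring)]
    simp only [Finset.sum_sub_distrib, Finset.sum_add_distrib, ← Finset.mul_sum]
    rw [hA, hB', hk k, hk l, hl]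
    simp only [Finset.sum_const, Finset.card_univ, ← Nat.card_eq_fintype_card, hI.card,
      nsmul_eq_mul]
    have hexcl : ¬ (l.1 = k.1 ∧ l.1 = k.1⁻¹) := fun h => hsq k (h.1.symm.trans h.2)
    by_cases h1 : l.1 = k.1 <;> by_cases h2 : l.1 = k.1⁻¹
    · exact absurd ⟨h1, h2⟩ hexcl
    · rw [if_pos h1, if_neg h2, if_pos (show r k l from Or.inl h1)]; norm_num
    · rw [if_neg h1, if_pos h2, if_pos (show r k l from Or.inr h2)]; norm_num
    · rw [if_neg h1, if_neg h2, if_neg (show ¬ r k l from fun h => h.elim h1 h2)]; norm_num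
  let d : ι → ℤ := fun χ => (charDegree (χ.1 : G → ℂ) : ℤ)
  have hd : ∀ χ, 0 < d χ := fun χ => Int.natCast_pos.mpr (Chars.charDegree_spec χ.1).1
  have hdz : ∀ k : Λ, ∑ χ : ι, d χ * v χ.1 k.1 = 0 := by
    intro k
    rw [Finset.sum_coe_sort (principalBlock M G).toFinset
      (fun χ => (charDegree (χ : G → ℂ) : ℤ) * v χ k.1)]
    have h := hrelv 1 (by simp) k.1
    simp only [H66.SmallCofactor.degree_eq] at h
    exact_mod_cast h
  have hΛ : Fintype.card Λ = 8 := by
    simp [Λ, Fintype.card_subtype_compl, hcardL]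
  have hfib : ∀ k : Λ, (Finset.univ.filter fun l => r k l).card = 2 := by
    intro k
    refine Finset.card_eq_two.mpr ⟨k, ⟨k.1⁻¹, fun e => k.2 (by rw [← dual_inv_inv k.1, e]; ext; simp)⟩,
      fun e => hsq k (congrArg Subtype.val e), ?_⟩
    ext l
    simp only [r, Finset.mem_filter, Finset.mem_univ, true_and, Finset.mem_insert,
      Finset.mem_singleton]
    exact or_congr (Subtype.ext_iff (a1 := l) (a2 := k)).symm
      (Subtype.ext_iff (a1 := l) (a2 := ⟨k.1⁻¹, _⟩)).symm
  have hne : ∃ k l : Λ, ¬ r k l := by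
    obtain ⟨k⟩ : Nonempty Λ := Fintype.card_pos_iff.mp (by omega)
    by_contra! h
    have := hfib k
    rw [Finset.filter_true_of_mem (fun l _ => h k l), Finset.card_univ, hΛ] at this
    omega
  obtain ⟨f, ε, c, hε, hvf, hff, hdf, hnorm⟩ :=
    PairPSolv.coherent (fun k : Λ => fun χ : ι => v χ.1 k.1) r hr 2 gram d hd hdz hne
  let o : ι := ⟨Chars.trivialIrr G, Set.mem_toFinset.mpr (by
    simpa [principalBlock, Chars.trivialIrr] using
      (Blocks.mem_blockOf_self (M := M) (Chars.trivialIrr G)))⟩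
  have hvo : ∀ l : Λ, v o.1 l.1 = -1 := by
    intro l
    have h : ((v o.1 l.1 : ℤ) : ℂ) = ((-1 : ℤ) : ℂ) := by
      rw [hv']
      simp only [o, Chars.trivialIrr_apply, one_mul, Finset.sum_sub_distrib]
      rw [Fintype.sum_equiv (Equiv.inv _) (fun w => (l.1 w⁻¹ : ℂ)) (fun w => (l.1 w : ℂ)) fun w => rfl,
        sum_linChar,
        if_neg l.2, Finset.sum_const, Finset.card_univ, ← Nat.card_eq_fintype_card, hI.card]
      norm_num
    exact_mod_cast h
  have hdo : d o = 1 := by
    have := H66.SmallCofactor.degree_eq (Chars.trivialIrr G)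
    rw [Chars.trivialIrr_apply] at this
    show ((charDegree (Chars.trivialIrr G : G → ℂ) : ℕ) : ℤ) = 1
    exact_mod_cast this.symm
  have hd1 : ∀ χ : ι, χ ≠ o → 1 < d χ := by
    intro χ hχ
    have := H66.SmallCofactor.one_lt_degree hG χ.1 fun h => hχ (Subtype.ext (Subtype.ext (by
      rw [h]; funext g; simp [o])))
    show (1 : ℤ) < ((charDegree (χ.1 : G → ℂ) : ℕ) : ℤ)
    exact_mod_cast this
  obtain ⟨k₀, l₀, hkl⟩ := hne
  have hfo : ∀ k, f k ≠ o := by
    intro k hk
    have : ∀ l, f l = o := fun l => by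
      by_contra h
      have := hdf k l
      rw [hk, hdo] at this
      exact absurd this (hd1 _ h).ne
    exact hkl ((hff k₀ l₀).mp ((this k₀).trans (this l₀).symm))
  have hco : c o = -1 := by
    have h1 := hvf k₀ o
    rw [hvo, PairPSolv.unitVec, if_neg (hfo k₀).symm, mul_zero, add_zero] at h1
    exact h1.symm
  let im := Finset.univ.image f
  have him : im.card = 4 := by
    have h1 := Finset.card_eq_sum_card_image f (Finset.univ : Finset Λ)
    have h2 : ∀ x ∈ im, ((Finset.univ : Finset Λ).filter fun l => f l = x).card = 2 := by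
      intro x hx
      obtain ⟨k, -, rfl⟩ := Finset.mem_image.mp hx
      rw [← hfib k]
      congr 1
      ext l
      simp [hff, show r l k ↔ r k l from ⟨hr.symm, hr.symm⟩]
    rw [Finset.sum_congr rfl h2, Finset.sum_const, Finset.card_univ, hΛ, smul_eq_mul] at h1
    simp only [im] at h1 ⊢
    omega
  -- the coefficient vector vanishes on the exceptional characters
  have hc0 : ∀ x ∈ im, c x = 0 := by
    intro x hx
    obtain ⟨k, -, rfl⟩ := Finset.mem_image.mp hx
    have hall : ∀ y ∈ im, c y = c (f k) := by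
      intro y hy
      obtain ⟨l, -, rfl⟩ := Finset.mem_image.mp hy
      have h1 := hnorm k
      have h2 := hnorm l
      rcases hε with rfl | rfl <;> omega
    have hsub : insert o im ⊆ Finset.univ := Finset.subset_univ _
    have hle := Finset.sum_le_sum_of_subset_of_nonneg hsub
      (f := fun i => c i * c i) (fun i _ _ => mul_self_nonneg _)
    rw [Finset.sum_insert (fun h => by
        obtain ⟨l, -, hl⟩ := Finset.mem_image.mp h; exact hfo l hl),
      Finset.sum_congr rfl fun y hy => by rw [hall y hy], Finset.sum_const, him, hco,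
      nsmul_eq_mul] at hle
    have h1 := hnorm k
    push_cast at hle
    by_contra hne'
    rcases hε with rfl | rfl <;> rcases lt_or_gt_of_ne hne' with h' | h' <;> nlinarith
  have hnorm2 : ∑ i, c i * c i = 2 := by
    have := hnorm k₀
    rw [hc0 (f k₀) (Finset.mem_image_of_mem f (Finset.mem_univ k₀))] at this
    linarith
  rw [← Finset.add_sum_erase _ _ (Finset.mem_univ o), hco] at hnorm2
  obtain ⟨x, hxe, hx⟩ := Finset.exists_ne_zero_of_sum_ne_zero
    (show ∑ i ∈ Finset.univ.erase o, c i * c i ≠ 0 by linarith)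
  have hxo := Finset.ne_of_mem_erase hxe
  rw [← Finset.add_sum_erase _ _ hxe] at hnorm2
  have hcx0 : c x ≠ 0 := fun e => hx (by rw [e, mul_zero])
  have hrest0 : 0 ≤ ∑ i ∈ (Finset.univ.erase o).erase x, c i * c i :=
    Finset.sum_nonneg fun i _ => mul_self_nonneg _
  have hcx1 : c x * c x = 1 := by
    have := mul_self_pos.mpr hcx0
    linarith
  have hrest : ∀ i, i ≠ o → i ≠ x → c i = 0 := by
    intro i h1 h2
    have := (Finset.sum_eq_zero_iff_of_nonneg fun i _ => mul_self_nonneg (c i)).mp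
      (show ∑ i ∈ (Finset.univ.erase o).erase x, c i * c i = 0 by linarith) i
      (Finset.mem_erase.mpr ⟨h2, Finset.mem_erase.mpr ⟨h1, Finset.mem_univ _⟩⟩)
    exact mul_self_eq_zero.mp this
  have hxim : x ∉ im := fun h => hcx0 (hc0 x h)
  -- a weighted sum against a vector
  have hlin : ∀ (F : ι → ℂ) (k : Λ), ∑ i, F i * (v i.1 k.1 : ℂ) =
      -F o + (c x : ℂ) * F x + (ε : ℂ) * F (f k) := by
    intro F k
    simp only [fun i => hvf k i, PairPSolv.unitVec, Int.cast_add, Int.cast_mul, Int.cast_ite,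
      Int.cast_one, Int.cast_zero, mul_add, Finset.sum_add_distrib, mul_ite, mul_one, mul_zero,
      Finset.sum_ite_eq', Finset.mem_univ, if_true]
    rw [← Finset.add_sum_erase _ _ (Finset.mem_univ o), ← Finset.add_sum_erase _ _ hxe,
      Finset.sum_eq_zero (s := (Finset.univ.erase o).erase x) fun i hi => ?_, hco]
    · rw [Finset.sum_ite_eq', if_pos (Finset.mem_univ _)]
      push_cast; ring
    · rw [hrest i (Finset.ne_of_mem_erase (Finset.mem_of_mem_erase hi)) (Finset.ne_of_mem_erase hi)]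
      simp
  have hreg : ∀ (g : G), ¬ 3 ∣ orderOf g → ∀ k : Λ,
      -1 + (c x : ℂ) * (x.1 : G → ℂ) g + (ε : ℂ) * ((f k).1 : G → ℂ) g = 0 := by
    intro g hg k
    have h := hrelv g hg k.1
    rw [← Finset.sum_coe_sort (principalBlock M G).toFinset
      (fun χ => (χ : G → ℂ) g * (v χ k.1 : ℂ)), hlin (fun i : ι => (i.1 : G → ℂ) g) k] at h
    simpa [o] using h
  -- the sign of X is opposite
  have hcxε : c x = -ε := by
    have h1 := hreg 1 (by simp) k₀
    simp only [H66.SmallCofactor.degree_eq] at h1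
    have h2 : -1 + c x * d x + ε * d (f k₀) = 0 := by
      simp only [d]; exact_mod_cast h1
    have hx1 := hd1 x hxo
    have hf1 := hd1 _ (hfo k₀)
    rcases mul_self_eq_one_iff.mp hcx1 with h | h <;> rcases hε with h' | h' <;>
      rw [h, h'] at h2 ⊢ <;> simp only [one_mul, neg_one_mul, neg_neg] at h2 ⊢ <;> omega
  refine ⟨x.1, im.image Subtype.val, ε, hε, fun h => hxo (Subtype.ext h), ?_, ?_, ?_,
    Set.mem_toFinset.mp x.2, ?_, ?_, fun w hw hw1 => ?_, ?_⟩
  · intro h
    obtain ⟨y, hy, hyx⟩ := Finset.mem_image.mp h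
    exact hxim (Subtype.ext hyx ▸ hy)
  · intro h
    obtain ⟨y, hy, hyx⟩ := Finset.mem_image.mp h
    obtain ⟨k, -, rfl⟩ := Finset.mem_image.mp hy
    exact hfo k (Subtype.ext hyx)
  · rw [Finset.card_image_of_injective _ Subtype.val_injective, him]
  · intro Y hY
    obtain ⟨y, -, rfl⟩ := Finset.mem_image.mp hY
    exact Set.mem_toFinset.mp y.2
  · intro Y hY g hg
    obtain ⟨y, hy, rfl⟩ := Finset.mem_image.mp hY
    obtain ⟨k, -, rfl⟩ := Finset.mem_image.mp hy
    have h1 := hreg g hg k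
    rw [hcxε] at h1
    push_cast at h1
    rcases hε with h' | h' <;> rw [h'] at h1 ⊢ <;> push_cast at h1 ⊢
    · linear_combination h1
    · linear_combination -h1
  · rw [hval x.1 ⟨w, hw⟩ fun e => hw1 (congrArg Subtype.val e)]
    have hx1' : v x.1 1 = 0 := by simp [hv]
    have hxl : ∀ l : (R : Subgroup G) →* ℂˣ, l ≠ 1 → v x.1 l = -ε := fun l hl => by
      rw [hvf ⟨l, hl⟩ x, PairPSolv.unitVec, if_neg fun e => hxim (Finset.mem_image.mpr
        ⟨⟨l, hl⟩, Finset.mem_univ _, e.symm⟩), mul_zero, add_zero, hcxε]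
    rw [← Finset.add_sum_erase _ _ (Finset.mem_univ 1), hx1', Int.cast_zero, zero_mul, zero_add,
      Finset.sum_congr rfl fun l hl => by rw [hxl l (Finset.ne_of_mem_erase hl)], ← Finset.mul_sum,
      Finset.sum_erase_eq_sub (Finset.mem_univ _), sum_dual hc',
      if_neg fun e => hw1 (congrArg Subtype.val e), MonoidHom.one_apply, Units.val_one]
    push_cast
    ring
  · intro Q hQ
    have hsumv : ∀ i : ι, ∑ l, (v i.1 l : ℂ) =
        8 * (c i : ℂ) + (ε : ℂ) * ((Finset.univ.filter fun k : Λ => f k = i).card : ℂ) := by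
      intro i
      rw [← Finset.add_sum_erase _ _ (Finset.mem_univ (1 : (R : Subgroup G) →* ℂˣ)),
        show v i.1 1 = 0 by simp [hv], Int.cast_zero, zero_add,
        Finset.sum_subtype (p := fun l => l ≠ 1) _ (by simp) (fun l => (v i.1 l : ℂ))]
      simp only [fun k : Λ => hvf k i, PairPSolv.unitVec, Int.cast_add, Int.cast_mul, Int.cast_ite,
        Int.cast_one, Int.cast_zero, mul_ite, mul_one, mul_zero, Finset.sum_add_distrib,
        Finset.sum_const, Finset.card_univ, hΛ, nsmul_eq_mul]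
      rw [show Fintype.card {l : (R : Subgroup G) →* ℂˣ // l ≠ 1} = 8 from hΛ]
      simp only [eq_comm (a := i)]
      rw [← Finset.sum_filter, Finset.sum_const, nsmul_eq_mul]
      push_cast
      ring
    refine ⟨?_, ?_, ?_⟩
    · rw [hS x.1 Q hQ, hsumv x, hcxε, Finset.filter_false_of_mem fun k _ e => hxim
        (Finset.mem_image.mpr ⟨k, Finset.mem_univ _, e⟩)]
      simp
    · intro Y hY
      obtain ⟨y, hy, rfl⟩ := Finset.mem_image.mp hY
      obtain ⟨k, -, rfl⟩ := Finset.mem_image.mp hy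
      rw [hS _ Q hQ, hsumv (f k), hc0 _ hy]
      have h2 : (Finset.univ.filter fun l => f l = f k).card = 2 := by
        rw [← hfib k]
        congr 1
        ext l
        simp [hff, show r l k ↔ r k l from ⟨hr.symm, hr.symm⟩]
      rw [h2]
      simp; ring
    · intro χ hχ h1 h2 h3
      let i : ι := ⟨χ, Set.mem_toFinset.mpr hχ⟩
      rw [hS _ Q hQ, hsumv i, hrest i (fun e => h1 (congrArg Subtype.val e))
        (fun e => h2 (congrArg Subtype.val e)), Finset.filter_false_of_mem fun k _ e => h3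
        (Finset.mem_image.mpr ⟨i, Finset.mem_image.mpr ⟨k, Finset.mem_univ _, e⟩, rfl⟩)]
      simp

end Cfsg.Agent.Lib.Order9TwoQ
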