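import Mathlib
import Cfsg.Agent.Lib.H66.SmallCofactor.Basic
import Cfsg.Agent.Lib.PrimeDegreeSimple
import Cfsg.Agent.Lib.Chars.DefectZero
import Cfsg.Agent.Lib.SmallGroups.PrimeSylow
import Cfsg.Agent.Lib.DefectOne.PrincipalStructure

/-!
# A Sylow q-subgroup when some irreducible character has degree q
-/

set_option autoImplicit false
set_option linter.unusedSectionVars false

namespace Cfsg.Agent.Lib.Order9TwoQ

open Cfsg Subgroup
open Cfsg.Agent.Lib
open scoped ComplexConjugate

universe u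

variable {G : Type u} [Group G] [Finite G] [IsSimpleGroup G] (hG : ¬ IsMulCommutative G)
  {q : ℕ} [hq : Fact q.Prime] {D : IrrCharacter G} (hD : charDegree (D : G → ℂ) = q)

theorem not_comm_of (hG : ¬ IsMulCommutative G) : ¬ ∀ a b : G, a * b = b * a := fun h =>
  hG ⟨⟨h⟩⟩

include hD

theorem ne_trivial_of_degree : (D : G → ℂ) ≠ fun _ => 1 := fun h => by
  have h1 := H66.SmallCofactor.degree_eq D
  rw [hD, h] at h1
  exact hq.out.ne_one (by simpa using h1.symm)

theorem apply_one_eq : (D : G → ℂ) 1 = (q : ℂ) := by rw [H66.SmallCofactor.degree_eq D, hD]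

include hG

/-- The Sylow subgroups have order q. -/
theorem card_sylow_q (P : Sylow q G) (hdvd : q ∣ Nat.card G) : Nat.card (P : Subgroup G) = q := by
  classical
  cases nonempty_fintype G
  have hne := ne_trivial_of_degree hD
  have hneI : D ≠ Chars.trivialIrr G := fun h => hne (by rw [h]; funext g; simp)
  set Z : Subgroup G := (center (P : Subgroup G)).map (P : Subgroup G).subtype
  have hZP : Z ≤ (P : Subgroup G) := map_subtype_le _
  have hzero : ∀ z ∈ Z, z ≠ 1 → (D : G → ℂ) z = ((0 : ℤ) : ℂ) := by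
    rintro _ ⟨z, hz, rfl⟩ hz1
    rw [Int.cast_zero]
    refine PrimeDegreeSimple.eq_zero_of_coprime (not_comm_of hG) hneI (apply_one_eq hD) hz1 ?_
    refine (hq.out.coprime_iff_not_dvd.mpr fun h => P.not_dvd_index ?_).symm
    refine h.trans (index_dvd_of_le fun w hw => mem_centralizer_singleton_iff.mpr ?_)
    exact congrArg Subtype.val (mem_center_iff.mp hz ⟨w, hw⟩)
  obtain ⟨m, hm⟩ := H66.SmallCofactor.exists_nat_of_const Z (Chars.irr_isCharacter D)
    (d := (q : ℤ)) (by rw [apply_one_eq hD, Int.cast_natCast]) hzero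
  have hZq : Nat.card Z ∣ q := Int.natCast_dvd_natCast.mp ⟨m, by linear_combination hm⟩
  have hPne : Nat.card (P : Subgroup G) ≠ 1 := fun h => by
    have := P.dvd_card_of_dvd_card hdvd
    rw [h, Nat.dvd_one] at this
    exact hq.out.ne_one this
  haveI : Nontrivial (P : Subgroup G) := Finite.one_lt_card_iff_nontrivial.mp (by
    have := Nat.card_pos (α := (P : Subgroup G)); omega)
  have hZcard : Nat.card Z = Nat.card (center (P : Subgroup G)) :=
    card_map_of_injective (subtype_injective _)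
  have hZne : Nat.card Z ≠ 1 := by
    rw [hZcard]
    have := P.isPGroup'.center_nontrivial
    exact (Finite.one_lt_card_iff_nontrivial.mpr this).ne'
  have hZq' : Nat.card Z = q := ((Nat.dvd_prime hq.out).mp hZq).resolve_left hZne
  by_contra hPq
  -- the Sylow subgroup is then non-abelian
  have hnab : ¬ ∀ a b : (P : Subgroup G), a * b = b * a := fun h => hPq (by
    refine Eq.trans ?_ hZq'
    rw [hZcard, show center (P : Subgroup G) = ⊤ from
      eq_top_iff.mpr fun a _ => mem_center_iff.mpr fun b => h b a, card_top])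
  haveI : Fintype (P : Subgroup G) := Fintype.ofFinite _
  have hres : IsCharacter (P : Subgroup G) (fun x => (D : G → ℂ) x) :=
    Chars.isCharacter_comp (P : Subgroup G).subtype (Chars.irr_isCharacter D)
  choose c hc using fun ψ : IrrCharacter (P : Subgroup G) =>
    Chars.isCharacter_classInner_nat hres (Chars.irr_isCharacter ψ)
  have hexp : ∀ x : (P : Subgroup G), (D : G → ℂ) x =
      ∑ ψ : IrrCharacter (P : Subgroup G), (c ψ : ℂ) * (ψ : ↥(P : Subgroup G) → ℂ) x := fun x => by
    rw [Chars.isClassFunction_apply_eq_sum_classInner (φ := fun x : (P : Subgroup G) =>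
      (D : G → ℂ) x) (Chars.isClassFunction_comp (P : Subgroup G).subtype
        (Chars.irr_isClassFunction D)) x]
    simp only [hc]
  have hdeg : (q : ℕ) = ∑ ψ : IrrCharacter (P : Subgroup G),
      c ψ * charDegree (ψ : ↥(P : Subgroup G) → ℂ) := by
    have h1 := hexp 1
    rw [OneMemClass.coe_one, apply_one_eq hD] at h1
    simp only [H66.SmallCofactor.degree_eq] at h1
    exact_mod_cast h1
  by_cases hlin : ∀ ψ : IrrCharacter (P : Subgroup G), c ψ ≠ 0 → charDegree (ψ : ↥(P : Subgroup G) → ℂ) = 1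
  · -- only linear constituents: the derived group is in the kernel
    obtain ⟨a, ha⟩ := not_forall.mp hnab
    obtain ⟨b, hab⟩ := not_forall.mp ha
    have hx : (a * b * a⁻¹ * b⁻¹ : (P : Subgroup G)) ≠ 1 := fun h => hab
      (mul_inv_eq_iff_eq_mul.mp (mul_inv_eq_one.mp h))
    have hval : (D : G → ℂ) ((a * b * a⁻¹ * b⁻¹ : (P : Subgroup G)) : G) = (D : G → ℂ) 1 := by
      rw [hexp, ← OneMemClass.coe_one (P : Subgroup G), hexp]
      refine Finset.sum_congr rfl fun ψ _ => ?_
      by_cases h0 : c ψ = 0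
      · simp [h0]
      · obtain ⟨φ, hφ⟩ := Chars.exists_hom_of_degree_one (Chars.irr_isCharacter ψ)
          (by rw [H66.SmallCofactor.degree_eq, hlin ψ h0, Nat.cast_one])
        congr 1
        simp [hφ]
    exact hx (Subtype.ext (PrimeDegreeSimple.faithful (not_comm_of hG) hneI _ hval))
  · push Not at hlin
    obtain ⟨ψ, hψ0, hψ1⟩ := hlin
    obtain ⟨k, hk⟩ := IsPGroup.iff_card.mp P.isPGroup'
    obtain ⟨l, -, hl⟩ := (Nat.dvd_prime_pow hq.out).mp
      (hk ▸ H66.SmallCofactor.degree_dvd_card ψ)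
    have hqle : q ≤ charDegree (ψ : ↥(P : Subgroup G) → ℂ) := by
      rcases l with - | l
      · exact absurd hl hψ1
      · rw [hl]; exact Nat.le_self_pow l.succ_ne_zero q
    rw [← Finset.add_sum_erase _ _ (Finset.mem_univ ψ)] at hdeg
    have hle2 := Nat.le_mul_of_pos_left (charDegree (ψ : ↥(P : Subgroup G) → ℂ))
      (Nat.pos_of_ne_zero hψ0)
    have hrest : ∑ x ∈ Finset.univ.erase ψ, c x * charDegree (x : ↥(P : Subgroup G) → ℂ) = 0 := by
      omega
    have hcψ : c ψ = 1 := by
      have : c ψ * charDegree (ψ : ↥(P : Subgroup G) → ℂ) ≤ 1 * charDegree (ψ : ↥(P : Subgroup G) → ℂ) := by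
        omega
      have := Nat.le_of_mul_le_mul_right this (by have := hq.out.pos; omega)
      omega
    have hDψ : ∀ x : (P : Subgroup G), (D : G → ℂ) x = (ψ : ↥(P : Subgroup G) → ℂ) x := fun x => by
      rw [hexp, ← Finset.add_sum_erase _ _ (Finset.mem_univ ψ), hcψ, Nat.cast_one, one_mul,
        Finset.sum_eq_zero (s := Finset.univ.erase ψ) fun y hy => ?_, add_zero]
      have := (Finset.sum_eq_zero_iff.mp hrest) y hy
      rcases mul_eq_zero.mp this with h | h
      · simp [h]
      · exact absurd h (Chars.charDegree_spec y).1.ne'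
    haveI : Nontrivial (center (P : Subgroup G)) := P.isPGroup'.center_nontrivial
    obtain ⟨⟨z, hz⟩, hz1⟩ := exists_ne (1 : center (P : Subgroup G))
    have hzne : (z : G) ≠ 1 := fun h => hz1 (Subtype.ext (Subtype.ext h))
    have h0 := hzero (z : G) ⟨z, hz, rfl⟩ hzne
    rw [hDψ, Int.cast_zero] at h0
    -- central elements act as scalars
    obtain ⟨n, ρ, hρ, hc'⟩ := ψ.2
    obtain ⟨ω, hω⟩ := Chars.exists_scalar_of_commute ρ (ρ z) fun h => by
      rw [← Module.End.mul_eq_comp, ← Module.End.mul_eq_comp, ← map_mul, ← map_mul,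
        mem_center_iff.mp hz h]
    have hnorm := (Chars.norm_char_eq_iff ρ z).mpr ⟨ω, hω⟩
    rw [hc', h0, norm_zero, eq_comm, Nat.cast_eq_zero] at hnorm
    exact (Chars.finrank_pos_of_isIrreducible ρ).ne' hnorm

/-- An element commuting with a q-element is a q-element. -/
theorem eq_one_of_commute {n : ℕ} (hcard : Nat.card G = q * n) (hn : ¬ q ∣ n) {y g : G}
    (hy : orderOf y = q) (hc : Commute g y) {r : ℕ} (hr : r.Prime) (hrq : r ≠ q)
    (hg : orderOf g = r) : False := by
  classical
  cases nonempty_fintype G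
  have hne := ne_trivial_of_degree hD
  have hneI : D ≠ Chars.trivialIrr G := fun h => hne (by rw [h]; funext x; simp)
  let A := zpowers g
  let B := zpowers y
  haveI : Fintype A := Fintype.ofFinite _
  haveI : Fintype B := Fintype.ofFinite _
  let f : A × B →* G := MonoidHom.noncommCoprod A.subtype B.subtype (by
    rintro ⟨a, ha⟩ ⟨b, hb⟩
    obtain ⟨i, rfl⟩ := mem_zpowers_iff.mp ha
    obtain ⟨j, rfl⟩ := mem_zpowers_iff.mp hb
    exact (hc.zpow_zpow i j))
  have hvan : ∀ (a : A) (b : B), b ≠ 1 → (D : G → ℂ) ((a : G) * b) = 0 := by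
    intro a b hb
    have hab : Commute (a : G) (b : G) := by
      obtain ⟨i, hi⟩ := mem_zpowers_iff.mp a.2
      obtain ⟨j, hj⟩ := mem_zpowers_iff.mp b.2
      rw [← hi, ← hj]; exact hc.zpow_zpow i j
    have ha : (a : G) ^ r = 1 := by
      have := congrArg Subtype.val (pow_card_eq_one' (x := a))
      rwa [Nat.card_zpowers, hg] at this
    have hbq : orderOf (b : G) = q := by
      rw [orderOf_coe]
      have h1 := _root_.orderOf_dvd_natCard b
      rw [Nat.card_zpowers, hy] at h1
      exact ((Nat.dvd_prime hq.out).mp h1).resolve_left fun h => hb (orderOf_eq_one_iff.mp h)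
    have hdvd : q ∣ orderOf ((a : G) * b) := by
      have h1 : orderOf (((a : G) * b) ^ r) ∣ orderOf ((a : G) * b) := orderOf_pow_dvd r
      rwa [hab.mul_pow, ha, one_mul,
        orderOf_pow' _ hr.ne_zero, hbq, Nat.gcd_comm, Nat.Coprime.gcd_eq_one
          ((Nat.coprime_primes hr hq.out).mpr hrq), Nat.div_one] at h1
    obtain ⟨k, ρ, hρ, hcρ⟩ := D.2
    rw [← hcρ]
    refine Chars.char_eq_zero_of_defect_zero ρ hq.out (n := 1) ?_ ?_ ?_ _ hdvd
    · rw [pow_one, hcard]; exact dvd_mul_right q n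
    · rw [hcard, show q ^ (1 + 1) = q * q by ring]
      exact fun h => hn (Nat.dvd_of_mul_dvd_mul_left hq.out.pos h)
    · rw [pow_one]
      have h1 := apply_one_eq hD
      rw [← hcρ, Representation.char_one] at h1
      exact dvd_of_eq (by exact_mod_cast h1.symm)
  have hres : IsCharacter A (fun x => (D : G → ℂ) x) :=
    Chars.isCharacter_comp A.subtype (Chars.irr_isCharacter D)
  choose c hc' using fun ψ : IrrCharacter A =>
    Chars.isCharacter_classInner_nat hres (Chars.irr_isCharacter ψ)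
  haveI : IsMulCommutative A := inferInstanceAs (IsMulCommutative (zpowers g))
  have hdvd : ∀ ψ : IrrCharacter A, q ∣ c ψ := by
    intro ψ
    obtain ⟨k, hk⟩ := Chars.isCharacter_classInner_nat
      (Chars.isCharacter_comp f (Chars.irr_isCharacter D))
      (Chars.isCharacter_comp (MonoidHom.fst A B) (Chars.irr_isCharacter ψ))
    refine ⟨k, ?_⟩
    have h2 : classInner (fun x : A × B => (D : G → ℂ) (f x))
        (fun x => (ψ : A → ℂ) (MonoidHom.fst A B x)) =
        (q : ℂ)⁻¹ * classInner (fun x : A => (D : G → ℂ) x) (ψ : A → ℂ) := by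
      simp only [classInner, MonoidHom.coe_fst]
      rw [Nat.card_prod, show Nat.card B = q by rw [Nat.card_zpowers, hy], Fintype.sum_prod_type]
      push_cast
      rw [mul_inv, mul_comm (Nat.card A : ℂ)⁻¹, mul_assoc, Finset.mul_sum, Finset.mul_sum]
      congr 1
      rw [Finset.mul_sum, Finset.mul_sum]
      refine Finset.sum_congr rfl fun a _ => ?_
      rw [Finset.sum_eq_single (1 : B) (fun b _ hb => by
        rw [show f (a, b) = (a : G) * b from rfl, hvan a b hb, zero_mul])
        (fun h => absurd (Finset.mem_univ _) h), show f (a, 1) = (a : G) by simp [f]]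
    rw [h2, hc'] at hk
    have : (c ψ : ℂ) = (q : ℂ) * k := by
      rw [← hk, mul_inv_cancel_left₀ (Nat.cast_ne_zero.mpr hq.out.ne_zero)]
    exact_mod_cast this
  have hexp : ∀ x : A, (D : G → ℂ) x = ∑ ψ : IrrCharacter A, (c ψ : ℂ) * (ψ : A → ℂ) x := fun x => by
    rw [Chars.isClassFunction_apply_eq_sum_classInner (φ := fun x : A => (D : G → ℂ) x)
      (Chars.isClassFunction_comp A.subtype (Chars.irr_isClassFunction D)) x]
    simp only [hc']
  have hsum : q = ∑ ψ : IrrCharacter A, c ψ := by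
    have h1 := hexp 1
    rw [OneMemClass.coe_one, apply_one_eq hD] at h1
    simp only [Chars.irr_apply_one_of_comm, mul_one] at h1
    exact_mod_cast h1
  obtain ⟨ψ, hψ⟩ : ∃ ψ, c ψ ≠ 0 := by
    by_contra! h
    simp [h] at hsum
    exact hq.out.ne_zero hsum
  rw [← Finset.add_sum_erase _ _ (Finset.mem_univ ψ)] at hsum
  have hge := Nat.le_of_dvd (Nat.pos_of_ne_zero hψ) (hdvd ψ)
  have hrest : ∑ x ∈ Finset.univ.erase ψ, c x = 0 := by omega
  have hval : (D : G → ℂ) g = (q : ℂ) * (ψ : A → ℂ) ⟨g, mem_zpowers g⟩ := by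
    rw [show (D : G → ℂ) g = (D : G → ℂ) ((⟨g, mem_zpowers g⟩ : A) : G) from rfl, hexp,
      ← Finset.add_sum_erase _ _ (Finset.mem_univ ψ), Finset.sum_eq_zero (s := Finset.univ.erase ψ)
        fun x hx => by simp [Finset.sum_eq_zero_iff.mp hrest x hx],
      add_zero, show c ψ = q by omega]
  obtain ⟨φ, hφ⟩ := Chars.exists_hom_of_degree_one (Chars.irr_isCharacter ψ)
    (Chars.irr_apply_one_of_comm ψ)
  have hg1 := PrimeDegreeSimple.eq_one_of_norm_eq (not_comm_of hG) hneI (apply_one_eq hD) (g := g)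
    (by rw [hval]; simp [hφ, Chars.norm_hom_apply])
  rw [hg1, orderOf_one] at hg
  exact hr.ne_one hg.symm

variable (G q) in
/-- A self-centralizing Sylow subgroup of prime order q with its normalizer. -/
structure QData (P : Sylow q G) (d k : ℕ) : Prop where
  card : Nat.card (P : Subgroup G) = q
  cent : centralizer ((P : Subgroup G) : Set G) = (P : Subgroup G)
  norm : Nat.card (normalizer ((P : Subgroup G) : Set G)) = d * q
  one_lt : 1 < d
  dvd : d ∣ q - 1
  total : Nat.card G = d * q * (q * k + 1)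

/-- A character of degree q forces the q-structure. -/
theorem exists_qData : ∃ (P : Sylow q G) (d k : ℕ), QData G q P d k := by
  have hqG : q ∣ Nat.card G := hD ▸ H66.SmallCofactor.degree_dvd_card D
  let P : Sylow q G := default
  have hP := card_sylow_q hG hD P hqG
  obtain ⟨n, hn⟩ := hqG
  have hnq : ¬ q ∣ n := fun h => by
    have hi := P.not_dvd_index
    rw [show (P : Subgroup G).index = n from Nat.eq_of_mul_eq_mul_left hq.out.pos
      (by rw [← hn, ← (P : Subgroup G).card_mul_index, hP])] at hi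
    exact hi h
  obtain ⟨y, hy, hy1⟩ : ∃ y ∈ (P : Subgroup G), y ≠ 1 := by
    haveI : Nontrivial (P : Subgroup G) := Finite.one_lt_card_iff_nontrivial.mp
      (by rw [hP]; exact hq.out.one_lt)
    obtain ⟨y, hy⟩ := exists_ne (1 : (P : Subgroup G))
    exact ⟨y, y.2, fun h => hy (Subtype.ext h)⟩
  obtain ⟨hPy, hyo⟩ := DefectOne.sylow_eq_zpowers P hP hy hy1
  have hcent : centralizer ((P : Subgroup G) : Set G) = (P : Subgroup G) := by
    rw [DefectOne.centralizer_sylow P hP hy hy1]
    set C := centralizer ({y} : Set G) with hC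
    have hle : (P : Subgroup G) ≤ C := by
      rw [hPy, zpowers_le, hC, mem_centralizer_singleton_iff]
    refine (eq_of_le_of_card_ge hle ?_).symm
    obtain ⟨m, hm⟩ := card_dvd_of_le hle
    rw [hP] at hm
    by_cases hm1 : m = 1
    · rw [hm, hm1, mul_one, hP]
    exfalso
    obtain ⟨r, hr, hrm⟩ := Nat.exists_prime_and_dvd hm1
    haveI : Fact r.Prime := ⟨hr⟩
    have hrq : r ≠ q := by
      rintro rfl
      refine hnq (hrm.trans ?_)
      exact Nat.dvd_of_mul_dvd_mul_left hq.out.pos
        (by rw [← hn, ← hm]; exact card_subgroup_dvd_card C)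
    obtain ⟨g, hg⟩ := exists_prime_orderOf_dvd_card' (G := C) r (hm ▸ dvd_mul_of_dvd_right hrm q)
    rw [← orderOf_coe] at hg
    exact eq_one_of_commute hG hD hn hnq hyo
      (mem_centralizer_singleton_iff.mp g.2) hr hrq hg
  obtain ⟨e, he, he1, -, hcard⟩ := SmallGroups.exists_card_normalizer_eq_of_simple hG P hP
  rw [hcent, hP] at hcard
  have hs := card_sylow_modEq_one q G
  have hS1 : 0 < Nat.card (Sylow q G) := Nat.card_pos
  obtain ⟨k, hk⟩ : ∃ k, Nat.card (Sylow q G) = q * k + 1 := by
    refine ⟨Nat.card (Sylow q G) / q, ?_⟩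
    have h1 : Nat.card (Sylow q G) % q = 1 := by
      rw [hs, Nat.mod_eq_of_lt hq.out.one_lt]
    conv_lhs => rw [← Nat.div_add_mod (Nat.card (Sylow q G)) q, h1]
  refine ⟨P, e, k, hP, hcent, hcard, ?_, he, ?_⟩
  · rcases e with - | - | e
    · rw [zero_mul] at hcard
      exact absurd hcard Nat.card_pos.ne'
    · exact absurd rfl he1
    · omega
  · rw [← hk, ← SmallGroups.card_normalizer_sylow_mul P, hcard]

omit hD

/-- Degrees in the principal q-block. -/
theorem principal_degrees {P : Sylow q G} {d k : ℕ} (h : QData G q P d k) :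
    ∃ (A B : Finset (IrrCharacter G)) (δ : IrrCharacter G → ℤ) (ε : ℤ),
      Disjoint A B ∧ A.card = d ∧ B.card = (q - 1) / d ∧
      (∀ χ : IrrCharacter G, ¬ q ∣ charDegree (χ : G → ℂ) → χ ∈ A ∨ χ ∈ B) ∧
      (∀ χ ∈ A, (δ χ = 1 ∨ δ χ = -1) ∧ (q : ℤ) ∣ (charDegree (χ : G → ℂ) : ℤ) - δ χ) ∧
      (ε = 1 ∨ ε = -1) ∧
      (∀ θ ∈ B, (q : ℤ) ∣ (charDegree (θ : G → ℂ) : ℤ) - ε * d) ∧
      ∀ θ ∈ B, ε * (charDegree (θ : G → ℂ) : ℤ) = ∑ χ ∈ A, δ χ * (charDegree (χ : G → ℂ) : ℤ) := by
  classical
  cases nonempty_fintype G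
  obtain ⟨M, hM⟩ := CharCount.exists_isPModular q hq.out
  haveI := Blocks.isPModular_isPrime hM
  have hle : centralizer ((P : Subgroup G) : Set G) ≤ normalizer ((P : Subgroup G) : Set G) := by
    rw [h.cent]; exact le_normalizer
  have he : (centralizer ((P : Subgroup G) : Set G)).relIndex
      (normalizer ((P : Subgroup G) : Set G)) = d := by
    have h1 := ((centralizer ((P : Subgroup G) : Set G)).subgroupOf
      (normalizer ((P : Subgroup G) : Set G))).card_mul_index
    rw [Nat.card_congr (subgroupOfEquivOfLe hle).toEquiv, h.cent, h.card, h.norm, mul_comm d q]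
      at h1
    rw [h.cent]
    exact Nat.eq_of_mul_eq_mul_left hq.out.pos h1
  obtain ⟨A, B, δ, ε, hblock, hdisj, hA, hB, hAp, hε, hBp, hrel⟩ :=
    DefectOne.exists_principal hM P h.card d he
  refine ⟨A, B, δ, ε, hdisj, hA, hB, fun χ hχ => ?_,
    fun χ hχ => ⟨(hAp χ hχ).1, Int.modEq_iff_dvd.mp (hAp χ hχ).2.1.symm⟩, hε,
    fun θ hθ => Int.modEq_iff_dvd.mp (hBp θ hθ).symm, fun θ hθ => ?_⟩
  · obtain ⟨x, hx, hx1⟩ : ∃ x ∈ (P : Subgroup G), x ≠ 1 := by
      haveI : Nontrivial (P : Subgroup G) := Finite.one_lt_card_iff_nontrivial.mp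
        (by rw [h.card]; exact hq.out.one_lt)
      obtain ⟨x, hx⟩ := exists_ne (1 : (P : Subgroup G))
      exact ⟨x, x.2, fun h => hx (Subtype.ext h)⟩
    obtain ⟨S, rfl, hV, -⟩ := DefectOne.exists_local P h.card hx hx1
    have hmem : χ ∈ principalBlock M G := by
      rw [DefectOne.mem_principalBlock_iff S hM hV
        (DefectOne.not_dvd_centralizer_index P h.card hx hx1) χ (one_ne_zero (α := ZMod q))]
      have hV1 : S.V = ⊥ := by
        rw [eq_bot_iff_forall]
        intro v hv
        have hvC : v ∈ (P : Subgroup G) := by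
          rw [← h.cent, DefectOne.centralizer_sylow P h.card hx hx1, mem_centralizer_singleton_iff]
          exact (S.commute v hv).symm.eq
        have h1 : orderOf v ∣ q := h.card ▸ Subgroup.orderOf_dvd_natCard _ hvC
        have h2 : orderOf v ∣ Nat.card S.V := Subgroup.orderOf_dvd_natCard _ hv
        exact orderOf_eq_one_iff.mp (Nat.eq_one_of_dvd_coprimes
          (hq.out.coprime_iff_not_dvd.mpr S.coprime) h1 h2)
      intro h0
      refine hχ ?_
      have h1 := DefectOne.memLocalIdeal_apply_sub_degree S hM χ (one_ne_zero (α := ZMod q))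
      rw [DefectOne.profile, DefectOne.avgVal, finsum_eq_single _ (1 : S.V) (fun v hv =>
        absurd (Subtype.ext (Subgroup.mem_bot.mp (hV1 ▸ v.2))) hv)] at h0
      simp only [OneMemClass.coe_one, mul_one, mul_eq_zero, inv_eq_zero, Nat.cast_eq_zero,
        Nat.card_pos.ne', false_or] at h0
      rw [h0, zero_sub] at h1
      have h2 := Blocks.memLocalIdeal_neg h1
      rw [neg_neg] at h2
      exact (Blocks.memLocalIdeal_natCast_iff hM _).mp h2
    rw [hblock] at hmem
    exact hmem
  · have h1 := hrel θ hθ 1 (by simpa using hq.out.ne_one)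
    simp only [H66.SmallCofactor.degree_eq] at h1
    exact_mod_cast h1

end Cfsg.Agent.Lib.Order9TwoQ
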