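import Mathlib
import Cfsg.Agent.Lib.Order9TwoQ.QSylow
import Cfsg.Agent.Lib.Order9TwoQ.Arith

/-!
# The prime q is small
-/

set_option autoImplicit false

namespace Cfsg.Agent.Lib.Order9TwoQ

open Cfsg Subgroup
open Cfsg.Agent.Lib

universe u

variable {G : Type u} [Group G] [Finite G] [IsSimpleGroup G] (hG : ¬ IsMulCommutative G)
  {q a b : ℕ} [hq : Fact q.Prime] (hq2 : q ≠ 2) (hq3 : q ≠ 3)
  (hcard : Nat.card G = 9 * 2 ^ a * q ^ b) {D : IrrCharacter G}
  (hD : charDegree (D : G → ℂ) = q)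

include hG hcard hD

include hq2 hq3 in
/-- The exponent of q is one. -/
theorem q_exp_eq_one : b = 1 := by
  obtain ⟨P, d, k, h⟩ := exists_qData hG hD
  have h1 := P.card_eq_multiplicity
  rw [h.card, hcard, Nat.factorization_mul (mul_ne_zero (by norm_num) (by positivity))
    (pow_ne_zero _ hq.out.ne_zero), Finsupp.add_apply, hq.out.factorization_pow,
    Finsupp.single_eq_same, Nat.factorization_eq_zero_of_not_dvd (n := 9 * 2 ^ a), zero_add] at h1
  · exact (Nat.pow_right_injective hq.out.two_le (by simpa using h1)).symm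
  · intro hdvd
    rcases (hq.out.dvd_mul).mp hdvd with h9 | h2
    · exact hq3 ((Nat.prime_dvd_prime_iff_eq hq.out Nat.prime_three).mp
        (hq.out.dvd_of_dvd_pow (show q ∣ 3 ^ 2 from h9)))
    · exact hq2 ((Nat.prime_dvd_prime_iff_eq hq.out Nat.prime_two).mp (hq.out.dvd_of_dvd_pow h2))

/-- The q-degree data forces a small prime. -/
theorem q_lt {i : ℕ} (hqi : q = 2 ^ i + 1 ∨ q + 1 = 2 ^ i) : q < 31 := by
  classical
  by_contra h31
  push Not at h31
  have hb := q_exp_eq_one hG (by omega) (by omega) hcard hD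
  subst hb
  obtain ⟨P, d, k, h⟩ := exists_qData hG hD
  have hi : 4 < i := by
    refine (Nat.pow_lt_pow_iff_right (a := 2) (by norm_num)).mp ?_
    rcases hqi with e | e <;> norm_num <;> omega
  have hdn : d * (q * k + 1) = 9 * 2 ^ a := by
    refine Nat.eq_of_mul_eq_mul_right hq.out.pos ?_
    calc d * (q * k + 1) * q = d * q * (q * k + 1) := by ring
      _ = 9 * 2 ^ a * q := by rw [← h.total, hcard, pow_one]
  have hnq : ¬ q ∣ q * k + 1 := fun hd =>
    hq.out.ne_one (Nat.dvd_one.mp ((Nat.dvd_add_right (dvd_mul_right q k)).mp hd))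
  obtain ⟨u, r, hu, hn⟩ := exists_form_q hq.out
    (f := q * k + 1) (a := a) (b := 1) ((Dvd.intro_left d hdn).mul_right _) hnq
  obtain ⟨hu0, -⟩ := eq_zero_of_modEq hqi h31 (u := u) (r := r) hu (e := 1) (Or.inl rfl)
    ⟨k, by
      have : ((q : ℤ) * k + 1) = 3 ^ u * 2 ^ r := by exact_mod_cast hn
      linarith⟩
  subst hu0
  rw [pow_zero, one_mul] at hn
  rw [hn] at hdn
  have h9 : 9 ∣ d := by
    refine (Nat.Coprime.dvd_of_dvd_mul_right ?_ ⟨2 ^ a, hdn⟩)
    exact Nat.Coprime.pow_right r (by norm_num)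
  obtain ⟨d', rfl⟩ := h9
  have hd2 : d' ∣ 2 ^ a := ⟨2 ^ r, Nat.eq_of_mul_eq_mul_left (by norm_num : 0 < 9)
    (by rw [← mul_assoc, hdn])⟩
  obtain ⟨e, -, rfl⟩ := (Nat.dvd_prime_pow Nat.prime_two).mp hd2
  have hdvd := h.dvd
  rcases hqi with hF | hM
  · rw [hF, Nat.add_sub_cancel] at hdvd
    have h3 : 3 ∣ 2 ^ i := (show 3 ∣ 9 * 2 ^ e from dvd_mul_of_dvd_left (by norm_num) _).trans hdvd
    exact absurd ((Nat.prime_dvd_prime_iff_eq Nat.prime_three Nat.prime_two).mp
      (Nat.prime_three.dvd_of_dvd_pow h3)) (by norm_num)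
  · have he1 : e ≤ 1 := by
      by_contra he
      obtain ⟨e', rfl⟩ : ∃ e', e = e' + 2 := ⟨e - 2, by omega⟩
      obtain ⟨i', rfl⟩ : ∃ i', i = i' + 2 := ⟨i - 2, by omega⟩
      obtain ⟨c, hc⟩ := hdvd
      rw [pow_add] at hM hc
      have h4 : q - 1 = 4 * (9 * 2 ^ e' * c) := by rw [hc]; ring
      have h4' : q + 1 = 4 * 2 ^ i' := by rw [hM]; ring
      omega
    obtain ⟨A, B, δ, ε, hAB, hA, hB, hmem, hAp, hε, hBp, hrel⟩ := principal_degrees hG h
    have hqd : (q - 1) / (9 * 2 ^ e) ≠ 0 := (Nat.div_pos (Nat.le_of_dvd (by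
      have := hq.out.two_le; omega) hdvd) (by positivity)).ne'
    obtain ⟨θ, hθ⟩ : B.Nonempty := Finset.card_ne_zero.mp (hB ▸ hqd)
    have h18 : (9 * 2 ^ e : ℕ) ≤ 18 := by interval_cases e <;> norm_num
    -- the trivial character is not exceptional
    have htriv : Chars.trivialIrr G ∈ A := by
      have h1 : charDegree (Chars.trivialIrr G : G → ℂ) = 1 := by
        have := H66.SmallCofactor.degree_eq (Chars.trivialIrr G)
        rw [Chars.trivialIrr_apply] at this
        exact_mod_cast this.symm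
      refine (hmem _ (by rw [h1, Nat.dvd_one]; exact hq.out.ne_one)).resolve_right fun hB' => ?_
      have h2 := hBp _ hB'
      rw [h1] at h2
      have : ((1 : ℕ) : ℤ) - ε * ((9 * 2 ^ e : ℕ) : ℤ) ≠ 0 := by
        rcases hε with rfl | rfl <;> push_cast <;>
          rcases (show e = 0 ∨ e = 1 by omega) with rfl | rfl <;> norm_num
      have h3 := Int.le_of_dvd (abs_pos.mpr this) ((dvd_abs _ _).mpr h2)
      rcases hε with rfl | rfl <;>
        rcases (show e = 0 ∨ e = 1 by omega) with rfl | rfl <;> norm_num at h3 <;> omega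
    have hA1 : ∀ χ ∈ A.erase (Chars.trivialIrr G),
        (2 : ℤ) ^ i ∣ δ χ * (charDegree (χ : G → ℂ) : ℤ) := by
      intro χ hχ
      obtain ⟨hne, hχA⟩ := Finset.mem_erase.mp hχ
      obtain ⟨hδ, hcong⟩ := hAp χ hχA
      have hd := H66.SmallCofactor.degree_dvd_card χ
      rw [hcard] at hd
      obtain ⟨w, j, hw, hj⟩ := exists_form_q hq.out hd fun hqd => by
        have h1 : (q : ℤ) ∣ δ χ := by
          have := dvd_sub (Int.natCast_dvd_natCast.mpr hqd) hcong
          rwa [sub_sub_cancel] at this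
        have h31' : (31 : ℤ) ≤ q := by exact_mod_cast h31
        rcases hδ with e' | e' <;> rw [e'] at h1
        · have := Int.le_of_dvd one_pos h1; omega
        · have := Int.le_of_dvd one_pos (dvd_neg.mp h1); omega
      rw [hj] at hcong
      push_cast at hcong
      obtain ⟨hw0, hij⟩ := eq_zero_of_modEq (Or.inr hM) h31 hw hδ hcong
      subst hw0
      have hgt := H66.SmallCofactor.one_lt_degree hG χ fun h => hne (Subtype.ext (by
        rw [h]; funext g; simp))
      rw [hj] at hgt ⊢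
      have hij' : i ≤ j := Nat.le_of_dvd (Nat.pos_of_ne_zero fun h0 => by simp [h0] at hgt) hij
      push_cast
      rw [one_mul]
      exact dvd_mul_of_dvd_right (pow_dvd_pow 2 hij') _
    have hdeg1 : (charDegree (Chars.trivialIrr G : G → ℂ) : ℤ) = 1 := by
      have := H66.SmallCofactor.degree_eq (Chars.trivialIrr G)
      rw [Chars.trivialIrr_apply] at this
      exact_mod_cast this.symm
    have hδ1 : δ (Chars.trivialIrr G) = 1 := by
      obtain ⟨hδ, hc⟩ := hAp _ htriv
      rw [hdeg1] at hc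
      refine hδ.resolve_right fun e' => ?_
      rw [e'] at hc
      norm_num at hc
      have := Int.le_of_dvd (by norm_num) hc
      have h31' : (31 : ℤ) ≤ q := by exact_mod_cast h31
      omega
    have hsum : (2 : ℤ) ^ i ∣ ε * (charDegree (θ : G → ℂ) : ℤ) - 1 := by
      rw [hrel θ hθ, ← Finset.add_sum_erase _ _ htriv, hδ1, hdeg1, one_mul, add_sub_cancel_left]
      exact Finset.dvd_sum hA1
    have hθd := hBp θ hθ
    have hθdvd := H66.SmallCofactor.degree_dvd_card θ
    rw [hcard] at hθdvd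
    have h31' : (31 : ℤ) ≤ q := by exact_mod_cast h31
    have h2i : (32 : ℤ) ≤ 2 ^ i := by
      rw [show (32 : ℤ) = 2 ^ 5 by norm_num]
      exact pow_le_pow_right₀ (by norm_num) hi
    obtain ⟨w, j, hw, hj⟩ := exists_form_q hq.out hθdvd fun hqd => by
      have h1 : (q : ℤ) ∣ ε * ((9 * 2 ^ e : ℕ) : ℤ) := by
        have := dvd_sub (Int.natCast_dvd_natCast.mpr hqd) hθd
        rwa [sub_sub_cancel] at this
      have h2 := Int.natCast_dvd.mp h1
      rw [Int.natAbs_mul, Int.natAbs_natCast] at h2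
      have := Nat.le_of_dvd (by rcases hε with rfl | rfl <;> simp) h2
      rcases hε with rfl | rfl <;> simp at this <;> omega
    rw [hj] at hθd hsum
    push_cast at hθd hsum
    have hj0 : j = 0 := by
      by_contra hj0
      have h2 : (2 : ℤ) ∣ ε * (3 ^ w * 2 ^ j) :=
        dvd_mul_of_dvd_right (dvd_mul_of_dvd_right (dvd_pow_self 2 hj0) _) _
      have h3 := dvd_sub h2 ((dvd_pow_self (2 : ℤ) (by omega : i ≠ 0)).trans hsum)
      rw [sub_sub_cancel] at h3
      norm_num at h3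
    subst hj0
    rw [pow_zero, mul_one] at hθd hsum
    -- small numbers
    have hsmall : ε * (3 : ℤ) ^ w - 1 = 0 ∨ 32 ≤ |ε * (3 : ℤ) ^ w - 1| := by
      by_cases h0 : ε * (3 : ℤ) ^ w - 1 = 0
      · exact Or.inl h0
      · exact Or.inr (h2i.trans (Int.le_of_dvd (abs_pos.mpr h0) ((dvd_abs _ _).mpr hsum)))
    have hw0 : ε = 1 ∧ w = 0 := by
      rcases hε with rfl | rfl <;> interval_cases w <;> first | exact ⟨rfl, rfl⟩ | norm_num at hsmall
    obtain ⟨rfl, rfl⟩ := hw0
    have h5 : (q : ℤ) ∣ 1 - 9 * 2 ^ e := by simpa using hθd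
    have h6 := Int.le_of_dvd (abs_pos.mpr (by interval_cases e <;> norm_num)) ((dvd_abs _ _).mpr h5)
    interval_cases e <;> norm_num at h6 <;> omega

end Cfsg.Agent.Lib.Order9TwoQ
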