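import Mathlib
import Cfsg.Agent.Lib.Order9TwoQ.InvChar
import Cfsg.Agent.Lib.Order9TwoQ.Mersenne

/-!
# Inverting automizer: degrees, sections and the one class of involutions
-/

set_option autoImplicit false
set_option linter.unusedSectionVars false

namespace Cfsg.Agent.Lib.Order9TwoQ

open Cfsg Subgroup
open Cfsg.Agent.Lib
open Cfsg.Agent.Lib.PairPSolv

universe u

attribute [local instance] fact_three'

variable {G : Type u} [Group G] [Fintype G] [IsSimpleGroup G]

section Primes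

variable {q a b : ℕ} [hq : Fact q.Prime]

/-- The primes dividing the order. -/
theorem prime_cases (hcard : Nat.card G = 9 * 2 ^ a * q ^ b) {p : ℕ} (hp : p.Prime)
    (h : p ∣ Nat.card G) : p = 2 ∨ p = 3 ∨ p = q := by
  rw [hcard] at h
  rcases hp.dvd_mul.mp h with h | h
  · rcases hp.dvd_mul.mp h with h | h
    · exact Or.inr (Or.inl ((Nat.prime_dvd_prime_iff_eq hp Nat.prime_three).mp
        (hp.dvd_of_dvd_pow (show p ∣ 3 ^ 2 from h))))
    · exact Or.inl ((Nat.prime_dvd_prime_iff_eq hp Nat.prime_two).mp (hp.dvd_of_dvd_pow h))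
  · exact Or.inr (Or.inr ((Nat.prime_dvd_prime_iff_eq hp hq.out).mp (hp.dvd_of_dvd_pow h)))

variable (hG : ¬ IsMulCommutative G) (hq2 : q ≠ 2) (hq3 : q ≠ 3)
  (hcard : Nat.card G = 9 * 2 ^ a * q) {D : IrrCharacter G} (hD : charDegree (D : G → ℂ) = q)

include hG hq2 hq3 hcard hD

/-- An element of order q commutes with no element of order 2 or 3. -/
theorem not_commute_q {y g : G} {r : ℕ} (hr : r = 2 ∨ r = 3) (hg : orderOf g = r)
    (hy : orderOf y = q) (hc : Commute g y) : False := by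
  refine eq_one_of_commute hG hD (n := 9 * 2 ^ a) (by rw [hcard]; ring) ?_ hy hc
    (by rcases hr with rfl | rfl <;> norm_num) (by rcases hr with rfl | rfl <;> tauto) hg
  intro h
  rcases hq.out.dvd_mul.mp h with h | h
  · exact hq3 ((Nat.prime_dvd_prime_iff_eq hq.out Nat.prime_three).mp
      (hq.out.dvd_of_dvd_pow (show q ∣ 3 ^ 2 from h)))
  · exact hq2 ((Nat.prime_dvd_prime_iff_eq hq.out Nat.prime_two).mp (hq.out.dvd_of_dvd_pow h))

/-- A 3-regular element commuting with an element of order 3 and having no power of order 2. -/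
theorem eq_one_of_regular {w y : G} (h3 : ¬ 3 ∣ orderOf w) (hy : orderOf y = 3) (hc : Commute w y)
    (h2 : ∀ k : ℕ, orderOf (w ^ k) ≠ 2) : w = 1 := by
  by_contra hw
  have h1 : orderOf w ≠ 1 := fun h => hw (orderOf_eq_one_iff.mp h)
  obtain ⟨p, hp, hpw⟩ := Nat.exists_prime_and_dvd h1
  have hord : orderOf (w ^ (orderOf w / p)) = p :=
    orderOf_pow_orderOf_div (orderOf_pos w).ne' hpw
  rcases prime_cases (q := q) (a := a) (b := 1) (by rw [hcard, pow_one]) hp (hpw.trans (orderOf_dvd_natCard w))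
    with rfl | rfl | rfl
  · exact h2 _ hord
  · exact h3 hpw
  · exact not_commute_q hG hq2 hq3 hcard hD (Or.inr rfl) hy hord (hc.pow_left _).symm

end Primes

variable {R : Sylow 3 G} (hI : InvType R)

include hI

theorem InvType.hasComplements :
    ∀ u ∈ (R : Subgroup G), u ≠ 1 → HasNormalPComplement 3 (centralizer ({u} : Set G)) :=
  fun _ hu hu1 => hI.hasNormalPComplement hu hu1

theorem InvType.pow_nine {u : G} (hu : u ∈ (R : Subgroup G)) : u ^ 9 = 1 := by
  have := congrArg Subtype.val (pow_card_eq_one' (x := (⟨u, hu⟩ : (R : Subgroup G))))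
  rwa [hI.card] at this

/-- An element of order three inside the group generated by a nonidentity element of R. -/
theorem InvType.exists_order_three {u : G} (hu : u ∈ (R : Subgroup G)) (hu1 : u ≠ 1) :
    ∃ k : ℕ, orderOf (u ^ k) = 3 := by
  obtain ⟨k, hk⟩ := exists_pow_of_mem R hI.card hu
  refine ⟨_, orderOf_pow_orderOf_div (orderOf_pos u).ne' ?_⟩
  rw [hk]
  rcases k with - | k
  · exact absurd (orderOf_eq_one_iff.mp (by simpa using hk)) hu1
  · exact dvd_pow_self 3 k.succ_ne_zero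

/-- An involution inverting the Sylow subgroup, given trivial 2-part in its centralizer. -/
theorem InvType.exists_tau
    (hcent : ∀ w : G, (∀ r ∈ (R : Subgroup G), Commute w r) → w ∈ (R : Subgroup G)) :
    ∃ τ : G, orderOf τ = 2 ∧ ∀ r ∈ (R : Subgroup G), τ * r * τ⁻¹ = r⁻¹ := by
  obtain ⟨n, -, hn⟩ := hI.exists_inv
  refine ⟨n, orderOf_eq_prime ?_ ?_, hn⟩
  · have hmem : n ^ 2 ∈ (R : Subgroup G) := hcent _ fun r hr => by
      have h1 : n ^ 2 * r * (n ^ 2)⁻¹ = r := by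
        calc n ^ 2 * r * (n ^ 2)⁻¹ = n * (n * r * n⁻¹) * n⁻¹ := by rw [pow_two]; group
          _ = r := by rw [hn r hr, hn _ (inv_mem hr), inv_inv]
      exact mul_inv_eq_iff_eq_mul.mp h1
    by_contra h
    refine hI.ne_inv hmem h ?_
    rw [← hn _ hmem]
    group
  · rintro rfl
    have : Nontrivial (R : Subgroup G) := Finite.one_lt_card_iff_nontrivial.mp
      (by rw [hI.card]; norm_num)
    obtain ⟨r, hr⟩ := exists_ne (1 : (R : Subgroup G))
    have := hn r r.2
    rw [one_mul, inv_one, mul_one] at this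
    exact hI.ne_inv r.2 (fun h => hr (Subtype.ext h)) this

/-- The centralizer of u is the product of its 3-regular part and R. -/
theorem InvType.exists_decomp {u g : G} (hu : u ∈ (R : Subgroup G)) (hu1 : u ≠ 1)
    (hg : Commute g u) : ∃ w ∈ centralizerPPrimeCore 3 u, ∃ r ∈ (R : Subgroup G), g = w * r := by
  have hP := isMulCommutative_sylow R hI.card
  obtain ⟨hidx, hmem⟩ := core_facts R hP hI.hasComplements hu hu1
  set C := centralizer ({u} : Set G)
  have hRC : (R : Subgroup G) ≤ C := le_centralizer_self R hI.card hu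
  set W := pPrimeCore 3 C with hW
  have hdis : Disjoint W ((R : Subgroup G).subgroupOf C) := by
    rw [disjoint_iff, eq_bot_iff_forall]
    rintro v ⟨hvW, hvR⟩
    have h1 : (v : G) ∈ centralizerPPrimeCore 3 u := Subgroup.mem_map.mpr ⟨v, hvW, rfl⟩
    obtain ⟨k, hk⟩ := exists_pow_of_mem R hI.card (mem_subgroupOf.mp hvR)
    have h2 := (mem_reg.mp ((hmem _).mpr h1)).2
    rw [hk] at h2
    rcases k with - | k
    · exact Subtype.ext (orderOf_eq_one_iff.mp (by simpa using hk))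
    · exact absurd (dvd_pow_self 3 k.succ_ne_zero) h2
  have hcard : Nat.card W * Nat.card ((R : Subgroup G).subgroupOf C) = Nat.card C := by
    rw [Nat.card_congr (subgroupOfEquivOfLe hRC).toEquiv, ← hidx, Subgroup.card_mul_index]
  have hsup := (isComplement'_of_card_mul_and_disjoint hcard hdis).sup_eq_top
  obtain ⟨w, hw, r, hr, hwr⟩ := Subgroup.mem_sup_of_normal_left.mp
    (show (⟨g, mem_centralizer_singleton_iff.mpr hg.eq⟩ : C) ∈ W ⊔ (R : Subgroup G).subgroupOf C by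
      rw [hsup]; exact mem_top _)
  exact ⟨w, Subgroup.mem_map.mpr ⟨w, hw, rfl⟩, r, mem_subgroupOf.mp hr,
    (congrArg Subtype.val hwr).symm⟩

theorem InvType.mem_core {u w : G} (hu : u ∈ (R : Subgroup G)) (hu1 : u ≠ 1) :
    w ∈ centralizerPPrimeCore 3 u ↔ Commute w u ∧ ¬ 3 ∣ orderOf w := by
  rw [← (core_facts R (isMulCommutative_sylow R hI.card) hI.hasComplements hu hu1).2 w, mem_reg,
    mem_centralizer_singleton_iff]
  rfl

theorem InvType.eq_one_of_mem_of_regular {w : G} (hw : w ∈ (R : Subgroup G))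
    (h : ¬ 3 ∣ orderOf w) : w = 1 := by
  by_contra h1
  obtain ⟨k, hk⟩ := hI.exists_order_three hw h1
  exact h (hk ▸ orderOf_pow_dvd k)

/-- All involutions inverting a nonidentity element of R are conjugate. -/
theorem InvType.isConj_tau
    (hcent : ∀ w : G, (∀ r ∈ (R : Subgroup G), Commute w r) → w ∈ (R : Subgroup G))
    {τ : G} (hτ : orderOf τ = 2) (hτi : ∀ r ∈ (R : Subgroup G), τ * r * τ⁻¹ = r⁻¹)
    {u t : G} (hu : u ∈ (R : Subgroup G)) (hu1 : u ≠ 1) (ht : orderOf t = 2)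
    (hti : t * u * t⁻¹ = u⁻¹) : IsConj t τ := by
  classical
  have hτ2 : τ * τ = 1 := by rw [← pow_two, ← hτ, pow_orderOf_eq_one]
  have ht2 : t * t = 1 := by rw [← pow_two, ← ht, pow_orderOf_eq_one]
  have hτinv : τ⁻¹ = τ := inv_eq_of_mul_eq_one_right hτ2
  have htinv : t⁻¹ = t := inv_eq_of_mul_eq_one_right ht2
  have hc : Commute (t * τ) u := by
    have h1 : t * τ * u * (t * τ)⁻¹ = u := by
      calc t * τ * u * (t * τ)⁻¹ = t * (τ * u * τ⁻¹) * t⁻¹ := by group
        _ = (t * u * t⁻¹)⁻¹ := by rw [hτi u hu]; group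
        _ = u := by rw [hti, inv_inv]
    exact mul_inv_eq_iff_eq_mul.mp h1
  obtain ⟨w, hw, r, hr, hwr⟩ := hI.exists_decomp hu hu1 hc
  set τ' := r * τ with hτ'def
  have hτ'i : ∀ x ∈ (R : Subgroup G), τ' * x * τ'⁻¹ = x⁻¹ := fun x hx => by
    calc r * τ * x * (r * τ)⁻¹ = r * (τ * x * τ⁻¹) * r⁻¹ := by group
      _ = x⁻¹ := by rw [hτi x hx, comm_mem R hI.card hr (inv_mem hx), mul_inv_cancel_right]
  have hτ'2 : τ' * τ' = 1 := by
    calc r * τ * (r * τ) = r * (τ * r * τ⁻¹) * (τ * τ) := by group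
      _ = 1 := by rw [hτi r hr, hτ2, mul_one, mul_inv_cancel]
  have hτ'inv : τ'⁻¹ = τ' := inv_eq_of_mul_eq_one_right hτ'2
  have hconj : IsConj τ' τ := by
    refine (_root_.isConj_iff.mpr ⟨r ^ 5, ?_⟩).symm
    have h5 : r ^ 5 ∈ (R : Subgroup G) := pow_mem hr 5
    calc r ^ 5 * τ * (r ^ 5)⁻¹ = r ^ 5 * (τ * (r ^ 5)⁻¹ * τ⁻¹) * τ := by group
      _ = r ^ 9 * r * τ := by rw [hτi _ (inv_mem h5), inv_inv]; group
      _ = τ' := by rw [hI.pow_nine hr, one_mul]
  have htw : t = w * τ' := by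
    calc t = t * τ * τ := by rw [mul_assoc, hτ2, mul_one]
      _ = w * τ' := by rw [hwr, hτ'def, mul_assoc]
  have hwinv : τ' * w⁻¹ * τ' = w := by
    have h1 : w * τ' * (w * τ') = 1 := htw ▸ ht2
    have h2 : τ' * w⁻¹ = w * τ' := by
      rw [← hτ'inv, ← mul_inv_rev, hτ'inv]
      exact inv_eq_of_mul_eq_one_right h1
    rw [h2, mul_assoc, hτ'2, mul_one]
  by_cases hy : ∀ y ∈ (R : Subgroup G), y ∈ zpowers u
  · have hwC : ∀ x ∈ (R : Subgroup G), Commute w x := fun x hx => by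
      obtain ⟨j, rfl⟩ := mem_zpowers_iff.mp (hy x hx)
      exact ((hI.mem_core hu hu1).mp hw).1.zpow_right j
    rw [htw, hI.eq_one_of_mem_of_regular (hcent w hwC) ((hI.mem_core hu hu1).mp hw).2, one_mul]
    exact hconj
  push Not at hy
  obtain ⟨y, hy, hyu⟩ := hy
  have hle : zpowers u ≤ (R : Subgroup G) := zpowers_le.mpr hu
  have hcu : Nat.card (zpowers u) = 3 := by
    have h1 : Nat.card (zpowers u) ∣ 3 ^ 2 := by
      rw [show 3 ^ 2 = 9 from rfl, ← hI.card]; exact card_dvd_of_le hle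
    obtain ⟨j, hj, hj'⟩ := (Nat.dvd_prime_pow Nat.prime_three).mp h1
    interval_cases j
    · exact absurd (orderOf_eq_one_iff.mp (by rwa [Nat.card_zpowers, pow_zero] at hj')) hu1
    · simpa using hj'
    · exact absurd ((eq_of_le_of_card_ge hle (by rw [hj', hI.card]; norm_num)) ▸ hy) hyu
  have hy3 : y ^ 3 ∈ zpowers u := by
    letI : CommGroup (R : Subgroup G) :=
      { (inferInstance : Group (R : Subgroup G)) with
        mul_comm := fun a b => Subtype.ext (comm_mem R hI.card a.2 b.2) }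
    have hidx : ((zpowers u).subgroupOf (R : Subgroup G)).index = 3 := by
      have h1 := ((zpowers u).subgroupOf (R : Subgroup G)).card_mul_index
      rw [Nat.card_congr (subgroupOfEquivOfLe hle).toEquiv, hcu, hI.card] at h1
      omega
    have h1 := Subgroup.pow_index_mem ((zpowers u).subgroupOf (R : Subgroup G)) ⟨y, hy⟩
    rw [hidx, mem_subgroupOf] at h1
    simpa using h1
  have hgen : ∀ v : G, Commute v u → Commute v y → ∀ x ∈ (R : Subgroup G), Commute v x := by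
    intro v h1 h2
    set H := zpowers u ⊔ zpowers y with hHdef
    have hH : H ≤ (R : Subgroup G) := sup_le hle (zpowers_le.mpr hy)
    have hlt : zpowers u < H := lt_of_le_of_ne le_sup_left fun h =>
      hyu (h ▸ mem_sup_right (mem_zpowers y))
    have h9 : Nat.card H ∣ 3 ^ 2 := by
      rw [show 3 ^ 2 = 9 from rfl, ← hI.card]; exact card_dvd_of_le hH
    have h3 : 3 < Nat.card H := by
      rw [← hcu]
      refine lt_of_le_of_ne (Nat.le_of_dvd Nat.card_pos (card_dvd_of_le hlt.le)) fun h => ?_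
      exact hlt.ne (eq_of_le_of_card_ge hlt.le h.ge)
    have hHR : H = (R : Subgroup G) := by
      obtain ⟨j, hj, hj'⟩ := (Nat.dvd_prime_pow Nat.prime_three).mp h9
      refine eq_of_le_of_card_ge hH ?_
      rw [hI.card]
      interval_cases j <;> omega
    have hv : H ≤ centralizer ({v} : Set G) := sup_le
      (zpowers_le.mpr (mem_centralizer_singleton_iff.mpr h1.symm.eq))
      (zpowers_le.mpr (mem_centralizer_singleton_iff.mpr h2.symm.eq))
    exact fun x hx => (mem_centralizer_singleton_iff.mp (hv (hHR ▸ hx))).symm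
  have hW : ∀ v ∈ centralizerPPrimeCore 3 u, y⁻¹ * v * y ∈ centralizerPPrimeCore 3 u := by
    intro v hv
    rw [hI.mem_core hu hu1] at hv ⊢
    have hyu' : Commute y u := comm_mem R hI.card hy hu
    refine ⟨(hyu'.inv_left.mul_left hv.1).mul_left hyu', ?_⟩
    have h1 := MulEquiv.orderOf_eq (MulAut.conj y⁻¹) v
    rw [MulAut.conj_apply, inv_inv] at h1
    rw [h1]
    exact hv.2
  set W := centralizerPPrimeCore 3 u
  let φ : W → W := fun v => ⟨(v : G)⁻¹ * (y⁻¹ * v * y), mul_mem (inv_mem v.2) (hW v v.2)⟩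
  have hφ : Function.Injective φ := by
    intro v z h
    have h' : (v : G)⁻¹ * (y⁻¹ * v * y) = (z : G)⁻¹ * (y⁻¹ * z * y) := congrArg Subtype.val h
    have hd : (z : G) * (v : G)⁻¹ ∈ W := mul_mem z.2 (inv_mem v.2)
    obtain ⟨hdu, hdr⟩ := (hI.mem_core hu hu1).mp hd
    have hdy : Commute ((z : G) * (v : G)⁻¹) y := by
      refine Commute.inv_right_iff.mp ?_
      show (z : G) * (v : G)⁻¹ * y⁻¹ = y⁻¹ * ((z : G) * (v : G)⁻¹)
      calc (z : G) * (v : G)⁻¹ * y⁻¹
          = (z : G) * ((v : G)⁻¹ * (y⁻¹ * v * y)) * y⁻¹ * (v : G)⁻¹ := by group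
        _ = y⁻¹ * ((z : G) * (v : G)⁻¹) := by rw [h']; group
    have := hI.eq_one_of_mem_of_regular (hcent _ (hgen _ hdu hdy)) hdr
    exact Subtype.ext (mul_inv_eq_one.mp this).symm
  obtain ⟨v, hv⟩ := (Finite.injective_iff_surjective.mp hφ) ⟨w, hw⟩
  have hv' : (v : G)⁻¹ * (y⁻¹ * v * y) = w := congrArg Subtype.val hv
  have hy3c : ∀ z ∈ W, y ^ 3 * z = z * y ^ 3 := fun z hz => by
    obtain ⟨j, hj⟩ := mem_zpowers_iff.mp hy3
    rw [← hj]
    exact (((hI.mem_core hu hu1).mp hz).1.zpow_right j).symm.eq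
  have hkey : y⁻¹ * y⁻¹ * w * (y * y) * w * (y⁻¹ * w * y) = 1 := by
    have h1 : w * (y⁻¹ * w * y) * (y⁻¹ * y⁻¹ * w * (y * y)) = 1 := by
      rw [← hv']
      calc _ = (v : G)⁻¹ * (y ^ 3)⁻¹ * ((v : G) * y ^ 3) := by rw [pow_succ, pow_two]; group
        _ = 1 := by rw [← hy3c v v.2]; group
    calc y⁻¹ * y⁻¹ * w * (y * y) * w * (y⁻¹ * w * y)
        = (y⁻¹ * y⁻¹ * w * (y * y)) * (w * (y⁻¹ * w * y) * (y⁻¹ * y⁻¹ * w * (y * y)))
            * (y⁻¹ * y⁻¹ * w * (y * y))⁻¹ := by group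
      _ = 1 := by rw [h1]; group
  refine IsConj.trans (_root_.isConj_iff.mpr ⟨y⁻¹ * y⁻¹ * w * (y * y), ?_⟩) hconj
  rw [htw]
  have hτy : τ' * (y⁻¹ * y⁻¹) * τ' = y * y := by
    have := hτ'i _ (mul_mem (inv_mem hy) (inv_mem hy))
    rw [hτ'inv] at this
    rw [this, mul_inv_rev, inv_inv]
  have hτy' : τ' * (y * y) * τ' = y⁻¹ * y⁻¹ := by
    have := hτ'i _ (mul_mem hy hy)
    rw [hτ'inv] at this
    rw [this, mul_inv_rev]
  have hshift : y * y * w * (y⁻¹ * y⁻¹) = y⁻¹ * w * y := by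
    calc y * y * w * (y⁻¹ * y⁻¹) = y⁻¹ * (y ^ 3 * w) * (y⁻¹ * y⁻¹) := by rw [pow_succ, pow_two]; group
      _ = y⁻¹ * w * y := by rw [hy3c w hw]; group
  calc y⁻¹ * y⁻¹ * w * (y * y) * (w * τ') * (y⁻¹ * y⁻¹ * w * (y * y))⁻¹
      = y⁻¹ * y⁻¹ * w * (y * y) * w * ((τ' * (y⁻¹ * y⁻¹) * τ') * (τ' * w⁻¹ * τ') *
          (τ' * (y * y) * τ')) * τ' := by
        rw [mul_inv_rev, mul_inv_rev, mul_inv_rev]
        simp only [mul_inv_rev, inv_inv, mul_assoc, ← mul_assoc τ' τ', hτ'2, one_mul, mul_one]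
    _ = τ' := by rw [hτy, hwinv, hτy', hshift, hkey, one_mul]

end Cfsg.Agent.Lib.Order9TwoQ
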