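import Mathlib
import Cfsg.Agent.Lib.Order9TwoQ.InvBasic

/-!
# Inverting automizer: degrees and the absence of mixed elements
-/

set_option autoImplicit false
set_option linter.unusedSectionVars false

namespace Cfsg.Agent.Lib.Order9TwoQ

open Cfsg Subgroup
open Cfsg.Agent.Lib
open Cfsg.Agent.Lib.PairPSolv

universe u

attribute [local instance] fact_three'

variable {G : Type u} [Group G] [Fintype G] [IsSimpleGroup G] (hG : ¬ IsMulCommutative G)
  {R : Sylow 3 G} (hI : InvType R) {M : Ideal AlgInt} [M.IsPrime] (hM : IsPModular 3 M)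
  {X : IrrCharacter G} {Ys : Finset (IrrCharacter G)} {δ : ℤ} (hD' : CharData R M X Ys δ)

include hG hI hM hD'

theorem CharData.X_ne_one : (X : G → ℂ) ≠ fun _ => 1 := fun h =>
  hD'.X_ne (Subtype.ext (by rw [h]; funext g; simp))

theorem CharData.Y_ne_one {Y : IrrCharacter G} (hY : Y ∈ Ys) : (Y : G → ℂ) ≠ fun _ => 1 := fun h =>
  hD'.one_notMem (by
    rwa [show Chars.trivialIrr G = Y from Subtype.ext (by rw [h]; funext g; simp)])

theorem CharData.deg_Y {Y : IrrCharacter G} (hY : Y ∈ Ys) :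
    (charDegree (Y : G → ℂ) : ℤ) = (charDegree (X : G → ℂ) : ℤ) + δ := by
  have h := hD'.rel Y hY 1 (by simp)
  simp only [H66.SmallCofactor.degree_eq] at h
  exact_mod_cast h

/-- The degrees, and the small prime. -/
theorem CharData.degrees {q a b : ℕ} [hq : Fact q.Prime] (hq2 : q ≠ 2) (hq3 : q ≠ 3)
    (hcard : Nat.card G = 9 * 2 ^ a * q ^ b) :
    δ = -1 ∧ b = 1 ∧
      ((q = 7 ∧ charDegree (X : G → ℂ) = 8) ∨ (q = 17 ∧ charDegree (X : G → ℂ) = 17)) := by
  obtain ⟨Y, hY⟩ : Ys.Nonempty := Finset.card_pos.mp (by rw [hD'.card_Ys]; norm_num)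
  set x := charDegree (X : G → ℂ) with hx
  set y := charDegree (Y : G → ℂ) with hy
  have hxy : (y : ℤ) = x + δ := hD'.deg_Y hG hI hM hY
  have h9 : (9 : ℤ) ∣ (x : ℤ) - δ := by
    have := H66.SmallCofactor.card_dvd_of_const (R : Subgroup G) (Chars.irr_isCharacter X)
      (d := (x : ℤ)) (z := δ) (by rw [H66.SmallCofactor.degree_eq, Int.cast_natCast])
      hD'.X_val
    rwa [hI.card] at this
  have hx1 : 1 < x := H66.SmallCofactor.one_lt_degree hG X (hD'.X_ne_one hG hI hM)
  have hy1 : 1 < y := H66.SmallCofactor.one_lt_degree hG Y (hD'.Y_ne_one hG hI hM hY)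
  have hxd : x ∣ 9 * 2 ^ a * q ^ b := hcard ▸ H66.SmallCofactor.degree_dvd_card X
  have hyd : y ∣ 9 * 2 ^ a * q ^ b := hcard ▸ H66.SmallCofactor.degree_dvd_card Y
  have key : ∃ i, 2 ≤ i ∧ (q = 2 ^ i + 1 ∨ q + 1 = 2 ^ i) ∧
      ((x = q ∧ y = 2 ^ i) ∨ (x = 2 ^ i ∧ y = q)) := by
    rcases hD'.sign with h | h
    · obtain ⟨i, hi, hc⟩ := consecutive hq.out hq2 hq3 hx1 hxd
        (by rw [show x + 1 = y by omega]; exact hyd) (by omega) (by omega)
      refine ⟨i, hi, ?_⟩
      rcases hc with ⟨h1, h2⟩ | ⟨h1, h2⟩ <;> constructor <;> omega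
    · obtain ⟨i, hi, hc⟩ := consecutive hq.out hq2 hq3 hy1 hyd
        (by rw [show y + 1 = x by omega]; exact hxd) (by omega) (by omega)
      refine ⟨i, hi, ?_⟩
      rcases hc with ⟨h1, h2⟩ | ⟨h1, h2⟩ <;> constructor <;> omega
  obtain ⟨i, hi, hqi, hxyq⟩ := key
  obtain ⟨D, hD⟩ : ∃ D : IrrCharacter G, charDegree (D : G → ℂ) = q := by
    rcases hxyq with ⟨h, -⟩ | ⟨-, h⟩
    · exact ⟨X, h⟩
    · exact ⟨Y, h⟩
  have hb := q_exp_eq_one hG hq2 hq3 hcard hD
  have h31 : q < 31 := q_lt hG hcard hD hqi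
  have hi5 : i ≤ 5 := by
    by_contra h
    have := Nat.pow_le_pow_right (show 0 < 2 by norm_num) (show 6 ≤ i by omega)
    omega
  have h2 := hq.out
  refine ⟨?_, hb, ?_⟩ <;> rcases hD'.sign with h | h <;> interval_cases i <;>
    rcases hqi with hqi | hqi <;> norm_num at hqi hxyq ⊢ <;>
    first
      | omega
      | (subst hqi; norm_num at h2)
      | (obtain rfl : q = 15 := by omega
         norm_num at h2)

theorem CharData.section_val {u v : G} (hu : u ∈ (R : Subgroup G)) (hu1 : u ≠ 1)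
    (hc : Commute v u) (hv : ¬ 3 ∣ orderOf v) : (X : G → ℂ) (u * v) = δ := by
  have hup := exists_pow_of_mem R hI.card hu
  rw [Blocks.PrincipalSection.apply_mul_eq hM hup
    (fun _ hB _ hχ' _ hb hnot _ hy => Blocks.secondMain_blockPart hM hup hB hχ' rfl hb hnot hy)
    ((hI.mem_core hu hu1).mpr ⟨hc, hv⟩) hD'.mem_X]
  exact hD'.X_val u hu hu1

/-- The multiplicity of the trivial character on a product with an involution. -/
theorem CharData.trivial_mult (A : Subgroup G) (hA : A ≤ (R : Subgroup G)) {v : G}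
    (hv : orderOf v = 2) (hc : ∀ r ∈ A, Commute v r) {s : ℤ} (hs : (X : G → ℂ) v = s) :
    ∃ k : ℕ, (charDegree (X : G → ℂ) : ℤ) + s + 2 * ((Nat.card A : ℤ) - 1) * δ =
      2 * (Nat.card A : ℤ) * k := by
  classical
  haveI : Fintype A := Fintype.ofFinite A
  haveI : Fintype (zpowers v) := Fintype.ofFinite _
  have hcc : ∀ (r : A) (b : zpowers v), Commute (r : G) (b : G) := fun r b => by
    obtain ⟨j, hj⟩ := mem_zpowers_iff.mp b.2
    rw [← hj]
    exact (hc r r.2).symm.zpow_right j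
  let f : A × zpowers v →* G := MonoidHom.noncommCoprod A.subtype (zpowers v).subtype hcc
  let x : ℤ := charDegree (X : G → ℂ)
  let val : A × zpowers v → ℤ := fun p => if p.1 = 1 then (if p.2 = 1 then x else s) else δ
  let v' : zpowers v := ⟨v, mem_zpowers v⟩
  have hv1 : (1 : zpowers v) ≠ v' := fun h => by
    have : v = 1 := (congrArg Subtype.val h).symm
    rw [this, orderOf_one] at hv
    norm_num at hv
  have huniv : (Finset.univ : Finset (zpowers v)) = {1, v'} := by
    symm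
    apply Finset.eq_univ_of_card
    rw [Finset.card_pair hv1, ← Nat.card_eq_fintype_card, Nat.card_zpowers, hv]
  obtain ⟨k, hk⟩ := H66.SmallCofactor.exists_nat_sum_hom f (Chars.irr_isCharacter X) val (by
    rintro ⟨r, b⟩
    show (X : G → ℂ) ((r : G) * (b : G)) = (val (r, b) : ℂ)
    have hb : b = 1 ∨ b = v' := by
      have h := Finset.mem_univ b
      rw [huniv] at h
      simpa using h
    by_cases hr : r = 1
    · subst hr
      rcases hb with rfl | rfl
      · simp [val, x, H66.SmallCofactor.degree_eq]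
      · simp [val, v', hs, hv1.symm]
    · simp only [val, if_neg hr]
      refine hD'.section_val hG hI hM (hA r.2) (fun e => hr (Subtype.ext e)) (hcc r b).symm ?_
      rcases hb with rfl | rfl
      · simp
      · show ¬ 3 ∣ orderOf v
        rw [hv]; norm_num)
  refine ⟨k, ?_⟩
  rw [Nat.card_prod, Nat.card_zpowers, hv, Fintype.sum_prod_type] at hk
  simp only [huniv, Finset.sum_pair hv1, val, if_true, if_neg hv1.symm] at hk
  rw [← Finset.add_sum_erase _ _ (Finset.mem_univ (1 : A)),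
    Finset.sum_congr rfl (fun r hr => by simp only [if_neg (Finset.ne_of_mem_erase hr)]; rfl),
    Finset.sum_const, Finset.card_erase_of_mem (Finset.mem_univ _), Finset.card_univ,
    ← Nat.card_eq_fintype_card, nsmul_eq_mul, Nat.cast_sub Nat.card_pos] at hk
  simp only [if_true] at hk
  push_cast at hk
  linear_combination hk

variable {q a : ℕ} [hq : Fact q.Prime] (hq2 : q ≠ 2) (hq3 : q ≠ 3)
  (hcard : Nat.card G = 9 * 2 ^ a * q)
  (hδ : δ = -1)
  (hdeg : (q = 7 ∧ charDegree (X : G → ℂ) = 8) ∨ (q = 17 ∧ charDegree (X : G → ℂ) = 17))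

include hq2 hq3 hcard hδ hdeg

theorem CharData.exists_q_char : ∃ D : IrrCharacter G, charDegree (D : G → ℂ) = q := by
  obtain ⟨Y, hY⟩ : Ys.Nonempty := Finset.card_pos.mp (by rw [hD'.card_Ys]; norm_num)
  have := hD'.deg_Y hG hI hM hY
  rcases hdeg with ⟨h1, h2⟩ | ⟨h1, h2⟩
  · exact ⟨Y, by omega⟩
  · exact ⟨X, by omega⟩

/-- No involution centralizes R, so R is self-centralizing. -/
theorem CharData.mem_of_commute {w : G} (hw : ∀ r ∈ (R : Subgroup G), Commute w r) :
    w ∈ (R : Subgroup G) := by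
  obtain ⟨D, hD⟩ := hD'.exists_q_char hG hI hM hq2 hq3 hcard hδ hdeg
  have : Nontrivial (R : Subgroup G) := Finite.one_lt_card_iff_nontrivial.mp
    (by rw [hI.card]; norm_num)
  obtain ⟨u₀, hu₀⟩ := exists_ne (1 : (R : Subgroup G))
  have hu1 : (u₀ : G) ≠ 1 := fun h => hu₀ (Subtype.ext h)
  obtain ⟨v, hv, r, hr, rfl⟩ := hI.exists_decomp u₀.2 hu1 (hw _ u₀.2)
  obtain ⟨k, hk⟩ := hI.exists_order_three u₀.2 hu1
  have hvR : ∀ x ∈ (R : Subgroup G), Commute v x := fun x hx => by
    have h := (hw x hx).mul_left (comm_mem R hI.card (inv_mem hr) hx : Commute r⁻¹ x)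
    rwa [mul_inv_cancel_right] at h
  obtain ⟨-, hv3⟩ := (hI.mem_core u₀.2 hu1).mp hv
  rw [show v = 1 from eq_one_of_regular hG hq2 hq3 hcard hD hv3 hk
    ((hvR _ u₀.2).pow_right k) fun j hj => ?_, one_mul]
  · exact hr
  obtain ⟨s, hs⟩ := BrauerSuzukiQ.exists_int_of_involution X hj
  obtain ⟨m, hm⟩ := hD'.trivial_mult hG hI hM (R : Subgroup G) le_rfl hj
    (fun x hx => (hvR x hx).pow_left j) hs
  obtain ⟨-, hlt⟩ := H66.SmallCofactor.abs_lt_degree hG X (hD'.X_ne_one hG hI hM)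
    (fun h => by rw [h, orderOf_one] at hj; norm_num at hj) hs
  have h4 := H66.SmallCofactor.four_dvd_degree_sub hG X hj hs
  rw [hI.card, hδ] at hm
  rcases hdeg with ⟨-, h⟩ | ⟨-, h⟩ <;> rw [h] at hm hlt h4 <;> push_cast at hm hlt h4 <;> omega

/-- An involution with the generic value commutes with no element of order three. -/
theorem CharData.not_commute_three {v y : G} (hv : orderOf v = 2) (hy : orderOf y = 3)
    (hs : (X : G → ℂ) v = (if q = 7 then 0 else 1 : ℤ)) (hall : ∀ t : G, orderOf t = 2 → IsConj v t)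
    (hc : Commute v y) : False := by
  obtain ⟨x, hx, hyx⟩ := exists_conj_mem R hI.card ⟨1, by rw [hy, pow_one]⟩
  obtain ⟨c, rfl⟩ := _root_.isConj_iff.mp hyx
  have hx3 : orderOf (c * y * c⁻¹) = 3 := by
    rw [show c * y * c⁻¹ = MulAut.conj c y from rfl, MulEquiv.orderOf_eq, hy]
  have hv' : orderOf (c * v * c⁻¹) = 2 := by
    rw [show c * v * c⁻¹ = MulAut.conj c v from rfl, MulEquiv.orderOf_eq, hv]
  have hc' : Commute (c * v * c⁻¹) (c * y * c⁻¹) := hc.map (MulAut.conj c).toMonoidHom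
  rw [← Chars.isClassFunction_apply_eq (Chars.irr_isClassFunction X) (hall _ hv')] at hs
  obtain ⟨m, hm⟩ := hD'.trivial_mult hG hI hM (zpowers (c * y * c⁻¹)) (zpowers_le.mpr hx) hv'
    (fun r hr => by
      obtain ⟨j, rfl⟩ := mem_zpowers_iff.mp hr
      exact hc'.zpow_right j) hs
  rw [Nat.card_zpowers, hx3, hδ] at hm
  rcases hdeg with ⟨h0, h⟩ | ⟨h0, h⟩ <;> subst h0 <;> rw [h] at hm <;> norm_num at hm <;> omega

end Cfsg.Agent.Lib.Order9TwoQ
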