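import Mathlib
import Cfsg.Agent.Lib.Order9TwoQ.InvDegrees

/-!
# Inverting automizer: the group order
-/

set_option autoImplicit false
set_option linter.unusedSectionVars false

namespace Cfsg.Agent.Lib.Order9TwoQ

open Cfsg Subgroup Finset
open Cfsg.Agent.Lib
open Cfsg.Agent.Lib.PairPSolv
open scoped ComplexConjugate Classical

universe u

attribute [local instance] fact_three'

variable {G : Type u} [Group G] [Fintype G] [IsSimpleGroup G]

/-- The nonidentity elements of the Sylow subgroup. -/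
noncomputable def nonId (R : Sylow 3 G) : Finset G :=
  (univ.filter (· ∈ (R : Subgroup G))).erase 1

theorem mem_nonId {R : Sylow 3 G} {u : G} : u ∈ nonId R ↔ u ∈ (R : Subgroup G) ∧ u ≠ 1 := by
  simp [nonId, and_comm]

/-- The conjugates of t with singular product, counted by conjugators. -/
noncomputable def pairCount (t t' : G) : ℕ :=
  #{k : G | 3 ∣ orderOf (t * (k * t'⁻¹ * k⁻¹))}

/-- The involutions as a finite set. -/
noncomputable def involutions (G : Type u) [Group G] [Fintype G] : Finset G :=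
  univ.filter fun t => orderOf t = 2

theorem card_fiber_conj (t : G) (P : G → Prop) (hall : ∀ s, orderOf s = 2 → IsConj t s)
    (ht : orderOf t = 2) :
    #{k : G | P (k * t * k⁻¹)} =
      #((involutions G).filter P) * Nat.card (centralizer ({t} : Set G)) := by
  rw [card_eq_sum_card_fiberwise (s := univ.filter fun k : G => P (k * t * k⁻¹))
    (f := fun k => k * t * k⁻¹) (t := (involutions G).filter P) (fun k hk => by
      simp only [involutions, mem_coe, mem_filter, mem_univ, true_and] at hk ⊢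
      refine ⟨?_, hk⟩
      rw [show k * t * k⁻¹ = MulAut.conj k t from rfl, MulEquiv.orderOf_eq, ht])]
  rw [sum_congr rfl fun s hs => ?_, sum_const, smul_eq_mul]
  simp only [involutions, mem_filter, mem_univ, true_and] at hs
  rw [filter_filter, ← if_pos (isConj_iff.mp (hall s hs.1)) (e := 0)
    (t := Nat.card (centralizer ({t} : Set G))), ← card_transporter]
  congr 1
  refine filter_congr fun k _ => ⟨fun h => h.2, fun h => ⟨?_, h⟩⟩
  rw [h]; exact hs.2

variable {R : Sylow 3 G} (hI : InvType R)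

include hI

theorem InvType.card_nonId : #(nonId R) = 8 := by
  rw [nonId, card_erase_of_mem (by simp [one_mem]), ← Fintype.card_subtype,
    ← Nat.card_eq_fintype_card]
  exact (congrArg (· - 1) hI.card).trans rfl

theorem InvType.card_isConj_nonId {u : G} (hu : u ∈ nonId R) :
    #{w ∈ nonId R | IsConj u w} = 2 := by
  obtain ⟨hu', hu1⟩ := mem_nonId.mp hu
  refine card_eq_two.mpr ⟨u, u⁻¹, hI.ne_inv hu' hu1, ?_⟩
  ext w
  simp only [mem_filter, mem_nonId, mem_insert, mem_singleton]
  constructor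
  · rintro ⟨⟨hw, -⟩, hc⟩
    exact (hI.isConj_iff hu' hw).mp hc
  · rintro (rfl | rfl)
    · exact ⟨⟨hu', hu1⟩, IsConj.refl _⟩
    · exact ⟨⟨inv_mem hu', inv_ne_one.mpr hu1⟩, (hI.isConj_iff hu' (inv_mem hu')).mpr (Or.inr rfl)⟩

variable (hG : ¬ IsMulCommutative G) {M : Ideal AlgInt} [M.IsPrime] (hM : IsPModular 3 M)
  {X : IrrCharacter G} {Ys : Finset (IrrCharacter G)} {δ : ℤ} (hD' : CharData R M X Ys δ)

include hG hM hD'

/-- The class algebra equation for two involutions. -/
theorem CharData.pairCount_eq (hδ : δ = -1) {t t' : G} (ht : orderOf t = 2) (ht' : orderOf t' = 2)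
    {s s' : ℤ} (hs : (X : G → ℂ) t = s) (hs' : (X : G → ℂ) t' = s') :
    18 * (pairCount t t' : ℤ) * ((charDegree (X : G → ℂ) : ℤ) * ((charDegree (X : G → ℂ) : ℤ) - 1)) =
      (Nat.card G : ℤ) * 8 *
        (((charDegree (X : G → ℂ) : ℤ) - s) * ((charDegree (X : G → ℂ) : ℤ) - s')) := by
  have hP := isMulCommutative_sylow R hI.card
  have h := PairPSolv.count_eq R hP hI.hasComplements hM (x := t) (y := t') (nonId R) 2
    (fun u hu => mem_nonId.mp hu) (fun u hu => hI.card_isConj_nonId hu)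
  rw [show #{k : G | PartIn 3 (nonId R) (t * (k * t'⁻¹ * k⁻¹))} = pairCount t t' by
      rw [pairCount]
      exact congrArg Finset.card (filter_congr fun k _ =>
        partIn_nonidentity R hP hI.hasComplements _), hI.card] at h
  obtain ⟨hcX, hcY, hc0⟩ := hD'.col (nonId R) fun u => mem_nonId
  have hsub : insert (Chars.trivialIrr G) (insert X Ys) ⊆ (principalBlock M G).toFinset := by
    intro χ hχ
    rw [Set.mem_toFinset]
    rcases mem_insert.mp hχ with rfl | hχ
    · simpa [principalBlock, Chars.trivialIrr] using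
        (Blocks.mem_blockOf_self (M := M) (Chars.trivialIrr G))
    · rcases mem_insert.mp hχ with rfl | hχ
      · exact hD'.mem_X
      · exact hD'.mem_Ys χ hχ
  rw [← sum_subset hsub (fun χ hχ hn => by
      simp only [mem_insert, not_or] at hn
      rw [hc0 χ (Set.mem_toFinset.mp hχ) hn.1 hn.2.1 hn.2.2]; simp),
    sum_insert (fun h => (mem_insert.mp h).elim (fun e => hD'.X_ne e.symm) hD'.one_notMem),
    sum_insert hD'.X_notMem] at h
  have hYsum : ∑ Y ∈ Ys, conj (∑ u ∈ nonId R, (Y : G → ℂ) u) * (Y : G → ℂ) t *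
      conj ((Y : G → ℂ) t') / (Y : G → ℂ) 1 = 4 * (conj ((-2 : ℂ) * δ) * ((s : ℂ) + δ) *
        conj ((s' : ℂ) + δ) / ((charDegree (X : G → ℂ) : ℂ) + δ)) := by
    rw [sum_congr rfl (fun Y hY => by
      rw [hcY Y hY, hD'.rel Y hY t (by rw [ht]; norm_num),
        hD'.rel Y hY t' (by rw [ht']; norm_num), hD'.rel Y hY 1 (by simp), hs, hs',
        H66.SmallCofactor.degree_eq]), sum_const, hD'.card_Ys, nsmul_eq_mul, Nat.cast_ofNat]
  rw [hYsum] at h
  have hone : ∑ u ∈ nonId R, (Chars.trivialIrr G : G → ℂ) u = 8 := by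
    simp [hI.card_nonId]
  rw [hone, hcX, hs, hs', hδ] at h
  simp only [Chars.trivialIrr_apply] at h
  simp only [H66.SmallCofactor.degree_eq, map_mul, map_add, map_neg, map_ofNat, map_intCast,
    map_natCast, map_one, nsmul_eq_mul, Int.cast_neg, Int.cast_one] at h
  set x : ℂ := (charDegree (X : G → ℂ) : ℂ) with hx
  have hx1 : 1 < charDegree (X : G → ℂ) :=
    H66.SmallCofactor.one_lt_degree hG X (hD'.X_ne_one hG hI hM)
  have hx0 : x ≠ 0 := by rw [hx]; exact_mod_cast (show charDegree (X : G → ℂ) ≠ 0 by omega)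
  have hy0 : x - 1 ≠ 0 := by
    rw [hx, sub_ne_zero]; exact_mod_cast (show charDegree (X : G → ℂ) ≠ 1 by omega)
  have key : (18 : ℂ) * (pairCount t t' : ℂ) * (x * (x - 1)) =
      (Nat.card G : ℂ) * 8 * ((x - (s : ℂ)) * (x - (s' : ℂ))) := by
    calc (18 : ℂ) * (pairCount t t' : ℂ) * (x * (x - 1))
        = ((2 : ℕ) : ℂ) * ((9 : ℕ) : ℂ) * (pairCount t t' : ℂ) * (x * (x - 1)) := by
          push_cast; ring
      _ = _ := by
          rw [h]
          push_cast
          have hy1 : x + (-1 : ℂ) ≠ 0 := by rwa [← sub_eq_add_neg]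
          field_simp
          ring
  rw [hx] at key
  exact_mod_cast key

variable {q a : ℕ} [hq : Fact q.Prime] (hq2 : q ≠ 2) (hq3 : q ≠ 3)
  (hcard : Nat.card G = 9 * 2 ^ a * q)
  (hδ : δ = -1)
  (hdeg : (q = 7 ∧ charDegree (X : G → ℂ) = 8) ∨ (q = 17 ∧ charDegree (X : G → ℂ) = 17))

include hq2 hq3 hcard hδ hdeg

theorem CharData.pairCount_pos {t t' : G} (ht : orderOf t = 2) (ht' : orderOf t' = 2) :
    0 < pairCount t t' := by
  obtain ⟨s, hs⟩ := BrauerSuzukiQ.exists_int_of_involution X ht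
  obtain ⟨s', hs'⟩ := BrauerSuzukiQ.exists_int_of_involution X ht'
  have ht1 : ∀ v : G, orderOf v = 2 → v ≠ 1 := fun v hv e => by
    rw [e, orderOf_one] at hv; norm_num at hv
  obtain ⟨-, h1⟩ := H66.SmallCofactor.abs_lt_degree hG X (hD'.X_ne_one hG hI hM) (ht1 t ht) hs
  obtain ⟨-, h2⟩ := H66.SmallCofactor.abs_lt_degree hG X (hD'.X_ne_one hG hI hM) (ht1 t' ht') hs'
  have h := hD'.pairCount_eq hI hG hM hδ ht ht' hs hs'
  refine Nat.pos_of_ne_zero fun e => ?_
  rw [e] at h
  have : (0 : ℤ) < (Nat.card G : ℤ) * 8 *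
      (((charDegree (X : G → ℂ) : ℤ) - s) * ((charDegree (X : G → ℂ) : ℤ) - s')) :=
    mul_pos (mul_pos (by exact_mod_cast Nat.card_pos) (by norm_num))
      (mul_pos (by omega) (by omega))
  simp only [Nat.cast_zero, mul_zero, zero_mul] at h
  omega

/-- There is one class of involutions. -/
theorem CharData.isConj_involution {τ : G} (hτ : orderOf τ = 2)
    (hτi : ∀ r ∈ (R : Subgroup G), τ * r * τ⁻¹ = r⁻¹) {t : G} (ht : orderOf t = 2) :
    IsConj t τ := by
  obtain ⟨k, hk⟩ := card_pos.mp (hD'.pairCount_pos hI hG hM hq2 hq3 hcard hδ hdeg ht hτ)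
  simp only [mem_filter, mem_univ, true_and] at hk
  set t' := k * τ⁻¹ * k⁻¹ with ht'def
  have ht2 : t * t = 1 := by rw [← pow_two, ← ht, pow_orderOf_eq_one]
  have hτ2 : τ * τ = 1 := by rw [← pow_two, ← hτ, pow_orderOf_eq_one]
  have ht'2 : t' * t' = 1 := by
    calc k * τ⁻¹ * k⁻¹ * (k * τ⁻¹ * k⁻¹) = k * (τ * τ)⁻¹ * k⁻¹ := by group
      _ = 1 := by rw [hτ2]; group
  set g := t * t' with hg
  have hinv : t * g * t⁻¹ = g⁻¹ := by
    rw [hg, mul_inv_rev, ← mul_assoc t t t', ht2, one_mul, inv_eq_of_mul_eq_one_right ht'2]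
  obtain ⟨u, hu, hc⟩ := (partIn_nonidentity R (isMulCommutative_sylow R hI.card)
    hI.hasComplements g).mpr hk
  obtain ⟨hu, hu1⟩ := mem_erase.mp hu |>.symm
  simp only [mem_filter, mem_univ, true_and] at hu
  set e := Blocks.pPartExp G 3
  obtain ⟨c, hc⟩ := isConj_iff.mp hc.symm
  have hinvu : c * t * c⁻¹ * u * (c * t * c⁻¹)⁻¹ = u⁻¹ := by
    rw [← hc]
    calc c * t * c⁻¹ * (c * g ^ e * c⁻¹) * (c * t * c⁻¹)⁻¹
        = c * (t * g ^ e * t⁻¹) * c⁻¹ := by group
      _ = (c * g ^ e * c⁻¹)⁻¹ := by rw [← conj_pow, hinv, inv_pow]; group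
  have ht' : orderOf (c * t * c⁻¹) = 2 := by
    rw [show c * t * c⁻¹ = MulAut.conj c t from rfl, MulEquiv.orderOf_eq, ht]
  exact (isConj_iff.mpr ⟨c, rfl⟩).trans (hI.isConj_tau
    (fun w hw => hD'.mem_of_commute hG hI hM hq2 hq3 hcard hδ hdeg hw) hτ hτi hu hu1 ht' hinvu)

/-- The order. -/
theorem CharData.card_eq : Nat.card G = 504 ∨ Nat.card G = 2448 := by
  obtain ⟨D, hD⟩ := hD'.exists_q_char hG hI hM hq2 hq3 hcard hδ hdeg
  have hcent := fun w hw => hD'.mem_of_commute (w := w) hG hI hM hq2 hq3 hcard hδ hdeg hw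
  obtain ⟨τ, hτ, hτi⟩ := hI.exists_tau hcent
  have hconj : ∀ s t : G, orderOf s = 2 → orderOf t = 2 → IsConj s t := fun s t hs ht =>
    (hD'.isConj_involution hI hG hM hq2 hq3 hcard hδ hdeg hτ hτi hs).trans
      (hD'.isConj_involution hI hG hM hq2 hq3 hcard hδ hdeg hτ hτi ht).symm
  -- an involution with a large centralizer
  haveI : Fact (Nat.Prime 2) := ⟨Nat.prime_two⟩
  obtain ⟨T⟩ : Nonempty (Sylow 2 G) := inferInstance
  have hTcard : Nat.card (T : Subgroup G) = 2 ^ a := by
    have hqn : ¬ 2 ∣ 9 * q := fun h => by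
      rcases Nat.prime_two.dvd_mul.mp h with h | h
      · norm_num at h
      · exact hq2 ((Nat.prime_dvd_prime_iff_eq Nat.prime_two hq.out).mp h).symm
    rw [T.card_eq_multiplicity, hcard, show 9 * 2 ^ a * q = 2 ^ a * (9 * q) by ring,
      Nat.factorization_mul (by positivity) (mul_ne_zero (by norm_num) hq.out.ne_zero),
      Finsupp.add_apply, Nat.prime_two.factorization_pow, Finsupp.single_eq_same,
      Nat.factorization_eq_zero_of_not_dvd hqn, add_zero]
  have ha : a ≠ 0 := by
    rintro rfl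
    have h2 : 2 ∣ Nat.card G := hτ ▸ orderOf_dvd_natCard τ
    rw [hcard] at h2
    rcases Nat.prime_two.dvd_mul.mp h2 with h | h
    · norm_num at h
    · exact hq2 ((Nat.prime_dvd_prime_iff_eq Nat.prime_two hq.out).mp h).symm
  haveI : Nontrivial (T : Subgroup G) := Finite.one_lt_card_iff_nontrivial.mp
    (by rw [hTcard]; exact Nat.one_lt_pow ha (by norm_num))
  haveI : Nontrivial (Subgroup.center (T : Subgroup G)) := IsPGroup.center_nontrivial T.isPGroup'
  obtain ⟨⟨z, hzc⟩, hz⟩ := exists_prime_orderOf_dvd_card' (G := Subgroup.center (T : Subgroup G)) 2 (by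
    obtain ⟨m, hm⟩ := IsPGroup.iff_card.mp
      (T.isPGroup'.to_subgroup (Subgroup.center (T : Subgroup G)))
    have h1 := Finite.one_lt_card (α := Subgroup.center (T : Subgroup G))
    rcases m with - | m
    · omega
    · exact hm ▸ dvd_pow_self 2 m.succ_ne_zero)
  set t : G := (z : G)
  have ht : orderOf t = 2 := by
    rw [Subgroup.orderOf_mk] at hz
    rwa [Subgroup.orderOf_coe]
  have hTle : (T : Subgroup G) ≤ centralizer ({t} : Set G) := fun w hw =>
    mem_centralizer_singleton_iff.mpr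
      (congrArg Subtype.val (Subgroup.mem_center_iff.mp hzc ⟨w, hw⟩))
  have hdvdC : 2 ^ a ∣ Nat.card (centralizer ({t} : Set G)) := hTcard ▸ card_dvd_of_le hTle
  obtain ⟨z0, hz0⟩ := BrauerSuzukiQ.exists_int_of_involution X ht
  -- the value at the involution
  have hzero : ∀ (χ : IrrCharacter G) (i : ℕ), charDegree (χ : G → ℂ) = 2 ^ i →
      (χ : G → ℂ) ≠ (fun _ => 1) → ∀ v : ℤ, (χ : G → ℂ) t = v → v = 0 := by
    intro χ i hi hne v hv
    have hint := Chars.irr_isIntegral_central χ t
    set n := (centralizer ({t} : Set G)).index with hn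
    rw [hv, H66.SmallCofactor.degree_eq, hi] at hint
    obtain ⟨j, hj⟩ := Chars.exists_int_eq_of_isIntegral hint (((n : ℤ) * v : ℤ) / ((2 ^ i : ℕ) : ℚ))
      (by push_cast; ring)
    have hdiv : ((2 : ℤ) ^ i) ∣ (n : ℤ) * v := by
      rw [div_eq_iff (by exact_mod_cast (show 2 ^ i ≠ 0 by positivity))] at hj
      exact ⟨j, by
        have : ((n : ℤ) * v : ℂ) = (j : ℂ) * (2 : ℂ) ^ i := by push_cast at hj ⊢; exact hj
        rw [mul_comm ((2 : ℤ) ^ i)]
        exact_mod_cast this⟩
    have hn9 : n ∣ 9 * q := by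
      obtain ⟨m, hm⟩ := hdvdC
      have h1 := (centralizer ({t} : Set G)).card_mul_index
      rw [hm, hcard, ← hn] at h1
      refine Nat.dvd_of_mul_dvd_mul_left (show 0 < 2 ^ a by positivity) ⟨m, ?_⟩
      linarith [show 9 * 2 ^ a * q = 2 ^ a * (9 * q) by ring,
        show 2 ^ a * n * m = 2 ^ a * m * n by ring]
    have hcop : IsCoprime ((2 : ℤ) ^ i) (n : ℤ) := by
      refine (Int.isCoprime_iff_nat_coprime.mpr ?_)
      rw [Int.natAbs_pow, Int.natAbs_natCast]
      refine Nat.Coprime.pow_left _ (Nat.Coprime.coprime_dvd_right hn9 ?_)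
      rw [Nat.coprime_mul_iff_right]
      exact ⟨by norm_num, (Nat.coprime_primes Nat.prime_two hq.out).mpr hq2.symm⟩
    obtain ⟨h1, h2⟩ := H66.SmallCofactor.abs_lt_degree hG χ hne
      (fun e => by rw [e, orderOf_one] at ht; norm_num at ht) hv
    rw [hi] at h1 h2
    push_cast at h1 h2
    exact Int.eq_zero_of_abs_lt_dvd (hcop.dvd_of_dvd_mul_left hdiv) (abs_lt.mpr ⟨h1, h2⟩)
  have hz0' : z0 = (if q = 7 then 0 else 1 : ℤ) := by
    obtain ⟨Y, hY⟩ : Ys.Nonempty := Finset.card_pos.mp (by rw [hD'.card_Ys]; norm_num)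
    have hy := hD'.deg_Y hG hI hM hY
    rcases hdeg with ⟨h7, h8⟩ | ⟨h17, h8⟩
    · rw [if_pos h7]
      exact hzero X 3 h8 (hD'.X_ne_one hG hI hM) z0 hz0
    · rw [if_neg (by omega)]
      have := hzero Y 4 (by norm_num; omega) (hD'.Y_ne_one hG hI hM hY) (z0 + δ) (by
        rw [hD'.rel Y hY t (by rw [ht]; norm_num), hz0]; push_cast; ring)
      omega
  have hval : ∀ v : G, orderOf v = 2 → (X : G → ℂ) v = (if q = 7 then 0 else 1 : ℤ) := fun v hv => by
    rw [← Chars.isClassFunction_apply_eq (Chars.irr_isClassFunction X) (hconj v t hv ht), hz0, hz0']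
  have hno3 : ∀ v y : G, orderOf v = 2 → orderOf y = 3 → ¬ Commute v y := fun v y hv hy =>
    hD'.not_commute_three hG hI hM hq2 hq3 hcard hδ hdeg hv hy (hval v hv) fun s hs => hconj v s hv hs
  -- the centralizer of t
  have hC : Nat.card (centralizer ({t} : Set G)) = 2 ^ a := by
    refine Nat.dvd_antisymm ?_ hdvdC
    have hd : Nat.card (centralizer ({t} : Set G)) ∣ 2 ^ a * (9 * q) := by
      rw [show 2 ^ a * (9 * q) = 9 * 2 ^ a * q by ring, ← hcard]
      exact card_subgroup_dvd_card _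
    refine Nat.Coprime.dvd_of_dvd_mul_right ?_ hd
    rw [Nat.coprime_mul_iff_right, show (9 : ℕ) = 3 ^ 2 from rfl]
    refine ⟨(((Nat.Prime.coprime_iff_not_dvd Nat.prime_three).mpr fun h => ?_).pow_left 2).symm,
      ((Nat.Prime.coprime_iff_not_dvd hq.out).mpr fun h => ?_).symm⟩
    · obtain ⟨y, hy⟩ := exists_prime_orderOf_dvd_card' (G := centralizer ({t} : Set G)) 3 h
      exact hno3 t y ht (by rw [Subgroup.orderOf_coe, hy])
        (mem_centralizer_singleton_iff.mp y.2).symm
    · obtain ⟨y, hy⟩ := exists_prime_orderOf_dvd_card' (G := centralizer ({t} : Set G)) q h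
      exact not_commute_q hG hq2 hq3 hcard hD (Or.inl rfl) ht (by rw [Subgroup.orderOf_coe, hy])
        (mem_centralizer_singleton_iff.mp y.2).symm
  -- centralizers of the nonidentity elements of R
  have hCu : ∀ u ∈ (R : Subgroup G), u ≠ 1 → ∀ g : G, Commute g u → g ∈ (R : Subgroup G) := by
    intro u hu hu1 g hg
    obtain ⟨w, hw, r, hr, rfl⟩ := hI.exists_decomp hu hu1 hg
    obtain ⟨hwu, hw3⟩ := (hI.mem_core hu hu1).mp hw
    obtain ⟨k, hk⟩ := hI.exists_order_three hu hu1
    rwa [eq_one_of_regular hG hq2 hq3 hcard hD hw3 hk (hwu.pow_right k) fun j hj =>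
      hno3 _ _ hj hk ((hwu.pow_right k).pow_left j), one_mul]
  set S : Finset G := univ.filter fun g => 3 ∣ orderOf g with hS
  -- involutions inverting a singular element
  have hinv9 : ∀ g ∈ S, #((involutions G).filter fun v => v * g * v⁻¹ = g⁻¹) = 9 := by
    intro g hg
    simp only [hS, mem_filter, mem_univ, true_and] at hg
    obtain ⟨u, hu, hc⟩ := (partIn_nonidentity R (isMulCommutative_sylow R hI.card)
      hI.hasComplements g).mpr hg
    obtain ⟨hu, hu1⟩ := mem_erase.mp hu |>.symm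
    simp only [mem_filter, mem_univ, true_and] at hu
    set e := Blocks.pPartExp G 3
    obtain ⟨c, hc⟩ := isConj_iff.mp hc.symm
    have hgR : c * g * c⁻¹ ∈ (R : Subgroup G) := by
      refine hCu u hu hu1 _ ?_
      rw [← hc, ← conj_pow]
      exact (Commute.refl _).pow_right e
    have hg1 : c * g * c⁻¹ ≠ 1 := fun h => by
      rw [conj_eq_one_iff] at h
      rw [h, orderOf_one] at hg
      norm_num at hg
    have hbij : #((involutions G).filter fun v => v * g * v⁻¹ = g⁻¹) =
        #(univ.filter fun r : G => r ∈ (R : Subgroup G)) := by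
      refine card_bij (fun v _ => c * v * c⁻¹ * τ) ?_ ?_ ?_
      · intro v hv
        simp only [involutions, mem_filter, mem_univ, true_and] at hv ⊢
        refine hCu _ hgR hg1 _ (mul_inv_eq_iff_eq_mul.mp ?_)
        calc c * v * c⁻¹ * τ * (c * g * c⁻¹) * (c * v * c⁻¹ * τ)⁻¹
            = c * v * c⁻¹ * (τ * (c * g * c⁻¹) * τ⁻¹) * (c * v * c⁻¹)⁻¹ := by group
          _ = c * (v * g * v⁻¹)⁻¹ * c⁻¹ := by rw [hτi _ hgR]; group
          _ = c * g * c⁻¹ := by rw [hv.2, inv_inv]
      · exact fun v _ w _ h => mul_left_cancel (mul_right_cancel (mul_right_cancel h))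
      · intro r hr
        simp only [mem_filter, mem_univ, true_and] at hr
        refine ⟨c⁻¹ * (r * τ⁻¹) * c, ?_, by group⟩
        have hτinv : τ⁻¹ = τ := inv_eq_of_mul_eq_one_right
          (by rw [← pow_two, ← hτ, pow_orderOf_eq_one])
        simp only [involutions, mem_filter, mem_univ, true_and]
        refine ⟨?_, ?_⟩
        · rw [show c⁻¹ * (r * τ⁻¹) * c = MulAut.conj c⁻¹ (r * τ⁻¹) by simp,
            MulEquiv.orderOf_eq, hτinv]
          refine orderOf_eq_prime ?_ fun h => ?_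
          · calc (r * τ) ^ 2 = r * (τ * r * τ⁻¹) * (τ * τ) := by rw [pow_two]; group
              _ = 1 := by rw [hτi r hr, mul_inv_cancel, one_mul, ← pow_two, ← hτ, pow_orderOf_eq_one]
          · have hτR : τ ∈ (R : Subgroup G) := by
              rw [eq_inv_of_mul_eq_one_right h]; exact inv_mem hr
            have h1 := hI.eq_one_of_mem_of_regular hτR (by rw [hτ]; norm_num)
            rw [h1, orderOf_one] at hτ
            norm_num at hτ
        · have h1 : r * τ⁻¹ * (c * g * c⁻¹) * (r * τ⁻¹)⁻¹ = (c * g * c⁻¹)⁻¹ := by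
            rw [hτinv]
            calc r * τ * (c * g * c⁻¹) * (r * τ)⁻¹ = r * (τ * (c * g * c⁻¹) * τ⁻¹) * r⁻¹ := by group
              _ = _ := by
                  rw [hτi _ hgR, comm_mem R hI.card hr (inv_mem hgR), mul_inv_cancel_right]
          calc c⁻¹ * (r * τ⁻¹) * c * g * (c⁻¹ * (r * τ⁻¹) * c)⁻¹
              = c⁻¹ * (r * τ⁻¹ * (c * g * c⁻¹) * (r * τ⁻¹)⁻¹) * c := by group
            _ = g⁻¹ := by rw [h1]; group
    rw [hbij, ← Fintype.card_subtype, ← Nat.card_eq_fintype_card]
    exact hI.card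
  -- the number of singular elements
  have hcardS : 2 * (#S : ℕ) * 9 = 8 * Nat.card G := by
    have h := PairPSolv.sum_partIn R (isMulCommutative_sylow R hI.card) hI.hasComplements
      (Chars.trivialIrr G) (nonId R) 2 (fun u hu => mem_nonId.mp hu)
      (fun u hu => hI.card_isConj_nonId hu)
    rw [show (univ.filter fun g : G => ∃ u ∈ nonId R, IsConj u (g ^ Blocks.pPartExp G 3)) = S from
      filter_congr fun g _ => partIn_nonidentity R (isMulCommutative_sylow R hI.card)
        hI.hasComplements g] at h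
    simp only [secAvg, Chars.trivialIrr_apply, sum_const, nsmul_eq_mul, mul_one,
      inv_mul_cancel₀ (card_reg_ne_zero (p := 3) _), hI.card, hI.card_nonId] at h
    push_cast at h
    have h' : (2 : ℂ) * (#S : ℂ) * 9 = 8 * (Nat.card G : ℂ) := by
      rw [h]; field_simp
    exact_mod_cast h'
  -- double count
  set N := pairCount t t with hN
  have htinv : ∀ v : G, orderOf v = 2 → v⁻¹ = v := fun v hv =>
    inv_eq_of_mul_eq_one_right (by rw [← pow_two, ← hv, pow_orderOf_eq_one])
  have hm : ∀ v ∈ involutions G, #(S.filter fun g => v * g * v⁻¹ = g⁻¹) * 2 ^ a = N := by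
    intro v hv
    simp only [involutions, mem_filter, mem_univ, true_and] at hv
    have hNv : pairCount v t = N := by
      have h1 := hD'.pairCount_eq hI hG hM hδ hv ht (hval v hv) (hval t ht)
      have h2 := hD'.pairCount_eq hI hG hM hδ ht ht (hval t ht) (hval t ht)
      have hx1 : (charDegree (X : G → ℂ) : ℤ) * ((charDegree (X : G → ℂ) : ℤ) - 1) ≠ 0 := by
        rcases hdeg with ⟨-, h⟩ | ⟨-, h⟩ <;> rw [h] <;> norm_num
      have := mul_right_cancel₀ hx1 (h1.trans h2.symm)
      rw [hN]; omega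
    have hbij : #(S.filter fun g => v * g * v⁻¹ = g⁻¹) =
        #((involutions G).filter fun w => 3 ∣ orderOf (v * w)) := by
      refine card_bij' (fun g _ => v * g) (fun w _ => v * w) ?_ ?_ ?_ ?_
      · intro g hg
        simp only [hS, involutions, mem_filter, mem_univ, true_and] at hg ⊢
        have hvv : v * v = 1 := by rw [← pow_two, ← hv, pow_orderOf_eq_one]
        refine ⟨orderOf_eq_prime ?_ fun h => ?_, by rw [← mul_assoc, hvv, one_mul]; exact hg.1⟩
        · have := hg.2
          rw [htinv v hv] at this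
          rw [pow_two, ← mul_assoc, this, inv_mul_cancel]
        · rw [eq_inv_of_mul_eq_one_right h, htinv v hv, hv] at hg
          norm_num at hg
      · intro w hw
        simp only [hS, involutions, mem_filter, mem_univ, true_and] at hw ⊢
        refine ⟨hw.2, ?_⟩
        rw [mul_inv_rev, htinv w hw.1, htinv v hv,
          show v * (v * w) * v = v * v * (w * v) by group, ← pow_two, ← hv, pow_orderOf_eq_one,
          one_mul]
      · intro g _
        rw [← mul_assoc, ← pow_two, ← hv, pow_orderOf_eq_one, one_mul]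
      · intro w _
        rw [← mul_assoc, ← pow_two, ← hv, pow_orderOf_eq_one, one_mul]
    rw [hbij, ← hNv, pairCount, ← hC]
    simp only [htinv t ht]
    convert (card_fiber_conj t (fun w => 3 ∣ orderOf (v * w))
      (fun s hs => hconj t s ht hs) ht).symm using 3
    ext; simp
  have hdouble : ∑ v ∈ involutions G, #(S.filter fun g => v * g * v⁻¹ = g⁻¹) = 9 * #S := by
    simp only [card_filter]
    rw [sum_comm]
    simp only [← card_filter]
    rw [sum_congr rfl hinv9, sum_const, smul_eq_mul, mul_comm]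
  have hI2 : #(involutions G) * 2 ^ a = Nat.card G := by
    have h := card_fiber_conj t (fun _ => True) (fun s hs => hconj t s ht hs) ht
    simp only [filter_true, card_univ, ← Nat.card_eq_fintype_card, hC] at h
    exact h.symm
  have hN4 : N = 4 * 2 ^ a * 2 ^ a := by
    have h1 : #(involutions G) * N = 9 * #S * 2 ^ a := by
      rw [← hdouble, sum_mul, sum_congr rfl hm, sum_const, smul_eq_mul]
    have hpos : 0 < Nat.card G := Nat.card_pos
    refine Nat.eq_of_mul_eq_mul_left hpos ?_
    calc Nat.card G * N = #(involutions G) * N * 2 ^ a := by rw [← hI2]; ring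
      _ = Nat.card G * (4 * 2 ^ a * 2 ^ a) := by
          rw [h1, show 9 * #S = 4 * Nat.card G by omega]; ring
  have hfin := hD'.pairCount_eq hI hG hM hδ ht ht (hval t ht) (hval t ht)
  rw [← hN, hN4, hcard] at hfin
  have hp : ((2 : ℤ) ^ a) ≠ 0 := by positivity
  rcases hdeg with ⟨h7, h8⟩ | ⟨h17, h8⟩
  · subst h7
    rw [h8] at hfin
    norm_num at hfin
    have : ((2 : ℤ) ^ a) = 8 := mul_left_cancel₀ hp (by linarith)
    left
    rw [hcard, show 2 ^ a = 8 by exact_mod_cast this]
  · subst h17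
    rw [h8] at hfin
    norm_num at hfin
    have : ((2 : ℤ) ^ a) = 16 := mul_left_cancel₀ hp (by linarith)
    right
    rw [hcard, show 2 ^ a = 16 by exact_mod_cast this]

end Cfsg.Agent.Lib.Order9TwoQ
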