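import Mathlib
import Cfsg.Agent.Lib.PairPSolv.Count
import Cfsg.Agent.Lib.H66.SmallCofactor.Basic
import Cfsg.Agent.Lib.Order9TwoQ.Setting

/-!
# Projective characters at a self-inverted Sylow subgroup of order three
-/

set_option autoImplicit false
set_option linter.unusedSectionVars false

namespace Cfsg.Agent.Lib.Order9TwoQ

open Cfsg Subgroup Finset
open Cfsg.Agent.Lib
open Cfsg.Agent.Lib.PairPSolv
open scoped ComplexConjugate Classical

universe u

attribute [local instance] fact_three'

variable {H : Type u} [Group H] [Fintype H]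

/-- Values at a self-inverse element of order three are integers. -/
theorem exists_int_of_cube (χ : IrrCharacter H) {b : H} (hb : orderOf b = 3)
    (hinv : IsConj b b⁻¹) : ∃ v : ℤ, (χ : H → ℂ) b = v := by
  obtain ⟨m, hm⟩ := CharCount.exists_nat_sum_subgroup χ (zpowers b)
  rw [Nat.card_zpowers, hb, ← (finEquivZPowers (isOfFinOrder_of_finite b)).sum_comp] at hm
  simp only [finEquivZPowers_apply] at hm
  rw [Fin.sum_univ_eq_sum_range (fun i => (χ : H → ℂ) (b ^ i)), hb, Finset.sum_range_succ,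
    Finset.sum_range_succ, Finset.sum_range_one, pow_zero, pow_one,
    H66.SmallCofactor.degree_eq] at hm
  have hsq : (χ : H → ℂ) (b ^ 2) = (χ : H → ℂ) b := by
    have e : b ^ 2 = b⁻¹ := eq_inv_of_mul_eq_one_left (by rw [← pow_succ]; exact orderOf_dvd_iff_pow_eq_one.mp (dvd_of_eq hb))
    rw [e]
    exact Chars.isClassFunction_apply_eq (Chars.irr_isClassFunction χ) hinv
  rw [hsq] at hm
  exact Chars.exists_int_eq_of_isIntegral
    (Chars.isCharacter_isIntegral (Chars.irr_isCharacter χ) b)
    ((3 * m - (charDegree (χ : H → ℂ) : ℚ)) / 2)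
    (by push_cast at hm ⊢; linear_combination hm / 2)

/-- Two projective virtual characters of the principal block. -/
theorem exists_phi {M : Ideal AlgInt} [M.IsPrime] (hM : IsPModular 3 M) (P : Sylow 3 H)
    (hP : Nat.card (P : Subgroup H) = 3) {b : H} (hb : b ∈ (P : Subgroup H)) (hb1 : b ≠ 1)
    (hinv : IsConj b b⁻¹) :
    ∃ φ ψ : H → ℂ, IsGeneralizedCharacter H φ ∧ IsGeneralizedCharacter H ψ ∧
      (∀ g, 3 ∣ orderOf g → φ g = 0 ∧ ψ g = 0) ∧
      (∀ g, ¬ 3 ∣ orderOf g → 2 * φ g - ψ g = 3) ∧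
      (∀ σ : H ≃* H, σ b = b → ∀ g, φ (σ g) = φ g ∧ ψ (σ g) = ψ g) ∧
      classInner φ φ = 2 ∧ classInner φ ψ = 1 ∧ classInner ψ φ = 1 ∧ classInner ψ ψ = 2 ∧
      classInner φ (fun _ => 1) = 1 ∧ classInner ψ (fun _ => 1) = 0 := by
  haveI : IsCyclic (P : Subgroup H) := isCyclic_of_prime_card hP
  have hcomm : IsMulCommutative (P : Subgroup H) := ⟨⟨fun x y => by
    letI := IsCyclic.commGroup (α := (P : Subgroup H)); exact mul_comm x y⟩⟩
  have hbo : orderOf b = 3 := by
    have h1 : orderOf b ∣ 3 := hP ▸ Subgroup.orderOf_dvd_natCard _ hb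
    exact ((Nat.dvd_prime Nat.prime_three).mp h1).resolve_left
      fun e => hb1 (orderOf_eq_one_iff.mp e)
  have hmemP : ∀ w ∈ (P : Subgroup H), w = 1 ∨ w = b ∨ w = b⁻¹ := by
    have hPb : (P : Subgroup H) = zpowers b :=
      (eq_of_le_of_card_ge (zpowers_le.mpr hb) (by rw [hP, Nat.card_zpowers, hbo])).symm
    intro w hw
    rw [hPb] at hw
    obtain ⟨n, hn, rfl⟩ := Finset.mem_image.mp ((mem_zpowers_iff_mem_range_orderOf).mp hw)
    rw [hbo, Finset.mem_range] at hn
    interval_cases n
    · exact Or.inl (pow_zero b)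
    · exact Or.inr (Or.inl (pow_one b))
    · exact Or.inr (Or.inr (eq_inv_of_mul_eq_one_left
        (by rw [← pow_succ]; exact orderOf_dvd_iff_pow_eq_one.mp (dvd_of_eq hbo))))
  have hC : ∀ w ∈ (P : Subgroup H), w ≠ 1 →
      HasNormalPComplement 3 (centralizer ({w} : Set H)) := by
    intro w hw hw1
    set C := centralizer ({w} : Set H) with hCdef
    have hPC : (P : Subgroup H) ≤ C := le_centralizer_of_mem P hcomm hw
    refine ⟨P.subtype hPC, _, inferInstance,
      MonoidHom.ker_transferSylow_isComplement' (P.subtype hPC) fun n _ => ?_⟩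
    rw [mem_centralizer_iff]
    intro x hx
    have hx' : (x : H) ∈ (P : Subgroup H) := mem_subgroupOf.mp hx
    have hwn := mem_centralizer_singleton_iff.mp n.2
    refine Subtype.ext ?_
    show (x : H) * (n : H) = (n : H) * (x : H)
    have hxw : (x : H) ∈ zpowers w := by
      have e : zpowers w = (P : Subgroup H) := eq_of_le_of_card_ge (zpowers_le.mpr hw) (by
        rw [hP, Nat.card_zpowers]
        exact (((Nat.dvd_prime Nat.prime_three).mp (hP ▸ Subgroup.orderOf_dvd_natCard _ hw)).resolve_left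
          fun e => hw1 (orderOf_eq_one_iff.mp e)).ge)
      rwa [e]
    obtain ⟨j, hj⟩ := mem_zpowers_iff.mp hxw
    rw [← hj]
    exact ((show Commute (n : H) w from hwn).zpow_right j).symm.eq
  choose v hv using fun χ : IrrCharacter H => exists_int_of_cube χ hbo hinv
  set B := (principalBlock M H).toFinset
  have hone : Chars.trivialIrr H ∈ B := Set.mem_toFinset.mpr (by
    simpa [principalBlock, Chars.trivialIrr] using
      (Blocks.mem_blockOf_self (M := M) (Chars.trivialIrr H)))
  have hv1 : v (Chars.trivialIrr H) = 1 := by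
    have := hv (Chars.trivialIrr H)
    rw [Chars.trivialIrr_apply] at this
    exact_mod_cast this.symm
  have hsq : ∑ χ ∈ B, v χ * v χ = 3 := by
    have h := PairPSolv.gram P hcomm hC hM hb hb1 hb hb1
    rw [if_pos (IsConj.refl b), sum_congr rfl fun χ _ => by rw [hv χ, map_intCast], hP] at h
    exact_mod_cast h
  rw [← add_sum_erase _ _ hone, hv1] at hsq
  have hsmall : ∀ χ ∈ B.erase (Chars.trivialIrr H), v χ * v χ ≤ 1 := by
    intro χ hχ
    have h1 : v χ * v χ ≤ 2 := le_trans
      (single_le_sum (f := fun j => v j * v j) (fun j _ => mul_self_nonneg _) hχ) (by linarith)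
    have h3 : -1 ≤ v χ ∧ v χ ≤ 1 := by constructor <;> nlinarith
    obtain ⟨h3, h4⟩ := h3
    interval_cases h : v χ <;> norm_num
  have h2 : #((B.erase (Chars.trivialIrr H)).filter fun χ => v χ ≠ 0) = 2 := by
    have e : ∑ χ ∈ (B.erase (Chars.trivialIrr H)).filter (fun χ => v χ ≠ 0), (1 : ℤ) = 2 := by
      rw [sum_congr rfl (g := fun χ => v χ * v χ) fun χ hχ => ?_,
        sum_filter_of_ne fun χ _ h => left_ne_zero_of_mul h]
      · linarith
      · obtain ⟨h1, h2⟩ := mem_filter.mp hχ
        have := hsmall χ h1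
        have := mul_self_pos.mpr h2
        omega
    rw [sum_const, nsmul_eq_mul, mul_one] at e
    exact_mod_cast e
  obtain ⟨α, β, hαβ, hset⟩ := card_eq_two.mp h2
  have hmem : ∀ χ ∈ ({α, β} : Finset (IrrCharacter H)),
      χ ∈ B ∧ χ ≠ Chars.trivialIrr H ∧ (v χ = 1 ∨ v χ = -1) := by
    intro χ hχ
    rw [← hset] at hχ
    obtain ⟨h1, h3⟩ := mem_filter.mp hχ
    refine ⟨mem_of_mem_erase h1, ne_of_mem_erase h1, ?_⟩
    have := hsmall χ h1
    exact mul_self_eq_one_iff.mp (by have := mul_self_pos.mpr h3; omega)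
  obtain ⟨hαB, hα1, hαv⟩ := hmem α (by simp)
  obtain ⟨hβB, hβ1, hβv⟩ := hmem β (by simp)
  have hsupp : ∀ χ ∈ B, v χ ≠ 0 → χ = Chars.trivialIrr H ∨ χ = α ∨ χ = β := by
    intro χ hχ h0
    by_cases h : χ = Chars.trivialIrr H
    · exact Or.inl h
    · right
      have : χ ∈ ({α, β} : Finset _) := hset ▸ mem_filter.mpr ⟨mem_erase.mpr ⟨h, hχ⟩, h0⟩
      simpa using this
  have hrel : ∀ g : H, ¬ 3 ∣ orderOf g →
      1 + (v α : ℂ) * (α : H → ℂ) g + (v β : ℂ) * (β : H → ℂ) g = 0 := by
    intro g hg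
    have h := Blocks.block_orth_conj hM (Blocks.PrincipalSection.isPBlock_principalBlock M H)
      (Blocks.isPPart_one_of_pRegular hg)
      (Blocks.isPPart_self_of_pElement (p := 3) (g := b) ⟨1, by rw [hbo, pow_one]⟩)
      fun h => hb1 (isConj_one_right.mp h)
    rw [finsum_mem_eq_toFinset_sum] at h
    simp only [hv, map_intCast] at h
    rw [← sum_subset (s₁ := ({Chars.trivialIrr H, α, β} : Finset _)) (by
        intro χ hχ; rcases mem_insert.mp hχ with rfl | hχ
        · exact hone
        · rcases mem_insert.mp hχ with rfl | hχ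
          · exact hαB
          · rw [mem_singleton] at hχ; exact hχ ▸ hβB)
      (fun χ hχ hn => by
        by_cases h0 : v χ = 0
        · rw [h0, Int.cast_zero, mul_zero]
        · exact absurd (hsupp χ hχ h0) (by simpa using hn)),
      sum_insert (by simp [hα1.symm, hβ1.symm]), sum_pair hαβ, hv1] at h
    simpa [mul_comm, add_assoc] using h
  have hd : ∀ χ : IrrCharacter H, (1 : ℤ) ≤ charDegree (χ : H → ℂ) := fun χ => by
    exact_mod_cast (Chars.charDegree_spec χ).1
  have hsign : v α + v β = 0 := by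
    have h := hrel 1 (by simp)
    simp only [H66.SmallCofactor.degree_eq] at h
    have h' : (1 : ℤ) + v α * charDegree (α : H → ℂ) + v β * charDegree (β : H → ℂ) = 0 := by
      exact_mod_cast h
    have := hd α; have := hd β
    rcases hαv with e | e <;> rcases hβv with e' | e' <;> rw [e, e'] at h' ⊢ <;> omega
  obtain ⟨p, n, hp, hn, hpv, hnv⟩ : ∃ p n, p ∈ ({α, β} : Finset (IrrCharacter H)) ∧
      n ∈ ({α, β} : Finset (IrrCharacter H)) ∧ v p = 1 ∧ v n = -1 := by
    rcases hαv with e | e
    · exact ⟨α, β, by simp, by simp, e, by omega⟩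
    · exact ⟨β, α, by simp, by simp, by omega, e⟩
  have hrel' : ∀ g : H, ¬ 3 ∣ orderOf g → (n : H → ℂ) g = 1 + (p : H → ℂ) g := by
    intro g hg
    have h := hrel g hg
    simp only [mem_insert, mem_singleton] at hp hn
    rcases hp with rfl | rfl <;> rcases hn with rfl | rfl
    · omega
    · rw [hpv, hnv] at h; push_cast at h; linear_combination -h
    · rw [hpv, hnv] at h; push_cast at h; linear_combination -h
    · omega
  have hsec : ∀ χ ∈ B, ∀ g : H, 3 ∣ orderOf g → (χ : H → ℂ) g = v χ := by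
    intro χ hχ g hg
    obtain ⟨u, hu, hc⟩ := (PairPSolv.partIn_nonidentity P hcomm hC g).mpr hg
    obtain ⟨hu, hu1⟩ := mem_erase.mp hu |>.symm
    simp only [mem_filter, mem_univ, true_and] at hu
    obtain ⟨c, hc⟩ := isConj_iff.mp hc
    have hpart : IsPPart 3 (c⁻¹ * g * c) u := by
      have h := Blocks.isPPart_conj (Blocks.isPPart_iff.mpr hc : IsPPart 3 g (c * u * c⁻¹)) c⁻¹
      rwa [inv_inv, show c⁻¹ * (c * u * c⁻¹) * c = u by group] at h
    obtain ⟨y, hy, hcy, hup, hyr⟩ := hpart
    rw [← Chars.irr_isClassFunction χ g c⁻¹, inv_inv, ← hy,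
      Blocks.PrincipalSection.apply_mul_eq hM hup
        (fun _ hB _ hχ' _ hb hnot _ hy => Blocks.secondMain_blockPart hM hup hB hχ' rfl hb hnot hy)
        (((core_facts P hcomm hC hu hu1).2 y).mp
          (mem_reg.mpr ⟨mem_centralizer_singleton_iff.mpr hcy.symm.eq, hyr⟩))
        (Set.mem_toFinset.mp hχ), ← hv χ]
    rcases hmemP u hu with rfl | rfl | rfl
    · exact absurd rfl hu1
    · rfl
    · exact (Chars.isClassFunction_apply_eq (Chars.irr_isClassFunction χ) hinv)
  obtain ⟨hpB, hp1, -⟩ := hmem p hp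
  obtain ⟨hnB, hn1, -⟩ := hmem n hn
  have hfix : ∀ χ ∈ ({α, β} : Finset (IrrCharacter H)), ∀ σ : H ≃* H, σ b = b → ∀ g,
      (χ : H → ℂ) (σ g) = (χ : H → ℂ) g := by
    intro χ hχ σ hσ g
    obtain ⟨hχB, hχ1, hχv⟩ := hmem χ hχ
    let χ' : IrrCharacter H := ⟨fun x => (χ : H → ℂ) (σ x),
      Chars.isIrrCharacter_comp_mulEquiv σ χ.2⟩
    have hsecv : secAvg 3 χ' b = secAvg 3 χ b := by
      rw [secAvg, secAvg]
      congr 1
      refine sum_equiv σ.toEquiv (fun w => ?_) fun w _ => ?_
      · simp only [mem_reg, mem_centralizer_singleton_iff, MulEquiv.toEquiv_eq_coe,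
          EquivLike.coe_coe, MulEquiv.orderOf_eq]
        refine and_congr_left' ⟨fun h => ?_, fun h => σ.injective ?_⟩
        · rw [← hσ, ← map_mul, h, map_mul]
        · rw [map_mul, map_mul, hσ, h]
      · show (χ : H → ℂ) (σ (b * w)) = (χ : H → ℂ) (b * σ w)
        rw [map_mul, hσ]
    have hv' : v χ' = v χ := by
      have := hv χ'
      simp only [χ', hσ, hv χ] at this
      exact_mod_cast this.symm
    have hχ'B : χ' ∈ B := by
      by_contra h
      rw [secAvg_eq_zero P hcomm hC hM (fun h' => h (Set.mem_toFinset.mpr h')) hb hb1,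
        secAvg_eq P hcomm hC hM (Set.mem_toFinset.mp hχB) hb hb1, hv χ] at hsecv
      have : v χ = 0 := by exact_mod_cast hsecv.symm
      omega
    have hne : χ' ≠ Chars.trivialIrr H := fun e => hχ1 (Subtype.ext (funext fun x => by
      obtain ⟨x, rfl⟩ := σ.surjective x
      exact congrFun (congrArg Subtype.val e) x))
    suffices χ' = χ from congrFun (congrArg Subtype.val this) g
    simp only [mem_insert, mem_singleton] at hχ
    rcases hsupp χ' hχ'B (by rw [hv']; omega) with e | e | e
    · exact absurd e hne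
    · rcases hχ with rfl | rfl
      · exact e
      · rw [e] at hv'; omega
    · rcases hχ with rfl | rfl
      · rw [e] at hv'; omega
      · exact e
  have hpn : p ≠ n := fun e => by rw [e] at hpv; omega
  refine ⟨(Chars.trivialIrr H : H → ℂ) + (n : H → ℂ), (p : H → ℂ) + (n : H → ℂ),
    Chars.isGeneralizedCharacter_add
      (Chars.isGeneralizedCharacter_of_isCharacter (Chars.irr_isCharacter _))
      (Chars.isGeneralizedCharacter_of_isCharacter (Chars.irr_isCharacter _)),
    Chars.isGeneralizedCharacter_add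
      (Chars.isGeneralizedCharacter_of_isCharacter (Chars.irr_isCharacter _))
      (Chars.isGeneralizedCharacter_of_isCharacter (Chars.irr_isCharacter _)),
    fun g hg => ?_, fun g hg => ?_, fun σ hσ g => ?_, ?_⟩
  · simp [hsec n hnB g hg, hsec p hpB g hg, hnv, hpv]
  · simp only [Pi.add_apply, Chars.trivialIrr_apply, hrel' g hg]; ring
  · exact ⟨by simp [hfix n hn σ hσ g], by simp [hfix n hn σ hσ g, hfix p hp σ hσ g]⟩
  · have e1 : (fun _ : H => (1 : ℂ)) = (Chars.trivialIrr H : H → ℂ) := rfl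
    rw [e1]
    simp only [Chars.classInner_add_left, Chars.classInner_add_right, Chars.classInner_irr,
      if_neg hpn, if_neg hpn.symm, if_neg hp1, if_neg hp1.symm, if_neg hn1, if_neg hn1.symm, if_true]
    norm_num

end Cfsg.Agent.Lib.Order9TwoQ
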