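import Mathlib
import Cfsg.Agent.Lib.Order9TwoQ.KleinPhi
import Cfsg.Agent.Lib.Order9TwoQ.InvChar

/-!
# The virtual characters attached to an axis
-/

set_option autoImplicit false
set_option linter.unusedSectionVars false

namespace Cfsg.Agent.Lib.Order9TwoQ

open Cfsg Subgroup Finset
open Cfsg.Agent.Lib
open scoped ComplexConjugate Classical

universe u

attribute [local instance] fact_three'

variable {G : Type u} [Group G] [Fintype G]

/-- Two virtual characters supported on the section of the axis a. -/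
structure AxisFun (a : G) (f g : G → ℂ) : Prop where
  gen_f : IsGeneralizedCharacter G f
  gen_g : IsGeneralizedCharacter G g
  supp_f : ∀ x, ¬ IsConj a (x ^ Blocks.pPartExp G 3) → f x = 0
  supp_g : ∀ x, ¬ IsConj a (x ^ Blocks.pPartExp G 3) → g x = 0
  rel : ∀ x, 2 * f x - g x = if IsConj a (x ^ Blocks.pPartExp G 3) then -9 else 0
  ff : classInner f f = 6
  fg : classInner f g = 3
  gg : classInner g g = 6
  f_one : classInner f (fun _ => 1) = -1
  g_one : classInner g (fun _ => 1) = 0

/-- Subgroups induce generalized characters to generalized characters. -/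
theorem isGeneralizedCharacter_indFun' (C : Subgroup G) {φ : C → ℂ}
    (h : IsGeneralizedCharacter C φ) : IsGeneralizedCharacter G (indFun C φ) := by
  obtain ⟨χ, ψ, hχ, hψ, rfl⟩ := h
  exact ⟨_, _, Chars.isCharacter_indFun C hχ, Chars.isCharacter_indFun C hψ,
    Chars.indFun_sub C χ ψ⟩

theorem cube_sum {z : ℂ} (h : z ^ 3 = 1) (h1 : z ≠ 1) : z + z⁻¹ = -1 := by
  have h0 : z ≠ 0 := fun e => by simp [e] at h
  have h2 : z * z + z + 1 = 0 := (mul_eq_zero.mp
    (show (z - 1) * (z * z + z + 1) = 0 by linear_combination h)).resolve_left (sub_ne_zero.mpr h1)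
  field_simp
  linear_combination h2

variable {R : Sylow 3 G} {a b : G}

theorem KleinType.exists_axisFun [IsSimpleGroup G] (hK : KleinType R a b)
    {M : Ideal AlgInt} [M.IsPrime] (hM : IsPModular 3 M) :
    ∃ f g : G → ℂ, AxisFun a f g := by
  set C := centralizer ({a} : Set G) with hCdef
  have haC : a ∈ C := mem_centralizer_singleton_iff.mpr rfl
  have hRC : (R : Subgroup G) ≤ C := le_centralizer_self R hK.card hK.mem_a
  have hbC : b ∈ C := hRC hK.mem_b
  obtain ⟨m, hmN, hma, hmb⟩ := hK.refl_b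
  obtain ⟨n, hnN, hna, hnb⟩ := hK.refl_a
  have hmC : m ∈ C := mem_centralizer_singleton_iff.mpr (mul_inv_eq_iff_eq_mul.mp hma)
  let a' : C := ⟨a, haC⟩
  let b' : C := ⟨b, hbC⟩
  let PC : Sylow 3 C := R.subtype hRC
  have hcen : a' ∈ Subgroup.center C := mem_center_iff.mpr fun x =>
    Subtype.ext (mem_centralizer_singleton_iff.mp x.2)
  set Z := zpowers a' with hZ
  haveI : Z.Normal := ⟨fun w hw x => by
    rwa [mem_center_iff.mp (zpowers_le.mpr hcen hw) x, mul_inv_cancel_right]⟩
  have ha3 : orderOf a = 3 := orderOf_eq_prime hK.a_cube hK.a_ne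
  have hZ3 : Nat.card Z = 3 := by
    rw [Nat.card_zpowers, ← Subgroup.orderOf_coe]; exact ha3
  set π : C →* C ⧸ Z := QuotientGroup.mk' Z
  have hπ : Function.Surjective π := QuotientGroup.mk'_surjective Z
  haveI : Fintype C := Fintype.ofFinite C
  haveI : Fintype (C ⧸ Z) := Fintype.ofFinite _
  let PQ : Sylow 3 (C ⧸ Z) := PC.mapSurjective hπ
  have hPCcard : Nat.card (PC : Subgroup C) = 9 :=
    (Nat.card_congr (subgroupOfEquivOfLe hRC).toEquiv).trans hK.card
  have hZP : Z ≤ (PC : Subgroup C) := zpowers_le.mpr (mem_subgroupOf.mpr hK.mem_a)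
  have hPQ : Nat.card (PQ : Subgroup (C ⧸ Z)) = 3 := by
    have hmr : (PC : Subgroup C).map π = (π.comp (PC : Subgroup C).subtype).range := by
      rw [MonoidHom.range_comp, range_subtype]
    have e1 : Nat.card ((PC : Subgroup C).map π) = (Z.subgroupOf (PC : Subgroup C)).index := by
      rw [hmr, ← Subgroup.index_ker, ← MonoidHom.comap_ker, QuotientGroup.ker_mk']
      rfl
    have e2 := (Z.subgroupOf (PC : Subgroup C)).card_mul_index
    rw [Nat.card_congr (subgroupOfEquivOfLe hZP).toEquiv, hZ3, hPCcard] at e2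
    show Nat.card ((PC : Subgroup C).map π) = 3
    omega
  have hbQ : π b' ∈ (PQ : Subgroup (C ⧸ Z)) :=
    Subgroup.mem_map_of_mem π (mem_subgroupOf.mpr hK.mem_b)
  have hb1 : π b' ≠ 1 := fun h => by
    have h' : b' ∈ Z := (QuotientGroup.eq_one_iff b').mp h
    obtain ⟨j, hj⟩ := mem_zpowers_iff.mp h'
    exact hK.notMem (mem_zpowers_iff.mpr ⟨j, congrArg Subtype.val hj⟩)
  have hinv : IsConj (π b') (π b')⁻¹ := by
    rw [← map_inv]
    refine π.map_isConj (isConj_iff.mpr ⟨⟨m, hmC⟩, Subtype.ext ?_⟩)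
    exact hmb
  obtain ⟨φ, ψ, hφ, hψ, hvan, hrel, hinvσ, hφφ, hφψ, hψφ, hψψ, hφ1, hψ1⟩ :=
    exists_phi hM PQ hPQ hbQ hb1 hinv
  -- a linear character that is nontrivial at a
  letI : CommGroup (PC : Subgroup C) :=
    { (inferInstance : Group (PC : Subgroup C)) with
      mul_comm := fun x y => Subtype.ext (Subtype.ext
        (comm_mem R hK.card (mem_subgroupOf.mp x.2) (mem_subgroupOf.mp y.2))) }
  let T : C →* (PC : Subgroup C) := MonoidHom.transfer (MonoidHom.id (PC : Subgroup C))
  have key : ∀ (k : ℕ) (g₀ : C), g₀⁻¹ * a' ^ k * g₀ ∈ (PC : Subgroup C) →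
      g₀⁻¹ * a' ^ k * g₀ = a' ^ k := fun k g₀ _ => by
    rw [mul_assoc, ← mem_center_iff.mp (pow_mem hcen k) g₀, inv_mul_cancel_left]
  have hT : (T a' : C) = a' ^ (PC : Subgroup C).index := by
    simp only [T, MonoidHom.transfer_eq_pow _ _ key]; rfl
  have hTne : T a' ≠ 1 := fun h => by
    rw [h, OneMemClass.coe_one] at hT
    have h1 : orderOf a' ∣ (PC : Subgroup C).index := orderOf_dvd_of_pow_eq_one hT.symm
    rw [← Subgroup.orderOf_coe, show orderOf ((a' : C) : G) = 3 from ha3] at h1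
    exact PC.not_dvd_index h1
  obtain ⟨χ0, hχ0⟩ := exists_dual_ne (fun x y : (PC : Subgroup C) => mul_comm x y) hTne
  let lam : C →* ℂˣ := χ0.comp T
  have hlam3 : ∀ x : C, (lam x : ℂ) ^ 3 = 1 := fun x => by
    have hmem : ((T x : C) : G) ∈ (R : Subgroup G) := mem_subgroupOf.mp (T x).2
    have h1 : ((T x : C) : G) ^ 3 = 1 := by
      have hcy : ∀ c : G, orderOf c = 9 → c ∈ (R : Subgroup G) → False := fun c hc hcR => by
        haveI : IsCyclic (R : Subgroup G) := isCyclic_of_orderOf_eq_card (⟨c, hcR⟩ : (R : Subgroup G))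
          (by rw [Subgroup.orderOf_mk, hc, hK.card])
        have hS : Nat.card {w : (R : Subgroup G) // w ^ 3 = 1} ≤ 3 := by
          rw [Nat.card_eq_fintype_card, Fintype.card_subtype]
          exact IsCyclic.card_pow_eq_one_le (α := (R : Subgroup G)) (by norm_num)
        have hle : zpowers a ≤ (R : Subgroup G) := zpowers_le.mpr hK.mem_a
        let g : Option (zpowers a) → {w : (R : Subgroup G) // w ^ 3 = 1} := fun o =>
          o.elim ⟨⟨b, hK.mem_b⟩, Subtype.ext hK.b_cube⟩ fun w =>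
            ⟨⟨w, hle w.2⟩, Subtype.ext (by
              obtain ⟨j, hj⟩ := mem_zpowers_iff.mp w.2
              show (w : G) ^ 3 = 1
              rw [← hj, ← zpow_natCast, ← zpow_mul, mul_comm, zpow_mul, zpow_natCast, hK.a_cube,
                one_zpow])⟩
        have hg : Function.Injective g := by
          rintro (- | w) (- | w') h
          · rfl
          · have e1 : b = (w' : G) := congrArg (fun t => ((t.1 : (R : Subgroup G)) : G)) h
            exact absurd (e1 ▸ w'.2) hK.notMem
          · have e1 : (w : G) = b := congrArg (fun t => ((t.1 : (R : Subgroup G)) : G)) h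
            exact absurd (e1 ▸ w.2) hK.notMem
          · exact congrArg some (Subtype.ext
              (congrArg (fun t => ((t.1 : (R : Subgroup G)) : G)) h))
        have := Nat.card_le_card_of_injective g hg
        rw [Finite.card_option, Nat.card_zpowers, ha3] at this
        omega
      have hR : ∀ w ∈ (R : Subgroup G), w ^ 3 = 1 := fun w hw => by
        have h1 : orderOf w ∣ 3 ^ 2 := by
          rw [show (3 : ℕ) ^ 2 = 9 from rfl, ← hK.card]
          exact Subgroup.orderOf_dvd_natCard _ hw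
        obtain ⟨j, hj, hj'⟩ := (Nat.dvd_prime_pow Nat.prime_three).mp h1
        refine orderOf_dvd_iff_pow_eq_one.mp ?_
        interval_cases j
        · rw [hj']; norm_num
        · rw [hj']; norm_num
        · exact absurd (hcy w (by rw [hj']; norm_num) hw) id
      exact hR _ hmem
    rw [← Units.val_pow_eq_pow_val, ← Units.val_one]
    refine congrArg Units.val ?_
    show χ0 (T x) ^ 3 = 1
    rw [← map_pow, show T x ^ 3 = 1 from Subtype.ext (Subtype.ext (by simpa using h1)), map_one]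
  have hlama : (lam a' : ℂ) ≠ 1 := fun h => hχ0 (Units.ext h)
  -- regular elements are killed
  have hlamreg : ∀ x : C, ¬ 3 ∣ orderOf x → lam x = 1 := fun x hx => by
    have h1 : lam x ^ orderOf x = 1 := by rw [← map_pow, pow_orderOf_eq_one, map_one]
    have h2 : lam x ^ 3 = 1 := Units.ext (by rw [Units.val_pow_eq_pow_val, hlam3, Units.val_one])
    have := pow_gcd_eq_one.mpr ⟨h1, h2⟩
    rwa [Nat.Coprime.gcd_eq_one ((Nat.prime_three.coprime_iff_not_dvd.mpr hx).symm), pow_one] at this
  set e := Blocks.pPartExp G 3 with he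
  have hain : a⁻¹ ≠ a := fun h => by
    have h2 : a ^ 2 = 1 := by rw [pow_two]; nth_rw 1 [← h]; exact inv_mul_cancel a
    have := orderOf_dvd_of_pow_eq_one h2
    rw [ha3] at this; norm_num at this
  -- shape of the elements of C with regular image
  have hshape : ∀ x : C, ¬ 3 ∣ orderOf (π x) → ∃ (k : ℕ) (y : C), ¬ 3 ∣ orderOf y ∧
      x = a' ^ k * y ∧ (x : G) ^ e = a ^ k := by
    intro x hx
    obtain ⟨p, hp⟩ := Blocks.exists_isPPart (p := 3) (x : G)
    obtain ⟨y, hy, hcy, ⟨j, hj⟩, hyr⟩ := hp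
    have hpow : p = (x : G) ^ e := Blocks.isPPart_iff.mp ⟨y, hy, hcy, ⟨j, hj⟩, hyr⟩
    have hpC : p ∈ C := hpow ▸ pow_mem x.2 e
    have h1 : π ⟨p, hpC⟩ = 1 := by
      have e1 : (⟨p, hpC⟩ : C) = x ^ e := Subtype.ext (by simpa using hpow)
      rw [← orderOf_eq_one_iff]
      refine Nat.eq_one_of_dvd_coprimes ((Nat.prime_three.coprime_iff_not_dvd.mpr hx).pow_left j) ?_ ?_
      · refine (orderOf_map_dvd π ⟨p, hpC⟩).trans ?_
        rw [← Subgroup.orderOf_coe]; exact dvd_of_eq hj
      · rw [e1, map_pow]; exact orderOf_pow_dvd e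
    obtain ⟨k, -, hk⟩ := Finset.mem_image.mp
      ((mem_zpowers_iff_mem_range_orderOf).mp ((QuotientGroup.eq_one_iff _).mp h1))
    have hk' : a ^ k = p := by simpa using congrArg Subtype.val hk
    refine ⟨k, a'⁻¹ ^ k * x, ?_, ?_, hpow.symm.trans hk'.symm⟩
    · rw [← Subgroup.orderOf_coe]
      have : ((a'⁻¹ ^ k * x : C) : G) = y := by
        simp only [Subgroup.coe_mul, Subgroup.coe_pow, Subgroup.coe_inv]
        rw [← hy, inv_pow, show ((a' : C) : G) = a from rfl, hk', inv_mul_cancel_left]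
      rwa [this]
    · rw [inv_pow, mul_inv_cancel_left]
  have hpartC : ∀ x : C, (x : G) ^ e = a ∨ (x : G) ^ e = a⁻¹ →
      ¬ 3 ∣ orderOf (π x) ∧ (lam x : ℂ) ≠ 1 := by
    intro x hx
    obtain ⟨p, hp⟩ := Blocks.exists_isPPart (p := 3) (x : G)
    obtain ⟨y, hy, hcy, hj, hyr⟩ := hp
    have hpow : p = (x : G) ^ e := Blocks.isPPart_iff.mp ⟨y, hy, hcy, hj, hyr⟩
    have hpC : p ∈ C := hpow ▸ pow_mem x.2 e
    have hyC : y ∈ C := by
      have : y = p⁻¹ * x := by rw [← hy]; group
      rw [this]; exact mul_mem (inv_mem hpC) x.2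
    have hx' : x = ⟨p, hpC⟩ * ⟨y, hyC⟩ := Subtype.ext hy.symm
    have hyreg : ¬ 3 ∣ orderOf (⟨y, hyC⟩ : C) := by rwa [← Subgroup.orderOf_coe]
    have hpa : (⟨p, hpC⟩ : C) = a' ∨ (⟨p, hpC⟩ : C) = a'⁻¹ :=
      hx.imp (fun h => Subtype.ext (hpow.trans h)) (fun h => Subtype.ext (hpow.trans h))
    have hZp : π (⟨p, hpC⟩ : C) = 1 := (QuotientGroup.eq_one_iff _).mpr (by
      rcases hpa with h | h <;> rw [h]
      · exact mem_zpowers a'
      · exact inv_mem (mem_zpowers a'))
    refine ⟨?_, ?_⟩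
    · rw [hx', map_mul, hZp, one_mul]
      exact fun h => hyreg (h.trans (orderOf_map_dvd π _))
    · rw [hx', map_mul, hlamreg _ hyreg, mul_one]
      rcases hpa with h | h <;> rw [h]
      · exact hlama
      · rw [map_inv, Units.val_inv_eq_inv_val]
        exact fun h' => hlama (inv_eq_one.mp h')
  have hcast : ∀ x : C, (lam x : ℂ) + (lam x : ℂ)⁻¹ - 2 = if lam x = 1 then 0 else -3 := by
    intro x
    split_ifs with h
    · rw [h]; norm_num
    · rw [cube_sum (hlam3 x) fun h' => h (Units.ext h')]; norm_num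
  -- the induced functions
  let F : (C ⧸ Z → ℂ) → C → ℂ := fun P x => ((lam x : ℂ) - 1) * P (π x)
  have hgen : ∀ P, IsGeneralizedCharacter (C ⧸ Z) P → IsGeneralizedCharacter C (F P) := by
    intro P hP
    have h1 : IsGeneralizedCharacter C (fun x => P (π x)) := by
      obtain ⟨χ, χ', hχ, hχ', rfl⟩ := hP
      exact ⟨_, _, Chars.isCharacter_comp π hχ, Chars.isCharacter_comp π hχ', rfl⟩
    have h2 : IsGeneralizedCharacter C ((fun x : C => (lam x : ℂ)) - fun _ => (1 : ℂ)) :=
      Chars.isGeneralizedCharacter_sub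
        (Chars.isGeneralizedCharacter_of_isCharacter (Chars.isCharacter_hom lam))
        (Chars.isGeneralizedCharacter_of_isCharacter (Chars.irr_isCharacter (Chars.trivialIrr C)))
    exact Chars.isGeneralizedCharacter_mul h2 h1
  have hnC : ∀ x : C, n⁻¹ * (x : G) * n ∈ C := fun x => by
    apply mem_centralizer_singleton_iff.mpr
    have e2 : n * a = a⁻¹ * n := mul_inv_eq_iff_eq_mul.mp hna
    have e1 : a * n = n * a⁻¹ := by
      calc a * n = a * (n * a) * a⁻¹ := by group
        _ = n * a⁻¹ := by rw [e2]; group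
    have e3 : (x : G) * a⁻¹ = a⁻¹ * (x : G) :=
      ((show Commute (x : G) a from mem_centralizer_singleton_iff.mp x.2).inv_right).eq
    calc n⁻¹ * (x : G) * n * a = n⁻¹ * ((x : G) * a⁻¹) * n := by
          rw [mul_assoc _ n a, e2]; group
      _ = n⁻¹ * a⁻¹ * (x : G) * n := by rw [e3]; group
      _ = a * (n⁻¹ * (x : G) * n) := by
          rw [show n⁻¹ * a⁻¹ = a * n⁻¹ by
            calc n⁻¹ * a⁻¹ = n⁻¹ * (a⁻¹ * n) * n⁻¹ := by group
              _ = a * n⁻¹ := by rw [← e2]; group]
          group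
  have hnC' : ∀ x : C, n * (x : G) * n⁻¹ ∈ C := fun x => by
    apply mem_centralizer_singleton_iff.mpr
    have e3 : (x : G) * a⁻¹ = a⁻¹ * (x : G) :=
      ((show Commute (x : G) a from mem_centralizer_singleton_iff.mp x.2).inv_right).eq
    have e4 : n⁻¹ * a * n = a⁻¹ := by
      have := congrArg (fun t => n⁻¹ * t⁻¹ * n) hna
      simpa [mul_assoc] using this.symm
    calc n * (x : G) * n⁻¹ * a = n * ((x : G) * (n⁻¹ * a * n)) * n⁻¹ := by group
      _ = n * a⁻¹ * (x : G) * n⁻¹ := by rw [e4, e3]; group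
      _ = a * (n * (x : G) * n⁻¹) := by
          rw [← e4]; group
  let σC : C ≃* C :=
    { toFun := fun x => ⟨n⁻¹ * x * n, hnC x⟩
      invFun := fun x => ⟨n * x * n⁻¹, hnC' x⟩
      left_inv := fun x => Subtype.ext (by group)
      right_inv := fun x => Subtype.ext (by group)
      map_mul' := fun x y => Subtype.ext (by simp [mul_assoc]) }
  have hσa : σC a' = a'⁻¹ := Subtype.ext (by
    show n⁻¹ * a * n = a⁻¹
    have := congrArg (fun t => n⁻¹ * t⁻¹ * n) hna
    simpa [mul_assoc] using this.symm)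
  have hσZ : Z.map (σC : C →* C) = Z := by
    rw [hZ, MonoidHom.map_zpowers]
    show zpowers (σC a') = _
    rw [hσa, zpowers_inv]
  let σQ : C ⧸ Z ≃* C ⧸ Z := QuotientGroup.congr Z Z σC hσZ
  have hσb : σQ (π b') = π b' := by
    show QuotientGroup.congr Z Z σC hσZ (QuotientGroup.mk b') = _
    rw [QuotientGroup.congr_mk]
    refine congrArg π (Subtype.ext ?_)
    show n⁻¹ * b * n = b
    have := congrArg (fun t => n⁻¹ * t * n) hnb
    simpa [mul_assoc] using this.symm
  have hlamσ : ∀ x : C, ¬ 3 ∣ orderOf (π x) → lam (σC x) = (lam x)⁻¹ := by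
    intro x hx
    obtain ⟨k, y, hy, rfl, -⟩ := hshape x hx
    rw [map_mul, map_mul, map_mul, map_pow, hσa, map_pow, map_pow, hlamreg y hy,
      hlamreg (σC y) (by rwa [MulEquiv.orderOf_eq]), mul_one, mul_one, map_inv, inv_pow]
  have hval : ∀ P : C ⧸ Z → ℂ, IsGeneralizedCharacter (C ⧸ Z) P →
      (∀ σ : C ⧸ Z ≃* C ⧸ Z, σ (π b') = π b' → ∀ g, P (σ g) = P g) →
      (∀ g, 3 ∣ orderOf g → P g = 0) →
      (∀ x, ¬ IsConj a (x ^ e) → indFun C (F P) x = 0) ∧
      ∀ x : C, (x : G) ^ e = a ∨ (x : G) ^ e = a⁻¹ → indFun C (F P) x = -3 * P (π x) := by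
    intro P hP hPσ hPz
    have hzero : ∀ x : C, (x : G) ^ e ≠ a → (x : G) ^ e ≠ a⁻¹ → F P x = 0 := by
      intro x h1 h2
      show ((lam x : ℂ) - 1) * P (π x) = 0
      by_cases hx : 3 ∣ orderOf (π x)
      · rw [hPz _ hx, mul_zero]
      obtain ⟨k, y, hy, rfl, hk⟩ := hshape x hx
      rcases (show k % 3 = 0 ∨ k % 3 = 1 ∨ k % 3 = 2 by omega) with hk3 | hk3 | hk3
      · rw [map_mul, map_pow, hlamreg y hy, mul_one, Units.val_pow_eq_pow_val,
          pow_eq_pow_mod k (hlam3 a'), hk3, pow_zero, sub_self, zero_mul]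
      · rw [pow_eq_pow_mod k hK.a_cube, hk3, pow_one] at hk
        exact absurd hk h1
      · rw [pow_eq_pow_mod k hK.a_cube, hk3] at hk
        exact absurd (hk.trans (eq_inv_of_mul_eq_one_left (by rw [← pow_succ, hK.a_cube]))) h2
    refine ⟨fun x hx => ?_, fun x hx => ?_⟩
    · rw [indFun, Finset.sum_eq_zero fun y _ => ?_, mul_zero]
      by_cases hy : y⁻¹ * x * y ∈ C
      · rw [Chars.extendByZero_of_mem _ hy]
        refine hzero ⟨_, hy⟩ (fun h => hx ?_) (fun h => hx ?_)
        · refine (isConj_iff.mpr ⟨y, ?_⟩)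
          rw [← h]
          show y * (y⁻¹ * x * y) ^ e * y⁻¹ = x ^ e
          rw [← conj_pow]; congr 1; group
        · refine IsConj.trans (isConj_iff.mpr ⟨n, hna⟩) (isConj_iff.mpr ⟨y, ?_⟩)
          rw [← h]
          show y * (y⁻¹ * x * y) ^ e * y⁻¹ = x ^ e
          rw [← conj_pow]; congr 1; group
      · exact Chars.extendByZero_of_not_mem _ hy
    · obtain ⟨hreg, hlx⟩ := hpartC x hx
      have hterm : ∀ y : G, extendByZero C (F P) (y⁻¹ * (x : G) * y) =
          (if y ∈ C then F P x else 0) + (if n⁻¹ * y ∈ C then F P (σC x) else 0) := by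
        intro y
        have hFcl : ∀ c z : C, F P (c * z * c⁻¹) = F P z := fun c z =>
          (Chars.isClassFunction_of_isGeneralizedCharacter (hgen P hP)) z c
        by_cases hy : y ∈ C
        · have hny : n⁻¹ * y ∉ C := fun h => hain (by
            have hn : n ∈ C := by
              have := mul_mem hy (inv_mem h)
              rwa [mul_inv_rev, inv_inv, mul_inv_cancel_left] at this
            rw [← hna, mul_inv_eq_iff_eq_mul]
            exact mem_centralizer_singleton_iff.mp hn)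
          rw [if_pos hy, if_neg hny, add_zero,
            Chars.extendByZero_of_mem _ (mul_mem (mul_mem (inv_mem hy) x.2) hy)]
          rw [← hFcl ⟨y, hy⟩⁻¹ x]
          congr 1
          exact Subtype.ext (by simp)
        by_cases hny : n⁻¹ * y ∈ C
        · rw [if_neg hy, if_pos hny, zero_add]
          have hmem : y⁻¹ * (x : G) * y ∈ C := by
            have := mul_mem (mul_mem (inv_mem hny) (σC x).2) hny
            convert this using 1
            show _ = _ * (n⁻¹ * (x : G) * n) * _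
            group
          rw [Chars.extendByZero_of_mem _ hmem, ← hFcl ⟨n⁻¹ * y, hny⟩⁻¹ (σC x)]
          congr 1
          refine Subtype.ext ?_
          show y⁻¹ * (x : G) * y = (n⁻¹ * y)⁻¹ * (n⁻¹ * (x : G) * n) * (n⁻¹ * y)⁻¹⁻¹
          group
        rw [if_neg hy, if_neg hny, add_zero]
        by_cases hmem : y⁻¹ * (x : G) * y ∈ C
        · rw [Chars.extendByZero_of_mem _ hmem]
          have hconj : (y⁻¹ * (x : G) * y) ^ e = y⁻¹ * (x : G) ^ e * y := by
            have := conj_pow (i := e) (a := y⁻¹) (b := (x : G))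
            rwa [inv_inv] at this
          refine hzero ⟨_, hmem⟩ (fun h => ?_) (fun h => ?_) <;>
            simp only [hconj] at h
          · rcases hx with hx | hx <;> rw [hx] at h
            · refine hy (mem_centralizer_singleton_iff.mpr ?_)
              calc y * a = y * (y⁻¹ * a * y) := by rw [h]
                _ = a * y := by group
            · refine hny (mem_centralizer_singleton_iff.mpr ?_)
              have h' : a⁻¹ * y = y * a := by
                calc a⁻¹ * y = y * (y⁻¹ * a⁻¹ * y) := by group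
                  _ = y * a := by rw [h]
              calc n⁻¹ * y * a = n⁻¹ * (a⁻¹ * y) := by rw [h']; group
                _ = a * (n⁻¹ * y) := by rw [← hna]; group
          · rcases hx with hx | hx <;> rw [hx] at h
            · refine hny (mem_centralizer_singleton_iff.mpr ?_)
              have h' : a * y = y * a⁻¹ := by
                calc a * y = y * (y⁻¹ * a * y) := by group
                  _ = y * a⁻¹ := by rw [h]
              have h'' : a⁻¹ * y = y * a := by
                calc a⁻¹ * y = a⁻¹ * (y * a⁻¹) * a := by group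
                  _ = y * a := by rw [← h']; group
              calc n⁻¹ * y * a = n⁻¹ * (a⁻¹ * y) := by rw [h'']; group
                _ = a * (n⁻¹ * y) := by rw [← hna]; group
            · refine hy (mem_centralizer_singleton_iff.mpr ?_)
              have h' : a⁻¹ * y = y * a⁻¹ := by
                calc a⁻¹ * y = y * (y⁻¹ * a⁻¹ * y) := by group
                  _ = y * a⁻¹ := by rw [h]
              exact (Commute.inv_left_iff.mp h').symm.eq
        · exact Chars.extendByZero_of_not_mem _ hmem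
      rw [indFun, sum_congr rfl fun y _ => hterm y, sum_add_distrib, ← sum_filter, ← sum_filter,
        sum_const, sum_const, nsmul_eq_mul, nsmul_eq_mul]
      have c1 : #(univ.filter fun y : G => y ∈ C) = Nat.card C := by
        rw [Nat.card_eq_fintype_card, ← Fintype.card_subtype]
      have c2 : #(univ.filter fun y : G => n⁻¹ * y ∈ C) = Nat.card C := by
        rw [← c1]
        exact card_equiv (Equiv.mulLeft n⁻¹) fun y => by simp
      have hne : (Nat.card C : ℂ) ≠ 0 := Chars.natCard_ne_zero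
      rw [c1, c2, ← mul_add, inv_mul_cancel_left₀ hne]
      show ((lam x : ℂ) - 1) * P (π x) + ((lam (σC x) : ℂ) - 1) * P (π (σC x)) = _
      have hπσ : π (σC x) = σQ (π x) := (QuotientGroup.congr_mk Z Z σC hσZ x).symm
      rw [hlamσ x hreg, hπσ, hPσ σQ hσb, Units.val_inv_eq_inv_val, ← add_mul,
        show (lam x : ℂ) - 1 + ((lam x : ℂ)⁻¹ - 1) = (lam x : ℂ) + (lam x : ℂ)⁻¹ - 2 by ring,
        hcast, if_neg fun h => hlx (by rw [h, Units.val_one])]
  -- sums against the linear character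
  have hcube : (1 : ℂ) + (lam a' : ℂ) + (lam a' : ℂ) ^ 2 = 0 :=
    (mul_eq_zero.mp (show ((lam a' : ℂ) - 1) * (1 + (lam a' : ℂ) + (lam a' : ℂ) ^ 2) = 0 by
      linear_combination hlam3 a')).resolve_left (sub_ne_zero.mpr hlama)
  have hsumF : ∀ P : C ⧸ Z → ℂ, ∑ x : C, F P x = -3 * ∑ q, P q := by
    intro P
    have e1 : ∀ k : ℕ, ∑ x : C, F P x = ∑ x : C, F P (x * a' ^ k) := fun k =>
      (Fintype.sum_equiv (Equiv.mulRight (a' ^ k)) _ _ fun x => rfl).symm
    have e2 : ∀ x : C, F P (x * a' ^ 0) + F P (x * a' ^ 1) + F P (x * a' ^ 2) = -3 * P (π x) := by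
      intro x
      have hk : ∀ k : ℕ, π (x * a' ^ k) = π x := fun k => by
        rw [map_mul, show π (a' ^ k) = 1 from (QuotientGroup.eq_one_iff _).mpr (pow_mem (mem_zpowers a') k), mul_one]
      simp only [F, hk, map_mul, map_pow, Units.val_mul, Units.val_pow_eq_pow_val]
      linear_combination (lam x : ℂ) * P (π x) * hcube
    have e3 := Chars.sum_comp_of_surjective π hπ P
    rw [QuotientGroup.ker_mk', hZ3] at e3
    have e4 : (3 : ℂ) * ∑ x : C, F P x = -3 * ∑ x : C, P (π x) := by
      rw [mul_sum _ _ (-3 : ℂ), ← sum_congr rfl fun x _ => e2 x, sum_add_distrib, sum_add_distrib,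
        ← e1, ← e1, ← e1]
      ring
    rw [e3] at e4
    push_cast at e4
    linear_combination e4 / 3
  have hcard : (Nat.card C : ℂ) = 3 * (Nat.card (C ⧸ Z) : ℂ) := by
    rw [Subgroup.card_eq_card_quotient_mul_card_subgroup Z, hZ3]; push_cast; ring
  have hinner : ∀ P P' : C ⧸ Z → ℂ, IsGeneralizedCharacter (C ⧸ Z) P →
      IsGeneralizedCharacter (C ⧸ Z) P' →
      (∀ σ : C ⧸ Z ≃* C ⧸ Z, σ (π b') = π b' → ∀ g, P' (σ g) = P' g) →
      (∀ g, 3 ∣ orderOf g → P g = 0) → (∀ g, 3 ∣ orderOf g → P' g = 0) →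
      classInner (indFun C (F P)) (indFun C (F P')) = 3 * classInner P P' := by
    intro P P' hP hP' hσ hz hz'
    rw [Chars.classInner_indFun_left C _ _ (Chars.isClassFunction_indFun C _), classInner, classInner]
    have e1 : ∀ x : C, F P x * conj (indFun C (F P') x) =
        -3 * F (fun q => P q * conj (P' q)) x := by
      intro x
      by_cases hx : (x : G) ^ e = a ∨ (x : G) ^ e = a⁻¹
      · rw [(hval P' hP' hσ hz').2 x hx]
        simp only [F, map_mul, map_neg, map_ofNat]
        ring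
      · push Not at hx
        by_cases h3 : 3 ∣ orderOf (π x)
        · simp [F, hz _ h3]
        obtain ⟨k, y, hy, rfl, hk⟩ := hshape x h3
        have hk3 : k % 3 = 0 := by
          rcases (show k % 3 = 0 ∨ k % 3 = 1 ∨ k % 3 = 2 by omega) with h | h | h
          · exact h
          · rw [pow_eq_pow_mod k hK.a_cube, h, pow_one] at hk
            exact absurd hk hx.1
          · rw [pow_eq_pow_mod k hK.a_cube, h] at hk
            exact absurd (hk.trans (eq_inv_of_mul_eq_one_left (by rw [← pow_succ, hK.a_cube]))) hx.2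
        have : (lam (a' ^ k * y) : ℂ) = 1 := by
          rw [map_mul, map_pow, hlamreg y hy, mul_one, Units.val_pow_eq_pow_val,
            pow_eq_pow_mod k (hlam3 a'), hk3, pow_zero]
        simp only [F, this]
        ring
    rw [sum_congr rfl fun x _ => e1 x, ← mul_sum]
    have h4 : ∑ x, F (fun q => P q * conj (P' q)) x = -3 * ∑ q, P q * conj (P' q) := by
      convert hsumF _ using 2
      rfl
    rw [h4, hcard]
    have hne : (Nat.card (C ⧸ Z) : ℂ) ≠ 0 := Chars.natCard_ne_zero
    field_simp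
  have hone : ∀ P : C ⧸ Z → ℂ, classInner (indFun C (F P)) (fun _ : G => 1) =
      -classInner P (fun _ => 1) := by
    intro P
    rw [Chars.classInner_indFun_left C _ _ (fun _ _ => rfl), classInner, classInner]
    simp only [map_one, mul_one]
    rw [hsumF, hcard]
    have hne : (Nat.card (C ⧸ Z) : ℂ) ≠ 0 := Chars.natCard_ne_zero
    field_simp
  have hσφ : ∀ σ : C ⧸ Z ≃* C ⧸ Z, σ (π b') = π b' → ∀ g, φ (σ g) = φ g :=
    fun σ hσ g => (hinvσ σ hσ g).1
  have hσψ : ∀ σ : C ⧸ Z ≃* C ⧸ Z, σ (π b') = π b' → ∀ g, ψ (σ g) = ψ g :=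
    fun σ hσ g => (hinvσ σ hσ g).2
  have hzφ : ∀ g, 3 ∣ orderOf g → φ g = 0 := fun g hg => (hvan g hg).1
  have hzψ : ∀ g, 3 ∣ orderOf g → ψ g = 0 := fun g hg => (hvan g hg).2
  obtain ⟨sφ, vφ⟩ := hval φ hφ hσφ hzφ
  obtain ⟨sψ, vψ⟩ := hval ψ hψ hσψ hzψ
  refine ⟨indFun C (F φ), indFun C (F ψ), isGeneralizedCharacter_indFun' C (hgen φ hφ),
    isGeneralizedCharacter_indFun' C (hgen ψ hψ), sφ, sψ, fun x => ?_, ?_, ?_, ?_, ?_, ?_⟩
  · split_ifs with hx
    · obtain ⟨c, hc⟩ := isConj_iff.mp hx.symm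
      rw [← Chars.isClassFunction_indFun C (F φ) x c, ← Chars.isClassFunction_indFun C (F ψ) x c]
      have hpow : (c * x * c⁻¹) ^ e = a := by rw [conj_pow, hc]
      have hxC : c * x * c⁻¹ ∈ C := mem_centralizer_singleton_iff.mpr (by
        rw [← hpow]; exact ((Commute.refl _).pow_right e).eq)
      obtain ⟨hreg, -⟩ := hpartC ⟨_, hxC⟩ (Or.inl hpow)
      have h1 := vφ ⟨_, hxC⟩ (Or.inl hpow)
      have h2 := vψ ⟨_, hxC⟩ (Or.inl hpow)
      simp only at h1 h2
      rw [h1, h2]
      linear_combination (-3 : ℂ) * hrel _ hreg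
    · rw [sφ x hx, sψ x hx]; ring
  · rw [hinner φ φ hφ hφ hσφ hzφ hzφ, hφφ]; norm_num
  · rw [hinner φ ψ hφ hψ hσψ hzφ hzψ, hφψ]; norm_num
  · rw [hinner ψ ψ hψ hψ hσψ hzψ hzψ, hψψ]; norm_num
  · rw [hone, hφ1]
  · rw [hone, hψ1, neg_zero]

end Cfsg.Agent.Lib.Order9TwoQ
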