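import Mathlib

/-!
# Combinatorics of the principal 3-block in the Klein case

Five integer vectors indexed by the irreducible characters: `c` for the mixed section and a
pair for each of the two axes.
-/

set_option autoImplicit false

namespace Cfsg.Agent.Lib.Order9TwoQ

open Finset
open scoped Classical

variable {ι : Type*} [Fintype ι]

/-- The data of one axis. -/
structure AxisData (o : ι) (d c x y : ι → ℤ) : Prop where
  sum_xx : ∑ i, x i * x i = 6
  sum_yy : ∑ i, y i * y i = 6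
  sum_xy : ∑ i, x i * y i = 3
  sum_cx : ∑ i, c i * x i = 0
  sum_cy : ∑ i, c i * y i = 0
  sum_dx : ∑ i, d i * x i = 0
  sum_dy : ∑ i, d i * y i = 0
  cong : ∀ i, 3 ∣ c i - x i - y i
  x_one : x o = 1
  y_one : y o = 0

/-- The whole table. -/
structure KTable (o : ι) (d c x y x' y' : ι → ℤ) : Prop where
  left : AxisData o d c x y
  right : AxisData o d c x' y'
  sum_cc : ∑ i, c i * c i = 9
  c_one : c o = 1
  d_one : d o = 1
  sum_dc : ∑ i, d i * c i = 0
  one_lt : ∀ i, i ≠ o → 1 < d i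
  cong_d : ∀ i, c i ≠ 0 → 3 ∣ d i - c i
  sum_xx' : ∑ i, x i * x' i = 0
  sum_xy' : ∑ i, x i * y' i = 0
  sum_yx' : ∑ i, y i * x' i = 0
  sum_yy' : ∑ i, y i * y' i = 0

variable {o : ι} {d c x y x' y' : ι → ℤ}

/-- The quadratic form of an axis. -/
def qf (a b : ℤ) : ℤ := a * a - a * b + b * b

theorem qf_nonneg (a b : ℤ) : 0 ≤ qf a b := by
  unfold qf; nlinarith [sq_nonneg (a - b), sq_nonneg a, sq_nonneg b]

theorem eq_zero_of_qf (a b : ℤ) (h : qf a b = 0) : a = 0 ∧ b = 0 := by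
  unfold qf at h
  constructor <;> nlinarith [sq_nonneg (a - b), sq_nonneg a, sq_nonneg b]

/-- The three types. -/
def typeX : Fin 3 → ℤ := ![1, 0, -1]

/-- The three types, second coordinate. -/
def typeY : Fin 3 → ℤ := ![0, 1, -1]

theorem exists_type {a b : ℤ} (h : qf a b = 1) :
    ∃ (s : ℤ) (t : Fin 3), (s = 1 ∨ s = -1) ∧ a = s * typeX t ∧ b = s * typeY t := by
  have h1 : -1 ≤ a ∧ a ≤ 1 := by
    unfold qf at h
    constructor <;> nlinarith [sq_nonneg (2 * b - a)]
  have h2 : -1 ≤ b ∧ b ≤ 1 := by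
    unfold qf at h
    constructor <;> nlinarith [sq_nonneg (2 * a - b)]
  obtain ⟨ha, ha'⟩ := h1
  obtain ⟨hb, hb'⟩ := h2
  interval_cases a <;> interval_cases b <;> norm_num [qf] at h
  · exact ⟨1, 2, Or.inl rfl, by simp [typeX], by simp [typeY]⟩
  · exact ⟨-1, 0, Or.inr rfl, by simp [typeX], by simp [typeY]⟩
  · exact ⟨-1, 1, Or.inr rfl, by simp [typeX], by simp [typeY]⟩
  · exact ⟨1, 1, Or.inl rfl, by simp [typeX], by simp [typeY]⟩
  · exact ⟨1, 0, Or.inl rfl, by simp [typeX], by simp [typeY]⟩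
  · exact ⟨-1, 2, Or.inr rfl, by simp [typeX], by simp [typeY]⟩

theorem sign_type {a b cc s : ℤ} {t : Fin 3} (ha : a = s * typeX t) (hb : b = s * typeY t)
    (h : 3 ∣ cc - a - b) : 3 ∣ cc - s := by
  subst ha hb
  obtain ⟨k, hk⟩ := h
  fin_cases t <;> simp [typeX, typeY] at hk
  · exact ⟨k, by linarith⟩
  · exact ⟨k, by linarith⟩
  · exact ⟨k - s, by linarith⟩

theorem qf_type {a b s : ℤ} {t : Fin 3} (hs : s = 1 ∨ s = -1) (ha : a = s * typeX t)
    (hb : b = s * typeY t) : qf a b = 1 := by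
  subst ha hb
  rcases hs with rfl | rfl <;> fin_cases t <;> simp [typeX, typeY, qf]

theorem qf_mod {a b cc : ℤ} (h : 3 ∣ cc - a - b) : 3 ∣ qf a b - cc * cc := by
  obtain ⟨k, hk⟩ := h
  exact ⟨-a * b - 3 * k * k - 2 * k * (a + b), by
    unfold qf
    obtain rfl : cc = 3 * k + a + b := by linarith
    ring⟩

theorem KTable.swap (h : KTable o d c x y x' y') : KTable o d c x' y' x y where
  left := h.right
  right := h.left
  sum_cc := h.sum_cc
  c_one := h.c_one
  d_one := h.d_one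
  sum_dc := h.sum_dc
  one_lt := h.one_lt
  cong_d := h.cong_d
  sum_xx' := by rw [← h.sum_xx']; exact sum_congr rfl fun i _ => mul_comm _ _
  sum_xy' := by rw [← h.sum_yx']; exact sum_congr rfl fun i _ => mul_comm _ _
  sum_yx' := by rw [← h.sum_xy']; exact sum_congr rfl fun i _ => mul_comm _ _
  sum_yy' := by rw [← h.sum_yy']; exact sum_congr rfl fun i _ => mul_comm _ _

/-- Bessel's inequality at one character. -/
theorem KTable.bessel (h : KTable o d c x y x' y') (i : ι) :
    c i * c i + 2 * qf (x i) (y i) + 2 * qf (x' i) (y' i) ≤ 9 := by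
  set c0 := c i
  set b := 2 * x i - y i
  set g := 2 * y i - x i
  set b' := 2 * x' i - y' i
  set g' := 2 * y' i - x' i
  set W : ι → ℤ := fun j => c0 * c j + b * x j + g * y j + b' * x' j + g' * y' j
  have hW : ∑ j, W j * W j =
      9 * (c0 * c0) + 6 * (b * b + b * g + g * g) + 6 * (b' * b' + b' * g' + g' * g') := by
    have e : ∀ j, W j * W j = c0 * c0 * (c j * c j) + b * b * (x j * x j) + g * g * (y j * y j) +
        b' * b' * (x' j * x' j) + g' * g' * (y' j * y' j) +
        2 * c0 * b * (c j * x j) + 2 * c0 * g * (c j * y j) + 2 * c0 * b' * (c j * x' j) +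
        2 * c0 * g' * (c j * y' j) + 2 * b * g * (x j * y j) + 2 * b * b' * (x j * x' j) +
        2 * b * g' * (x j * y' j) + 2 * g * b' * (y j * x' j) + 2 * g * g' * (y j * y' j) +
        2 * b' * g' * (x' j * y' j) := fun j => by simp only [W]; ring
    rw [sum_congr rfl fun j _ => e j]
    simp only [sum_add_distrib, ← mul_sum, h.sum_cc, h.left.sum_xx, h.left.sum_yy, h.left.sum_xy,
      h.left.sum_cx, h.left.sum_cy, h.right.sum_xx, h.right.sum_yy, h.right.sum_xy, h.right.sum_cx,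
      h.right.sum_cy, h.sum_xx', h.sum_xy', h.sum_yx', h.sum_yy']
    ring
  have hle := single_le_sum (f := fun j => W j * W j) (fun j _ => mul_self_nonneg (W j)) (mem_univ i)
  have hWi : W i = c i * c i + 2 * qf (x i) (y i) + 2 * qf (x' i) (y' i) := by
    simp only [W, c0, b, g, b', g', qf]; ring
  have hR : 9 * (c0 * c0) + 6 * (b * b + b * g + g * g) + 6 * (b' * b' + b' * g' + g' * g') =
      9 * W i := by
    rw [hWi]
    simp only [c0, b, g, b', g', qf]; ring
  rw [hW, hR] at hle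
  rw [← hWi]
  by_contra hlt
  push Not at hlt
  nlinarith

/-- The nonzero rows. -/
theorem KTable.row (h : KTable o d c x y x' y') {i : ι} (hi : c i ≠ 0) :
    ∃ (s : ℤ) (k : Fin 3 × Fin 3), (s = 1 ∨ s = -1) ∧ (c i = s ∨ c i = -2 * s) ∧
      x i = s * typeX k.1 ∧ y i = s * typeY k.1 ∧ x' i = s * typeX k.2 ∧ y' i = s * typeY k.2 := by
  have hb := h.bessel i
  have hc2 : c i = 1 ∨ c i = -1 ∨ c i = 2 ∨ c i = -2 := by
    by_cases hio : i = o
    · subst hio; exact Or.inl h.c_one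
    have hsum : c o * c o + c i * c i ≤ 9 := by
      rw [← h.sum_cc]
      exact (sum_pair (f := fun j => c j * c j) (Ne.symm hio)).symm.trans_le
        (sum_le_sum_of_subset_of_nonneg (subset_univ _) fun j _ _ => mul_self_nonneg _)
    rw [h.c_one] at hsum
    have h1 : -2 ≤ c i ∧ c i ≤ 2 := by constructor <;> nlinarith
    omega
  have hne : ¬ (3 : ℤ) ∣ c i * c i := by rcases hc2 with e | e | e | e <;> rw [e] <;> norm_num
  obtain ⟨k1, hk1⟩ := qf_mod (h.left.cong i)
  obtain ⟨k2, hk2⟩ := qf_mod (h.right.cong i)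
  have hq : qf (x i) (y i) = 1 ∧ qf (x' i) (y' i) = 1 := by
    have h0 := qf_nonneg (x i) (y i)
    have h0' := qf_nonneg (x' i) (y' i)
    rcases hc2 with e | e | e | e <;> rw [e] at hb hk1 hk2 <;> norm_num at hb hk1 hk2 <;>
      constructor <;> omega
  obtain ⟨s, t, hs, hx, hy⟩ := exists_type hq.1
  obtain ⟨s', t', hs', hx', hy'⟩ := exists_type hq.2
  have h1 := sign_type hx hy (h.left.cong i)
  have h2 := sign_type hx' hy' (h.right.cong i)
  obtain rfl : s' = s := by rcases hs with rfl | rfl <;> rcases hs' with rfl | rfl <;> omega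
  refine ⟨s', (t, t'), hs, ?_, hx, hy, hx', hy'⟩
  rcases hc2 with e | e | e | e <;> rcases hs with rfl | rfl <;> rw [e] at h1 ⊢ <;> omega

/-- Outside the support at most one axis is active. -/
theorem KTable.out_zero (h : KTable o d c x y x' y') {i : ι} (hi : c i = 0) :
    (x i = 0 ∧ y i = 0) ∨ (x' i = 0 ∧ y' i = 0) := by
  have hb := h.bessel i
  rw [hi] at hb
  obtain ⟨k1, hk1⟩ := qf_mod (h.left.cong i)
  obtain ⟨k2, hk2⟩ := qf_mod (h.right.cong i)
  rw [hi] at hk1 hk2
  have h0 := qf_nonneg (x i) (y i)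
  have h0' := qf_nonneg (x' i) (y' i)
  rcases (show qf (x i) (y i) = 0 ∨ qf (x' i) (y' i) = 0 by omega) with e | e
  · exact Or.inl (eq_zero_of_qf _ _ e)
  · exact Or.inr (eq_zero_of_qf _ _ e)

set_option maxHeartbeats 1600000 in
/-- The linear system for the numbers of rows. -/
theorem counts {n m : Fin 3 × Fin 3 → ℤ} (hn : ∀ k, 0 ≤ n k) (hm : ∀ k, 0 ≤ m k)
    (h9 : ∑ k, (n k + 4 * m k) = 9) (ho : 1 ≤ n (0, 0))
    (hx : ∑ k : Fin 3 × Fin 3, (n k - 2 * m k) * typeX k.1 = 0)
    (hy : ∑ k : Fin 3 × Fin 3, (n k - 2 * m k) * typeY k.1 = 0)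
    (hx' : ∑ k : Fin 3 × Fin 3, (n k - 2 * m k) * typeX k.2 = 0)
    (hy' : ∑ k : Fin 3 × Fin 3, (n k - 2 * m k) * typeY k.2 = 0)
    (hxx : ∑ k : Fin 3 × Fin 3, (n k + m k) * (typeX k.1 * typeX k.2) = 0)
    (hxy : ∑ k : Fin 3 × Fin 3, (n k + m k) * (typeX k.1 * typeY k.2) = 0)
    (hyx : ∑ k : Fin 3 × Fin 3, (n k + m k) * (typeY k.1 * typeX k.2) = 0)
    (hyy : ∑ k : Fin 3 × Fin 3, (n k + m k) * (typeY k.1 * typeY k.2) = 0) :
    (∀ k, n k = 1 ∧ m k = 0) ∨
      ∃ k₀ : Fin 3 × Fin 3, (k₀.1 = 0 ∨ k₀.2 = 0) ∧ ∀ k, m k = (if k = k₀ then 1 else 0) ∧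
        n k = (if k = k₀ ∨ k.1 = k₀.1 ∨ k.2 = k₀.2 then 1 else 0) := by
  have h2 : ∑ k, m k = 0 ∨ ∑ k, m k = 1 ∨ ∑ k, m k = 2 := by
    have h0 : 0 ≤ ∑ k, m k := sum_nonneg fun k _ => hm k
    have h1 : n (0, 0) ≤ ∑ k, n k := single_le_sum (fun k _ => hn k) (mem_univ _)
    rw [sum_add_distrib, ← mul_sum] at h9
    omega
  simp only [Fintype.sum_prod_type, Fin.sum_univ_three, typeX, typeY, Matrix.cons_val_zero,
    Matrix.cons_val_one, Matrix.cons_val, mul_one, mul_zero, mul_neg, neg_mul, one_mul, zero_mul,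
    add_zero, zero_add, neg_neg, neg_zero] at h9 hx hy hx' hy' hxx hxy hyx hyy
  have hn' := fun a b => hn (a, b)
  have hm' := fun a b => hm (a, b)
  have := hn' 0 0; have := hn' 0 1; have := hn' 0 2; have := hn' 1 0; have := hn' 1 1
  have := hn' 1 2; have := hn' 2 0; have := hn' 2 1; have := hn' 2 2
  have := hm' 0 0; have := hm' 0 1; have := hm' 0 2; have := hm' 1 0; have := hm' 1 1
  have := hm' 1 2; have := hm' 2 0; have := hm' 2 1; have := hm' 2 2
  rcases h2 with e | e | e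
  · have hz : ∀ k, m k = 0 := fun k =>
      (sum_eq_zero_iff_of_nonneg fun k _ => hm k).mp e k (mem_univ k)
    simp only [hz] at h9 hx hy hx' hy' hxx hxy hyx hyy
    refine Or.inl fun k => ⟨?_, hz k⟩
    obtain ⟨a, b⟩ := k
    fin_cases a <;> fin_cases b <;> simp only [Fin.zero_eta, Fin.mk_one, Fin.reduceFinMk] <;> omega
  · obtain ⟨k₀, -, hk⟩ := exists_ne_zero_of_sum_ne_zero (show ∑ k, m k ≠ 0 by omega)
    have hz : ∀ k, m k = if k = k₀ then 1 else 0 := by
      intro k
      have h1 := hm k₀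
      have h3 := hm k
      split_ifs with hkk
      · subst hkk
        have h4 : m k ≤ ∑ j, m j := single_le_sum (fun j _ => hm j) (mem_univ _)
        omega
      · have h4 : m k + m k₀ ≤ ∑ j, m j := (sum_pair (f := m) hkk).symm.trans_le
          (sum_le_sum_of_subset_of_nonneg (subset_univ _) fun j _ _ => hm j)
        omega
    refine Or.inr ⟨k₀, ?_⟩
    obtain ⟨a₀, b₀⟩ := k₀
    simp only [hz, Prod.mk.injEq] at h9 hx hy hx' hy' hxx hxy hyx hyy
    fin_cases a₀ <;> fin_cases b₀ <;>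
      simp only [Fin.zero_eta, Fin.mk_one, Fin.reduceFinMk, Fin.isValue, Fin.reduceEq, and_self,
        and_false, false_and, if_true, if_false] at h9 hx hy hx' hy' hxx hxy hyx hyy hz ⊢ <;>
      first
        | (exfalso; omega)
        | (refine ⟨by simp, fun k => ⟨hz k, ?_⟩⟩
           obtain ⟨a, b⟩ := k
           fin_cases a <;> fin_cases b <;>
             simp only [Fin.zero_eta, Fin.mk_one, Fin.reduceFinMk, Fin.isValue, Fin.reduceEq,
               Prod.mk.injEq, and_self, and_false, false_and, true_or, or_true, or_false,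
               if_true, if_false] <;> omega)
  · exfalso
    rw [Fintype.sum_prod_type] at e
    simp only [Fin.sum_univ_three] at e
    omega

end Cfsg.Agent.Lib.Order9TwoQ
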