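import Mathlib
import Cfsg.Agent.Lib.Order9TwoQ.KleinComb

/-!
# Degrees forced by the Klein table
-/

set_option autoImplicit false

namespace Cfsg.Agent.Lib.Order9TwoQ

open Finset
open scoped Classical

variable {ι : Type*} [Fintype ι] {o : ι} {d c x y x' y' : ι → ℤ}

/-- The only active row of one axis outside the support. -/
theorem exists_out_row (h : AxisData o d c x y) (S : Finset ι) (hS : ∀ i, c i ≠ 0 → i ∈ S)
    (hdo : ∀ i ∉ S, 0 < d i) (ho : o ∈ S)
    (hbound : ∀ i ∉ S, 2 * qf (x i) (y i) ≤ 9)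
    {X2 Y2 XY : ℤ} (hX : ∑ i ∈ S, x i * x i = X2) (hY : ∑ i ∈ S, y i * y i = Y2)
    (hXY : ∑ i ∈ S, x i * y i = XY) (h3 : (6 - X2) - (3 - XY) + (6 - Y2) = 3) :
    ∃ v ∉ S, x v * x v = 6 - X2 ∧ y v * y v = 6 - Y2 ∧ x v * y v = 3 - XY ∧ v ≠ o ∧
      ∑ i ∈ S, d i * x i = -(d v * x v) ∧ ∑ i ∈ S, d i * y i = -(d v * y v) := by
  have split : ∀ F : ι → ℤ, ∑ i, F i = ∑ i ∈ S, F i + ∑ i ∈ Sᶜ, F i := fun F =>
    (sum_add_sum_compl S F).symm
  have hq : ∑ i ∈ Sᶜ, qf (x i) (y i) = 3 := by
    have e1 := h.sum_xx; have e2 := h.sum_yy; have e3 := h.sum_xy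
    rw [split] at e1 e2 e3
    simp only [qf, sum_add_distrib, sum_sub_distrib]
    omega
  obtain ⟨v, hv, hv0⟩ := exists_ne_zero_of_sum_ne_zero (show ∑ i ∈ Sᶜ, qf (x i) (y i) ≠ 0 by omega)
  have hvS : v ∉ S := mem_compl.mp hv
  have hqv : 3 ≤ qf (x v) (y v) := by
    obtain ⟨k, hk⟩ := qf_mod (h.cong v)
    have h0 : c v = 0 := by_contra fun e => hvS (hS v e)
    rw [h0] at hk
    have := qf_nonneg (x v) (y v)
    omega
  have hrest : ∀ i ∈ Sᶜ.erase v, x i = 0 ∧ y i = 0 := by
    intro i hi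
    rw [← add_sum_erase _ _ hv] at hq
    refine eq_zero_of_qf _ _ ?_
    have h1 : 0 ≤ ∑ j ∈ Sᶜ.erase v, qf (x j) (y j) := sum_nonneg fun j _ => qf_nonneg _ _
    exact (sum_eq_zero_iff_of_nonneg fun j _ => qf_nonneg _ _).mp (by omega) i hi
  have hone : ∀ F : ι → ℤ, (∀ i, x i = 0 → y i = 0 → F i = 0) →
      ∑ i, F i = ∑ i ∈ S, F i + F v := by
    intro F hF
    rw [split, ← add_sum_erase _ _ hv,
      sum_eq_zero fun i hi => hF i (hrest i hi).1 (hrest i hi).2, add_zero]
  have e1 := h.sum_xx; have e2 := h.sum_yy; have e3 := h.sum_xy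
  have e4 := h.sum_dx; have e5 := h.sum_dy
  rw [hone _ fun i a b => by rw [a, mul_zero]] at e1
  rw [hone _ fun i a b => by rw [b, mul_zero]] at e2
  rw [hone _ fun i a b => by rw [a, zero_mul]] at e3
  rw [hone _ fun i a b => by rw [a, mul_zero]] at e4
  rw [hone _ fun i a b => by rw [b, mul_zero]] at e5
  exact ⟨v, hvS, by omega, by omega, by omega, fun e => hvS (e ▸ ho), by omega, by omega⟩

set_option maxHeartbeats 2000000 in
/-- A nine-cell table or an exceptional quadruple of degrees. -/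
theorem KTable.degrees (h : KTable o d c x y x' y') :
    (∃ E : Fin 3 × Fin 3 → ℤ, E (0, 0) = 1 ∧
      (∀ k, k ≠ (0, 0) → 3 ∣ E k - 1 ∧ ∃ i, i ≠ o ∧ d i = |E k|) ∧
      (∀ t, E (t, 0) + E (t, 1) + E (t, 2) = 0) ∧ ∀ t, E (0, t) + E (1, t) + E (2, t) = 0) ∨
    ∃ F : ℤ, 3 ∣ F - 1 ∧ (∃ i, i ≠ o ∧ d i = |F|) ∧ (∃ i, i ≠ o ∧ d i = |2 * F|) ∧
      (∃ i, i ≠ o ∧ d i = |2 * F - 1|) ∧ ∃ i, i ≠ o ∧ d i = |F - 1| := by
  suffices main : ∀ {x y x' y' : ι → ℤ}, KTable o d c x y x' y' →
      ∀ (s : ι → ℤ) (k : ι → Fin 3 × Fin 3),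
      (∀ i, c i ≠ 0 → (s i = 1 ∨ s i = -1) ∧ (c i = s i ∨ c i = -2 * s i) ∧
        x i = s i * typeX (k i).1 ∧ y i = s i * typeY (k i).1 ∧
        x' i = s i * typeX (k i).2 ∧ y' i = s i * typeY (k i).2) →
      ((∃ E : Fin 3 × Fin 3 → ℤ, E (0, 0) = 1 ∧
        (∀ k, k ≠ (0, 0) → 3 ∣ E k - 1 ∧ ∃ i, i ≠ o ∧ d i = |E k|) ∧
        (∀ t, E (t, 0) + E (t, 1) + E (t, 2) = 0) ∧ ∀ t, E (0, t) + E (1, t) + E (2, t) = 0) ∨
      (∃ F : ℤ, 3 ∣ F - 1 ∧ (∃ i, i ≠ o ∧ d i = |F|) ∧ (∃ i, i ≠ o ∧ d i = |2 * F|) ∧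
        (∃ i, i ≠ o ∧ d i = |2 * F - 1|) ∧ ∃ i, i ≠ o ∧ d i = |F - 1|) ∨
      ∃ i, c i ≠ 0 ∧ c i ≠ s i ∧ (k i).1 ≠ 0 ∧ (k i).2 = 0) by
    have hex : ∀ i, ∃ (s : ℤ) (k : Fin 3 × Fin 3), c i ≠ 0 → (s = 1 ∨ s = -1) ∧
        (c i = s ∨ c i = -2 * s) ∧ x i = s * typeX k.1 ∧ y i = s * typeY k.1 ∧
        x' i = s * typeX k.2 ∧ y' i = s * typeY k.2 := fun i => by
      by_cases hi : c i = 0
      · exact ⟨1, (0, 0), fun e => absurd hi e⟩
      · obtain ⟨s, k, hk⟩ := h.row hi
        exact ⟨s, k, fun _ => hk⟩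
    choose s k hk using hex
    rcases main h s k hk with e | e | ⟨i, hi, his, hi1, hi2⟩
    · exact Or.inl e
    · exact Or.inr e
    rcases main h.swap s (fun j => (k j).swap) (fun j hj => by
        obtain ⟨a1, a2, a3, a4, a5, a6⟩ := hk j hj
        exact ⟨a1, a2, a5, a6, a3, a4⟩) with ⟨E, h00, hE, hr, hc⟩ | e | ⟨j, hj, hjs, hj1, hj2⟩
    · refine Or.inl ⟨fun p => E p.swap, h00, fun p hp => hE p.swap fun e => hp ?_, hc, hr⟩
      rw [← Prod.swap_swap p, e, Prod.swap_prod_mk]
    · exact Or.inr e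
    · exfalso
      have hij : i ≠ j := fun e => hj1 (by rw [Prod.fst_swap, ← e, hi2])
      have hio : o ≠ i ∧ o ≠ j := by
        refine ⟨fun e => ?_, fun e => ?_⟩
        · obtain ⟨a1, a2, -⟩ := hk i hi
          subst e; rw [h.c_one] at a2 his; omega
        · obtain ⟨a1, a2, -⟩ := hk j hj
          subst e; rw [h.c_one] at a2 hjs; omega
      have hle : c o * c o + c i * c i + c j * c j ≤ 9 := by
        rw [← h.sum_cc]
        refine le_trans (le_of_eq ?_) (sum_le_sum_of_subset_of_nonneg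
          (subset_univ ({o, i, j} : Finset ι)) fun l _ _ => mul_self_nonneg _)
        rw [sum_insert (by simp [hio.1, hio.2]), sum_pair hij]
        ring
      obtain ⟨a1, a2, a3, a4, a5, a6⟩ := hk i hi
      obtain ⟨b1, b2, b3, b4, b5, b6⟩ := hk j hj
      have ci : c i * c i = 4 := by
        rcases a2 with e | e
        · exact absurd e his
        · rw [e]; rcases a1 with e' | e' <;> rw [e'] <;> norm_num
      have cj : c j * c j = 4 := by
        rcases b2 with e | e
        · exact absurd e hjs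
        · rw [e]; rcases b1 with e' | e' <;> rw [e'] <;> norm_num
      rw [h.c_one, ci, cj] at hle
      -- two rows of weight four leave only the trivial one
      have hall : ∀ l, c l ≠ 0 → l = o ∨ l = i ∨ l = j := by
        intro l hl
        by_contra hn
        push Not at hn
        have : c o * c o + c i * c i + c j * c j + c l * c l ≤ 9 := by
          rw [← h.sum_cc]
          refine le_trans (le_of_eq ?_) (sum_le_sum_of_subset_of_nonneg
            (subset_univ ({o, i, j, l} : Finset ι)) fun l _ _ => mul_self_nonneg _)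
          rw [sum_insert (by simp [hio.1, hio.2, hn.1.symm]),
            sum_insert (by simp [hij, hn.2.1.symm]), sum_pair hn.2.2.symm]
          ring
        rw [h.c_one, ci, cj] at this
        have := mul_self_pos.mpr hl
        omega
      have hsum : ∑ l, c l * x l = c o * x o + c i * x i + c j * x j := by
        rw [← sum_subset (subset_univ ({o, i, j} : Finset ι)) fun l _ hl => ?_,
          sum_insert (by simp [hio.1, hio.2]), sum_pair hij, add_assoc]
        by_cases hl0 : c l = 0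
        · rw [hl0, zero_mul]
        · rcases hall l hl0 with rfl | rfl | rfl <;> simp at hl
      rw [h.left.sum_cx, h.c_one, h.left.x_one, a3, b3, show c i = -2 * s i from
        a2.resolve_left his, show c j = -2 * s j from b2.resolve_left hjs] at hsum
      ring_nf at hsum
      omega
  intro x y x' y' h s k hk
  set S : Finset ι := univ.filter fun i => c i ≠ 0 with hSdef
  have hmemS : ∀ i, i ∈ S ↔ c i ≠ 0 := fun i => by simp [S]
  have hoS : o ∈ S := (hmemS o).mpr (by rw [h.c_one]; norm_num)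
  set n : Fin 3 × Fin 3 → ℤ := fun q => (#{i ∈ S | c i = s i ∧ k i = q} : ℕ) with hn
  set m : Fin 3 × Fin 3 → ℤ := fun q => (#{i ∈ S | c i ≠ s i ∧ k i = q} : ℕ) with hm
  -- sums over the support by cells
  have cells : ∀ (a b : ι → ℤ) (g : Fin 3 × Fin 3 → ℤ) (u w : ℤ),
      (∀ i ∈ S, c i = s i → a i * b i = u * g (k i)) →
      (∀ i ∈ S, c i ≠ s i → a i * b i = w * g (k i)) →
      ∑ i ∈ S, a i * b i = ∑ q, (u * n q + w * m q) * g q := by
    intro a b g u w hu hw
    rw [← sum_filter_add_sum_filter_not S (fun i => c i = s i)]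
    have e1 : ∑ i ∈ S.filter (fun i => c i = s i), a i * b i = ∑ q, u * n q * g q := by
      rw [← sum_fiberwise _ k]
      refine sum_congr rfl fun q _ => ?_
      rw [sum_congr rfl (g := fun _ => u * g q) fun i hi => ?_, sum_const, filter_filter,
        nsmul_eq_mul]
      · simp only [n]; ring
      · simp only [mem_filter] at hi
        rw [hu i hi.1.1 hi.1.2, hi.2]
    have e2 : ∑ i ∈ S.filter (fun i => ¬ c i = s i), a i * b i = ∑ q, w * m q * g q := by
      rw [← sum_fiberwise _ k]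
      refine sum_congr rfl fun q _ => ?_
      rw [sum_congr rfl (g := fun _ => w * g q) fun i hi => ?_, sum_const, filter_filter,
        nsmul_eq_mul]
      · simp only [m]; ring
      · simp only [mem_filter] at hi
        rw [hw i hi.1.1 hi.1.2, hi.2]
    rw [e1, e2, ← sum_add_distrib]
    exact sum_congr rfl fun q _ => by ring
  have hsq : ∀ i ∈ S, s i * s i = 1 := fun i hi => by
    rcases (hk i ((hmemS i).mp hi)).1 with e | e <;> rw [e] <;> norm_num
  have hout : ∀ (F : ι → ℤ), (∀ i, c i = 0 → F i = 0) → ∑ i, F i = ∑ i ∈ S, F i := fun F hF =>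
    (sum_subset (subset_univ S) fun i _ hi => hF i (by_contra fun e => hi ((hmemS i).mpr e))).symm
  have hc1 : ∀ i ∈ S, c i ≠ s i → c i = -2 * s i := fun i hi e =>
    ((hk i ((hmemS i).mp hi)).2.1).resolve_left e
  have lin : ∀ (a : ι → ℤ) (g : Fin 3 × Fin 3 → ℤ), (∀ i ∈ S, a i = s i * g (k i)) →
      ∑ i, c i * a i = 0 → ∑ q, (n q - 2 * m q) * g q = 0 := by
    intro a g ha e
    rw [hout _ fun i hi => by rw [hi, zero_mul], cells c a g 1 (-2)
      (fun i hi e => by rw [e, ha i hi, ← mul_assoc, hsq i hi])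
      (fun i hi e => by rw [hc1 i hi e, ha i hi]; linear_combination (-2 * g (k i)) * hsq i hi)] at e
    rw [← e]
    exact sum_congr rfl fun q _ => by ring
  have quad : ∀ (a b : ι → ℤ) (g g' : Fin 3 × Fin 3 → ℤ), (∀ i ∈ S, a i = s i * g (k i)) →
      (∀ i ∈ S, b i = s i * g' (k i)) →
      ∑ i ∈ S, a i * b i = ∑ q, (n q + m q) * (g q * g' q) := by
    intro a b g g' ha hb
    rw [cells a b (fun q => g q * g' q) 1 1
      (fun i hi _ => by rw [ha i hi, hb i hi]; linear_combination (g (k i) * g' (k i)) * hsq i hi)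
      (fun i hi _ => by rw [ha i hi, hb i hi]; linear_combination (g (k i) * g' (k i)) * hsq i hi)]
    exact sum_congr rfl fun q _ => by ring
  have gx : ∀ i ∈ S, x i = s i * typeX (k i).1 := fun i hi => (hk i ((hmemS i).mp hi)).2.2.1
  have gy : ∀ i ∈ S, y i = s i * typeY (k i).1 := fun i hi => (hk i ((hmemS i).mp hi)).2.2.2.1
  have gx' : ∀ i ∈ S, x' i = s i * typeX (k i).2 := fun i hi => (hk i ((hmemS i).mp hi)).2.2.2.2.1
  have gy' : ∀ i ∈ S, y' i = s i * typeY (k i).2 := fun i hi => (hk i ((hmemS i).mp hi)).2.2.2.2.2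
  have hso : s o = 1 := by
    obtain ⟨a1, a2, -⟩ := hk o ((hmemS o).mp hoS)
    rw [h.c_one] at a2
    omega
  have hko : k o = (0, 0) := by
    have e1 := gx o hoS; have e2 := gx' o hoS
    rw [hso, one_mul] at e1 e2
    rw [h.left.x_one] at e1
    rw [h.right.x_one] at e2
    refine Prod.ext ?_ ?_
    · generalize (k o).1 = t at e1 ⊢
      fin_cases t <;> simp [typeX] at e1 ⊢
    · generalize (k o).2 = t at e2 ⊢
      fin_cases t <;> simp [typeX] at e2 ⊢
  have hn0 : 1 ≤ n (0, 0) := by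
    simp only [n]
    exact_mod_cast (show 0 < #{i ∈ S | c i = s i ∧ k i = (0, 0)} from
      card_pos.mpr ⟨o, mem_filter.mpr ⟨hoS, h.c_one.trans hso.symm, hko⟩⟩)
  have h9 : ∑ q, (n q + 4 * m q) = 9 := by
    have e := h.sum_cc
    rw [hout _ fun i hi => by rw [hi, zero_mul], cells c c (fun _ => 1) 1 4
      (fun i hi e => by rw [e, hsq i hi]; norm_num)
      (fun i hi e => by rw [hc1 i hi e]; linear_combination 4 * hsq i hi)] at e
    rw [← e]
    exact sum_congr rfl fun q _ => by ring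
  have cross : ∀ (a b : ι → ℤ), (∀ i, c i = 0 → a i * b i = 0) → ∑ i, a i * b i = 0 →
      ∀ g g' : Fin 3 × Fin 3 → ℤ, (∀ i ∈ S, a i = s i * g (k i)) →
      (∀ i ∈ S, b i = s i * g' (k i)) → ∑ q, (n q + m q) * (g q * g' q) = 0 := by
    intro a b h0 e g g' ha hb
    rw [← quad a b g g' ha hb, ← hout _ h0, e]
  have hcounts := counts (n := n) (m := m) (fun q => Int.natCast_nonneg _)
    (fun q => Int.natCast_nonneg _) h9 hn0
    (lin x (fun q => typeX q.1) gx h.left.sum_cx) (lin y (fun q => typeY q.1) gy h.left.sum_cy)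
    (lin x' (fun q => typeX q.2) gx' h.right.sum_cx) (lin y' (fun q => typeY q.2) gy' h.right.sum_cy)
    (cross x x' (fun i hi => by rcases h.out_zero hi with e | e <;> simp [e.1]) h.sum_xx' (fun q => typeX q.1) (fun q => typeX q.2) gx gx')
    (cross x y' (fun i hi => by rcases h.out_zero hi with e | e <;> simp [e.1, e.2]) h.sum_xy' (fun q => typeX q.1) (fun q => typeY q.2) gx gy')
    (cross y x' (fun i hi => by rcases h.out_zero hi with e | e <;> simp [e.1, e.2]) h.sum_yx' (fun q => typeY q.1) (fun q => typeX q.2) gy gx')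
    (cross y y' (fun i hi => by rcases h.out_zero hi with e | e <;> simp [e.2]) h.sum_yy' (fun q => typeY q.1) (fun q => typeY q.2) gy gy')
  set E : Fin 3 × Fin 3 → ℤ := fun q => ∑ i ∈ S with c i = s i ∧ k i = q, s i * d i with hE
  set F : Fin 3 × Fin 3 → ℤ := fun q => ∑ i ∈ S with c i ≠ s i ∧ k i = q, s i * d i with hF
  have dsum : ∀ (a : ι → ℤ) (g : Fin 3 × Fin 3 → ℤ) (u : ℤ),
      (∀ i ∈ S, c i = s i → a i = s i * g (k i)) →
      (∀ i ∈ S, c i ≠ s i → a i = u * s i * g (k i)) →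
      ∑ i ∈ S, d i * a i = ∑ q, (E q + u * F q) * g q := by
    intro a g u h1 h2
    rw [← sum_filter_add_sum_filter_not S (fun i => c i = s i)]
    have e1 : ∑ i ∈ S.filter (fun i => c i = s i), d i * a i = ∑ q, E q * g q := by
      rw [← sum_fiberwise _ k]
      refine sum_congr rfl fun q _ => ?_
      simp only [E, sum_mul, filter_filter]
      refine sum_congr rfl fun i hi => ?_
      simp only [mem_filter] at hi
      rw [h1 i hi.1 hi.2.1, hi.2.2]; ring
    have e2 : ∑ i ∈ S.filter (fun i => ¬ c i = s i), d i * a i = ∑ q, u * F q * g q := by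
      rw [← sum_fiberwise _ k]
      refine sum_congr rfl fun q _ => ?_
      simp only [F, sum_mul, mul_sum, filter_filter]
      refine sum_congr rfl fun i hi => ?_
      simp only [mem_filter] at hi
      rw [h2 i hi.1 hi.2.1, hi.2.2]; ring
    rw [e1, e2, ← sum_add_distrib]
    exact sum_congr rfl fun q _ => by ring
  have dlin : ∀ (a : ι → ℤ) (g : Fin 3 × Fin 3 → ℤ), (∀ i ∈ S, a i = s i * g (k i)) →
      ∑ i ∈ S, d i * a i = ∑ q, (E q + 1 * F q) * g q := fun a g ha =>
    dsum a g 1 (fun i hi _ => ha i hi) (fun i hi _ => by rw [ha i hi, one_mul])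
  have hθ : ∑ q, (E q + -2 * F q) = 0 := by
    have e := h.sum_dc
    rw [hout _ fun i hi => by rw [hi, mul_zero], dsum c (fun _ => 1) (-2)
      (fun i hi e => by rw [e, mul_one]) (fun i hi e => by rw [hc1 i hi e, mul_one])] at e
    simpa using e
  -- single cells
  have hd3 : ∀ i ∈ S, c i = s i → 3 ∣ s i * d i - 1 := fun i hi e => by
    obtain ⟨j, hj⟩ := h.cong_d i ((hmemS i).mp hi)
    exact ⟨s i * j, by rw [e] at hj; linear_combination s i * hj + hsq i hi⟩
  have habs : ∀ i ∈ S, |s i * d i| = |d i| := fun i hi => by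
    rcases (hk i ((hmemS i).mp hi)).1 with e | e <;> rw [e] <;> simp
  have hdpos : ∀ i, 0 < d i := fun i => by
    by_cases hi : i = o
    · rw [hi, h.d_one]; norm_num
    · have := h.one_lt i hi; omega
  have single : ∀ q, n q = 1 → ∃ i ∈ S, E q = s i * d i ∧ c i = s i ∧ k i = q := by
    intro q hq
    obtain ⟨i, hi⟩ := card_eq_one.mp (show #{i ∈ S | c i = s i ∧ k i = q} = 1 by
      simp only [n] at hq; exact_mod_cast hq)
    have hmem : i ∈ S ∧ c i = s i ∧ k i = q := mem_filter.mp (hi ▸ mem_singleton_self i)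
    exact ⟨i, hmem.1, by simp only [E, hi, sum_singleton], hmem.2⟩
  have hno : ∀ q, n q = 1 → q ≠ (0, 0) → 3 ∣ E q - 1 ∧ ∃ i, i ≠ o ∧ d i = |E q| := by
    intro q hq hq0
    obtain ⟨i, hi, he, hc, hki⟩ := single q hq
    refine ⟨he ▸ hd3 i hi hc, i, fun e => hq0 ?_, ?_⟩
    · rw [← hki, e, hko]
    · rw [he, habs i hi, abs_of_pos (hdpos i)]
  have hE00 : n (0, 0) = 1 → E (0, 0) = 1 := by
    intro hq
    obtain ⟨i, hi, he, hc, hki⟩ := single (0, 0) hq
    have : o ∈ S.filter fun j => c j = s j ∧ k j = (0, 0) :=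
      mem_filter.mpr ⟨hoS, h.c_one.trans hso.symm, hko⟩
    obtain ⟨j, hj⟩ := card_eq_one.mp (show #{i ∈ S | c i = s i ∧ k i = (0, 0)} = 1 by
      simp only [n] at hq; exact_mod_cast hq)
    rw [hj, mem_singleton] at this
    simp only [E, hj, sum_singleton, ← this, hso, h.d_one, one_mul]
  have hEz : ∀ q, n q = 0 → E q = 0 := fun q hq => by
    simp only [n] at hq
    simp only [E, card_eq_zero.mp (show #{i ∈ S | c i = s i ∧ k i = q} = 0 by exact_mod_cast hq),
      sum_empty]
  have hFz : ∀ q, m q = 0 → F q = 0 := fun q hq => by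
    simp only [m] at hq
    simp only [F, card_eq_zero.mp (show #{i ∈ S | c i ≠ s i ∧ k i = q} = 0 by exact_mod_cast hq),
      sum_empty]
  rcases hcounts with hall | ⟨⟨a₀, b₀⟩, hk₀, hnm⟩
  · refine Or.inl ⟨E, hE00 (hall _).1, fun q hq => hno q (hall q).1 hq, ?_⟩
    -- nothing outside the support
    have hz : ∀ i, c i = 0 → (x i = 0 ∧ y i = 0) ∧ (x' i = 0 ∧ y' i = 0) := by
      have key : ∀ {x y : ι → ℤ}, AxisData o d c x y → ∀ p : Fin 3 × Fin 3 → Fin 3,
          (∀ i ∈ S, x i = s i * typeX (p (k i))) → (∀ i ∈ S, y i = s i * typeY (p (k i))) →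
          ∀ i, c i = 0 → x i = 0 ∧ y i = 0 := by
        intro x y hA p hx hy i hi
        refine eq_zero_of_qf _ _ ?_
        have hS9 : ∑ j ∈ S, qf (x j) (y j) = 9 := by
          rw [sum_congr rfl fun j hj =>
            qf_type ((hk j ((hmemS j).mp hj)).1) (hx j hj) (hy j hj)]
          have e := h9
          rw [sum_congr rfl (g := fun _ => (1 : ℤ)) fun q _ => by rw [(hall q).1, (hall q).2]; rfl] at e
          have e1 := cells (fun _ => 1) (fun _ => 1) (fun _ => 1) 1 1 (fun _ _ _ => rfl) (fun _ _ _ => rfl)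
          simp only [mul_one, sum_const, nsmul_eq_mul] at e1 ⊢
          rw [e1, sum_congr rfl (g := fun _ => (1 : ℤ)) fun q _ => by rw [(hall q).1, (hall q).2]; rfl]
          simp
        have htot : ∑ j, qf (x j) (y j) = 9 := by
          simp only [qf, sum_add_distrib, sum_sub_distrib]
          rw [hA.sum_xx, hA.sum_xy, hA.sum_yy]; norm_num
        rw [← sum_add_sum_compl S, hS9] at htot
        exact (sum_eq_zero_iff_of_nonneg fun j _ => qf_nonneg _ _).mp (by omega) i
          (mem_compl.mpr fun e => (hmemS i).mp e hi)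
      exact fun i hi => ⟨key h.left Prod.fst gx gy i hi, key h.right Prod.snd gx' gy' i hi⟩
    have eF : ∀ q, F q = 0 := fun q => hFz q (hall q).2
    have e1 := h.left.sum_dx; have e2 := h.left.sum_dy
    have e3 := h.right.sum_dx; have e4 := h.right.sum_dy
    rw [hout _ fun i hi => by rw [(hz i hi).1.1, mul_zero], dlin x (fun q => typeX q.1) gx] at e1
    rw [hout _ fun i hi => by rw [(hz i hi).1.2, mul_zero], dlin y (fun q => typeY q.1) gy] at e2
    rw [hout _ fun i hi => by rw [(hz i hi).2.1, mul_zero], dlin x' (fun q => typeX q.2) gx'] at e3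
    rw [hout _ fun i hi => by rw [(hz i hi).2.2, mul_zero], dlin y' (fun q => typeY q.2) gy'] at e4
    simp only [eF, mul_zero, add_zero, Fintype.sum_prod_type, Fin.sum_univ_three, typeX, typeY,
      Matrix.cons_val_zero, Matrix.cons_val_one, Matrix.cons_val, mul_one, mul_neg, zero_add]
      at e1 e2 e3 e4 hθ
    constructor <;> intro t <;> fin_cases t <;>
      simp only [Fin.zero_eta, Fin.mk_one, Fin.reduceFinMk] <;> omega
  · have hm0 : ∀ q, m q = if q = (a₀, b₀) then 1 else 0 := fun q => (hnm q).1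
    obtain ⟨i₂, hi₂⟩ := card_eq_one.mp (show #{i ∈ S | c i ≠ s i ∧ k i = (a₀, b₀)} = 1 by
      have := hm0 (a₀, b₀); simp only [m, if_true] at this; exact_mod_cast this)
    have hmem₂ : i₂ ∈ S ∧ c i₂ ≠ s i₂ ∧ k i₂ = (a₀, b₀) :=
      mem_filter.mp (hi₂ ▸ mem_singleton_self i₂)
    have hio : i₂ ≠ o := fun e => hmem₂.2.1 (by rw [e, h.c_one, hso])
    by_cases ha₀ : a₀ = 0
    swap
    · exact Or.inr (Or.inr ⟨i₂, (hmemS _).mp hmem₂.1, hmem₂.2.1, by rw [hmem₂.2.2]; exact ha₀,
        by rw [hmem₂.2.2]; exact hk₀.resolve_left ha₀⟩)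
    subst ha₀
    refine Or.inr (Or.inl ⟨F (0, b₀), ?_, ⟨i₂, hio, ?_⟩, ?_⟩)
    · obtain ⟨j, hj⟩ := h.cong_d i₂ ((hmemS _).mp hmem₂.1)
      rw [hc1 i₂ hmem₂.1 hmem₂.2.1] at hj
      exact ⟨s i₂ * j - 1, by
        simp only [F, hi₂, sum_singleton]
        linear_combination s i₂ * hj + (-2) * hsq i₂ hmem₂.1⟩
    · simp only [F, hi₂, sum_singleton]
      rw [habs i₂ hmem₂.1, abs_of_pos (hdpos i₂)]
    have hN : ∀ q, n q = if q = (0, b₀) ∨ q.1 = 0 ∨ q.2 = b₀ then 1 else 0 := fun q => (hnm q).2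
    have hE0 : ∀ a b : Fin 3, a ≠ 0 → b ≠ b₀ → E (a, b) = 0 := fun a b ha hb =>
      hEz _ (by rw [hN, if_neg (by simp [ha, hb])])
    have hF0 : ∀ q, q ≠ (0, b₀) → F q = 0 := fun q e => hFz q (by rw [hm0, if_neg e])
    have hqbound : ∀ i ∉ S, 2 * qf (x i) (y i) ≤ 9 ∧ 2 * qf (x' i) (y' i) ≤ 9 := fun i _ => by
      have := h.bessel i
      have := mul_self_nonneg (c i)
      have := qf_nonneg (x i) (y i)
      have := qf_nonneg (x' i) (y' i)
      omega
    have hX := quad x x (fun q => typeX q.1) (fun q => typeX q.1) gx gx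
    have hY := quad y y (fun q => typeY q.1) (fun q => typeY q.1) gy gy
    have hXY := quad x y (fun q => typeX q.1) (fun q => typeY q.1) gx gy
    have hX' := quad x' x' (fun q => typeX q.2) (fun q => typeX q.2) gx' gx'
    have hY' := quad y' y' (fun q => typeY q.2) (fun q => typeY q.2) gy' gy'
    have hXY' := quad x' y' (fun q => typeX q.2) (fun q => typeY q.2) gx' gy'
    have e00 := hE00 (by rw [hN]; simp)
    rcases (by decide : ∀ t : Fin 3, t = 0 ∨ t = 1 ∨ t = 2) b₀ with rfl | rfl | rfl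
    · simp only [hN, hm0, Fintype.sum_prod_type, Fin.sum_univ_three] at hX hY hXY hX' hY' hXY'
      simp [typeX, typeY] at hX hY hXY hX' hY' hXY'
      obtain ⟨v, hv, v1, v2, v3, -, v4, v5⟩ := exists_out_row h.left S (fun i => (hmemS i).mpr)
        (fun i _ => hdpos i) hoS (fun i hi => (hqbound i hi).1) hX hY hXY (by norm_num)
      obtain ⟨w, hw, w1, w2, w3, w0, w4, w5⟩ := exists_out_row h.right S (fun i => (hmemS i).mpr)
        (fun i _ => hdpos i) hoS (fun i hi => (hqbound i hi).2) hX' hY' hXY' (by norm_num)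
      rw [dlin x (fun q => typeX q.1) gx] at v4
      rw [dlin y (fun q => typeY q.1) gy] at v5
      rw [dlin x' (fun q => typeX q.2) gx'] at w4
      rw [dlin y' (fun q => typeY q.2) gy'] at w5
      norm_num at v1 v2 v3 w1 w2 w3
      rw [show y v = 2 * x v by nlinarith [sq_nonneg (y v - 2 * x v)]] at v5
      rw [show y' w = 2 * x' w by nlinarith [sq_nonneg (y' w - 2 * x' w)]] at w5
      have z11 := hE0 1 1 (by decide) (by decide)
      have z12 := hE0 1 2 (by decide) (by decide)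
      have z21 := hE0 2 1 (by decide) (by decide)
      have z22 := hE0 2 2 (by decide) (by decide)
      have f01 := hF0 (0, 1) (by decide)
      have f02 := hF0 (0, 2) (by decide)
      have f10 := hF0 (1, 0) (by decide)
      have f11 := hF0 (1, 1) (by decide)
      have f12 := hF0 (1, 2) (by decide)
      have f20 := hF0 (2, 0) (by decide)
      have f21 := hF0 (2, 1) (by decide)
      have f22 := hF0 (2, 2) (by decide)
      simp only [Fintype.sum_prod_type, Fin.sum_univ_three, typeX, typeY, Matrix.cons_val_zero,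
        Matrix.cons_val_one, Matrix.cons_val, z11, z12, z21, z22, f01, f02, f10, f11, f12, f20, f21, f22, e00,
        mul_zero, mul_one, add_zero, zero_add, mul_neg, neg_zero, zero_mul, one_mul] at v4 v5 w4 w5 hθ
      ring_nf at v4 v5 w4 w5 hθ
      omega
    · simp only [hN, hm0, Fintype.sum_prod_type, Fin.sum_univ_three] at hX hY hXY hX' hY' hXY'
      simp [typeX, typeY] at hX hY hXY hX' hY' hXY'
      obtain ⟨v, hv, v1, v2, v3, -, v4, v5⟩ := exists_out_row h.left S (fun i => (hmemS i).mpr)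
        (fun i _ => hdpos i) hoS (fun i hi => (hqbound i hi).1) hX hY hXY (by norm_num)
      obtain ⟨w, hw, w1, w2, w3, w0, w4, w5⟩ := exists_out_row h.right S (fun i => (hmemS i).mpr)
        (fun i _ => hdpos i) hoS (fun i hi => (hqbound i hi).2) hX' hY' hXY' (by norm_num)
      rw [dlin x (fun q => typeX q.1) gx] at v4
      rw [dlin y (fun q => typeY q.1) gy] at v5
      rw [dlin x' (fun q => typeX q.2) gx'] at w4
      rw [dlin y' (fun q => typeY q.2) gy'] at w5
      norm_num at v1 v2 v3 w1 w2 w3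
      rw [show y v = 2 * x v by nlinarith [sq_nonneg (y v - 2 * x v)]] at v5
      rw [show x' w = 2 * y' w by nlinarith [sq_nonneg (x' w - 2 * y' w)]] at w4
      have z10 := hE0 1 0 (by decide) (by decide)
      have z12 := hE0 1 2 (by decide) (by decide)
      have z20 := hE0 2 0 (by decide) (by decide)
      have z22 := hE0 2 2 (by decide) (by decide)
      have f00 := hF0 (0, 0) (by decide)
      have f02 := hF0 (0, 2) (by decide)
      have f10 := hF0 (1, 0) (by decide)
      have f11 := hF0 (1, 1) (by decide)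
      have f12 := hF0 (1, 2) (by decide)
      have f20 := hF0 (2, 0) (by decide)
      have f21 := hF0 (2, 1) (by decide)
      have f22 := hF0 (2, 2) (by decide)
      simp only [Fintype.sum_prod_type, Fin.sum_univ_three, typeX, typeY, Matrix.cons_val_zero,
        Matrix.cons_val_one, Matrix.cons_val, z10, z12, z20, z22, f00, f02, f10, f11, f12, f20, f21, f22, e00,
        mul_zero, mul_one, add_zero, zero_add, mul_neg, neg_zero, zero_mul, one_mul] at v4 v5 w4 w5 hθ
      ring_nf at v4 v5 w4 w5 hθ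
      have hw1 : y' w = 1 ∨ y' w = -1 := mul_self_eq_one_iff.mp (by linarith)
      refine ⟨?_, ?_, ⟨w, w0, ?_⟩⟩
      · obtain ⟨-, hi⟩ := hno (0, 1) (by rw [hN]; simp) (by decide)
        rw [show 2 * F (0, 1) = -E (0, 1) by omega, abs_neg]
        exact hi
      · obtain ⟨-, hi⟩ := hno (0, 2) (by rw [hN]; simp) (by decide)
        rw [show 2 * F (0, 1) - 1 = E (0, 2) by omega]
        exact hi
      · rw [show F (0, 1) - 1 = d w * y' w by
          ring_nf; omega]
        rcases hw1 with e | e <;> rw [e] <;> simp [abs_of_pos (hdpos w)]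
    · simp only [hN, hm0, Fintype.sum_prod_type, Fin.sum_univ_three] at hX hY hXY hX' hY' hXY'
      simp [typeX, typeY] at hX hY hXY hX' hY' hXY'
      obtain ⟨v, hv, v1, v2, v3, -, v4, v5⟩ := exists_out_row h.left S (fun i => (hmemS i).mpr)
        (fun i _ => hdpos i) hoS (fun i hi => (hqbound i hi).1) hX hY hXY (by norm_num)
      obtain ⟨w, hw, w1, w2, w3, w0, w4, w5⟩ := exists_out_row h.right S (fun i => (hmemS i).mpr)
        (fun i _ => hdpos i) hoS (fun i hi => (hqbound i hi).2) hX' hY' hXY' (by norm_num)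
      rw [dlin x (fun q => typeX q.1) gx] at v4
      rw [dlin y (fun q => typeY q.1) gy] at v5
      rw [dlin x' (fun q => typeX q.2) gx'] at w4
      rw [dlin y' (fun q => typeY q.2) gy'] at w5
      norm_num at v1 v2 v3 w1 w2 w3
      rw [show y v = 2 * x v by nlinarith [sq_nonneg (y v - 2 * x v)]] at v5
      rw [show x' w = -y' w by nlinarith [sq_nonneg (x' w + y' w)]] at w4
      have z10 := hE0 1 0 (by decide) (by decide)
      have z11 := hE0 1 1 (by decide) (by decide)
      have z20 := hE0 2 0 (by decide) (by decide)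
      have z21 := hE0 2 1 (by decide) (by decide)
      have f00 := hF0 (0, 0) (by decide)
      have f01 := hF0 (0, 1) (by decide)
      have f10 := hF0 (1, 0) (by decide)
      have f11 := hF0 (1, 1) (by decide)
      have f12 := hF0 (1, 2) (by decide)
      have f20 := hF0 (2, 0) (by decide)
      have f21 := hF0 (2, 1) (by decide)
      have f22 := hF0 (2, 2) (by decide)
      simp only [Fintype.sum_prod_type, Fin.sum_univ_three, typeX, typeY, Matrix.cons_val_zero,
        Matrix.cons_val_one, Matrix.cons_val, z10, z11, z20, z21, f00, f01, f10, f11, f12, f20, f21, f22, e00,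
        mul_zero, mul_one, add_zero, zero_add, mul_neg, neg_zero, zero_mul, one_mul] at v4 v5 w4 w5 hθ
      ring_nf at v4 v5 w4 w5 hθ
      have hw1 : y' w = 1 ∨ y' w = -1 := mul_self_eq_one_iff.mp (by linarith)
      refine ⟨?_, ?_, ⟨w, w0, ?_⟩⟩
      · obtain ⟨-, hi⟩ := hno (0, 2) (by rw [hN]; simp) (by decide)
        rw [show 2 * F (0, 2) = -E (0, 2) by omega, abs_neg]
        exact hi
      · obtain ⟨-, hi⟩ := hno (0, 1) (by rw [hN]; simp) (by decide)
        rw [show 2 * F (0, 2) - 1 = E (0, 1) by omega]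
        exact hi
      · rw [show F (0, 2) - 1 = -(d w * y' w) by
          ring_nf; omega, abs_neg]
        rcases hw1 with e | e <;> rw [e] <;> simp [abs_of_pos (hdpos w)]

end Cfsg.Agent.Lib.Order9TwoQ
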