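import Mathlib
import Cfsg.Agent.Lib.BrauerInd.Brauer
import Cfsg.Agent.Lib.Chars.DefectZero
import Cfsg.Agent.Lib.Blocks.PPart
import Cfsg.Agent.Lib.Chars.Ops

/-!
# Class functions of the p-part are generalized characters
-/

set_option autoImplicit false

namespace Cfsg.Agent.Lib.Order9TwoQ

open Cfsg Subgroup
open Cfsg.Agent.Lib

universe u

theorem isGeneralizedCharacter_comp_hom {G H : Type u} [Group G] [Group H] (f : H →* G)
    {θ : G → ℂ} (h : IsGeneralizedCharacter G θ) : IsGeneralizedCharacter H fun x => θ (f x) := by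
  obtain ⟨χ, ψ, hχ, hψ, rfl⟩ := h
  exact ⟨_, _, Chars.isCharacter_comp f hχ, Chars.isCharacter_comp f hψ, rfl⟩

theorem isNilpotent_of_isElementary {E : Type u} [Group E] [Finite E] {r : ℕ} (hr : r.Prime)
    (hE : IsElementary r E) : Group.IsNilpotent E := by
  obtain ⟨x, hxc, -, k, hk⟩ := hE
  have : Fact r.Prime := ⟨hr⟩
  have hle : zpowers x ≤ center E := zpowers_le.mpr hxc
  have hn : (zpowers x).Normal := ⟨fun a ha g => by
    rwa [mem_center_iff.mp (hle ha) g, mul_inv_cancel_right]⟩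
  have hq : IsPGroup r (E ⧸ zpowers x) := IsPGroup.of_card (n := k) (by rw [← hk, index_eq_card])
  haveI := hq.isNilpotent
  exact Subgroup.isNilpotent_of_ker_le_center (QuotientGroup.mk' (zpowers x))
    (by rwa [QuotientGroup.ker_mk'])

/-- A class function whose restriction to a Sylow p-subgroup is a generalized character gives,
composed with the p-part, a generalized character. -/
theorem isGeneralizedCharacter_pPart {G : Type u} [Group G] [Fintype G] {p : ℕ} [Fact p.Prime]
    (P : Sylow p G) {F : G → ℂ} (hF : IsClassFunction G F)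
    (hP : IsGeneralizedCharacter (P : Subgroup G) fun x => F x) :
    IsGeneralizedCharacter G fun g => F (g ^ Blocks.pPartExp G p) := by
  set k := Blocks.pPartExp G p
  refine BrauerInd.isGeneralizedCharacter_of_elementary (fun g h => ?_) fun E r hr hE => ?_
  · show F ((h * g * h⁻¹) ^ k) = F (g ^ k)
    rw [conj_pow, hF]
  haveI := isNilpotent_of_isElementary hr hE
  obtain ⟨H, j, hH, -, -, -⟩ := Chars.exists_regular_subgroup (p := p) Fact.out hr hE
  let T : Sylow p E := default
  have hTn : (T : Subgroup E).Normal :=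
    Sylow.normal_of_normalizerCondition Group.normalizerCondition_of_isNilpotent T
  have hHn : H.Normal := ⟨fun a ha g => (hH _).mpr (by
    rw [show g * a * g⁻¹ = MulAut.conj g a from rfl, MulEquiv.orderOf_eq]
    exact (hH a).mp ha)⟩
  have hpT : ∀ a : E, (∃ n : ℕ, orderOf a = p ^ n) → a ∈ (T : Subgroup E) := by
    rintro a ⟨n, hn⟩
    obtain ⟨S, hS⟩ := (IsPGroup.of_card (n := n) (G := zpowers a)
      (by rw [Nat.card_zpowers, hn])).exists_le_sylow
    obtain ⟨g, hg⟩ := MulAction.exists_smul_eq E T S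
    have h1 : ((g • T : Sylow p E) : Subgroup E) = (T : Subgroup E) := by
      rw [Sylow.coe_subgroup_smul]
      exact Subgroup.Normal.conjAct hTn (ConjAct.toConjAct g)
    rw [hg] at h1
    exact h1 ▸ hS (mem_zpowers a)
  have hdisj : Disjoint (T : Subgroup E) H := by
    rw [disjoint_def]
    intro a haT haH
    obtain ⟨n, hn⟩ := IsPGroup.iff_orderOf.mp T.isPGroup' ⟨a, haT⟩
    rw [orderOf_mk] at hn
    rcases n with - | n
    · simpa using hn
    · exact absurd ((dvd_pow_self p n.succ_ne_zero).trans (dvd_of_eq hn.symm)) ((hH a).mp haH)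
  have hpart : ∀ e : E, ∃ a b : E, a ∈ (T : Subgroup E) ∧ b ∈ H ∧ e = a * b ∧
      (a : G) = (e : G) ^ k := by
    intro e
    obtain ⟨a, b, he, -, hap, hb⟩ := Blocks.exists_isPPart (p := p) e
    refine ⟨a, b, hpT a hap, (hH b).mpr hb, he.symm, ?_⟩
    have hc : Commute (a : G) (b : G) := congrArg Subtype.val
      (commute_of_normal_of_disjoint _ _ hTn hHn hdisj a b (hpT a hap) ((hH b).mpr hb)).eq
    refine Blocks.isPPart_iff.mp ⟨b, congrArg Subtype.val he, hc, ?_, by rwa [orderOf_coe]⟩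
    simpa [orderOf_coe] using hap
  have hhom : ∀ e e' : E, ((e * e' : E) : G) ^ k = (e : G) ^ k * (e' : G) ^ k := by
    intro e e'
    obtain ⟨a, b, ha, hb, rfl, h1⟩ := hpart e
    obtain ⟨a', b', ha', hb', rfl, h2⟩ := hpart e'
    rw [← h1, ← h2, ← coe_mul, eq_comm]
    have hcb : b * a' = a' * b :=
      (commute_of_normal_of_disjoint _ _ hTn hHn hdisj a' b ha' hb).eq.symm
    refine Blocks.isPPart_iff.mp ⟨((b * b' : E) : G), ?_, ?_, ?_, ?_⟩
    · rw [← coe_mul]
      congr 1
      rw [mul_assoc a b, ← mul_assoc b a', hcb, mul_assoc a' b, mul_assoc a a']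
    · exact congrArg Subtype.val (commute_of_normal_of_disjoint _ _ hTn hHn hdisj (a * a') (b * b')
        (mul_mem ha ha') (mul_mem hb hb')).eq
    · obtain ⟨n, hn⟩ := IsPGroup.iff_orderOf.mp T.isPGroup' ⟨a * a', mul_mem ha ha'⟩
      exact ⟨n, by rw [orderOf_coe]; rwa [orderOf_mk] at hn⟩
    · rw [orderOf_coe]; exact (hH _).mp (mul_mem hb hb')
  let π : E →* G := MonoidHom.mk' (fun e => (e : G) ^ k) hhom
  have hπp : IsPGroup p π.range := by
    rintro ⟨_, e, rfl⟩
    obtain ⟨a, b, ha, -, -, h1⟩ := hpart e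
    obtain ⟨n, hn⟩ := IsPGroup.iff_orderOf.mp T.isPGroup' ⟨a, ha⟩
    refine ⟨n, Subtype.ext ?_⟩
    show ((e : G) ^ k) ^ p ^ n = 1
    rw [← h1, ← hn, orderOf_mk, ← orderOf_coe a, pow_orderOf_eq_one]
  obtain ⟨S, hS⟩ := hπp.exists_le_sylow
  obtain ⟨c, hc⟩ := MulAction.exists_smul_eq G S P
  have hmem : ∀ e : E, c * π e * c⁻¹ ∈ (P : Subgroup G) := fun e => by
    rw [← hc]
    exact Subgroup.mem_map.mpr ⟨π e, hS ⟨e, rfl⟩, rfl⟩
  have := isGeneralizedCharacter_comp_hom
    (((MulAut.conj c).toMonoidHom.comp π).codRestrict (P : Subgroup G) hmem) hP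
  convert this using 1
  funext e
  show F ((e : G) ^ k) = F (c * (e : G) ^ k * c⁻¹)
  rw [hF]

end Cfsg.Agent.Lib.Order9TwoQ
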