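import Mathlib
import Cfsg.Agent.Lib.Order9TwoQ.KleinAxis
import Cfsg.Agent.Lib.Order9TwoQ.KleinTable
import Cfsg.Agent.Lib.Order9TwoQ.OneSection
import Cfsg.Agent.Lib.Order9TwoQ.PartChar

/-!
# The table of the Klein case
-/

set_option autoImplicit false
set_option linter.unusedSectionVars false

namespace Cfsg.Agent.Lib.Order9TwoQ

open Cfsg Subgroup Finset
open Cfsg.Agent.Lib
open Cfsg.Agent.Lib.PairPSolv
open scoped ComplexConjugate Classical

universe u

attribute [local instance] fact_three'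

variable {G : Type u} [Group G] [Fintype G] {R : Sylow 3 G} {a b : G}

theorem KleinType.swap (hK : KleinType R a b) : KleinType R b a where
  card := hK.card
  mem_a := hK.mem_b
  mem_b := hK.mem_a
  a_ne := hK.b_ne
  b_ne := hK.a_ne
  a_cube := hK.b_cube
  b_cube := hK.a_cube
  notMem := fun h => hK.notMem (by
    have ha3 : orderOf a = 3 := orderOf_eq_prime hK.a_cube hK.a_ne
    have hb3 : orderOf b = 3 := orderOf_eq_prime hK.b_cube hK.b_ne
    have e : zpowers a = zpowers b := eq_of_le_of_card_ge (zpowers_le.mpr h)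
      (by rw [Nat.card_zpowers, Nat.card_zpowers, ha3, hb3])
    rw [e]
    exact mem_zpowers b)
  axes := fun n hn => (hK.axes n hn).symm
  refl_a := by
    obtain ⟨n, hn, h1, h2⟩ := hK.refl_b
    exact ⟨n, hn, h2, h1⟩
  refl_b := by
    obtain ⟨n, hn, h1, h2⟩ := hK.refl_a
    exact ⟨n, hn, h2, h1⟩

/-- The element with coordinates i, j. -/
def elt (a b : G) (p : Fin 3 × Fin 3) : G := a ^ (p.1 : ℕ) * b ^ (p.2 : ℕ)

theorem KleinType.comm (hK : KleinType R a b) : Commute a b :=
  comm_mem R hK.card hK.mem_a hK.mem_b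

theorem KleinType.elt_mem (hK : KleinType R a b) (p : Fin 3 × Fin 3) :
    elt a b p ∈ (R : Subgroup G) := mul_mem (pow_mem hK.mem_a _) (pow_mem hK.mem_b _)

theorem KleinType.elt_injective (hK : KleinType R a b) : Function.Injective (elt a b) := by
  have ha3 : orderOf a = 3 := orderOf_eq_prime hK.a_cube hK.a_ne
  have hb3 : orderOf b = 3 := orderOf_eq_prime hK.b_cube hK.b_ne
  rintro ⟨i, j⟩ ⟨k, l⟩ h
  simp only [elt] at h
  have hjl : b ^ ((j : ℕ) : ℤ) * (b ^ ((l : ℕ) : ℤ))⁻¹ ∈ zpowers a := by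
    have e : b ^ (j : ℕ) * (b ^ (l : ℕ))⁻¹ = (a ^ (i : ℕ))⁻¹ * a ^ (k : ℕ) := by
      calc b ^ (j : ℕ) * (b ^ (l : ℕ))⁻¹
          = (a ^ (i : ℕ))⁻¹ * (a ^ (i : ℕ) * b ^ (j : ℕ)) * (b ^ (l : ℕ))⁻¹ := by group
        _ = (a ^ (i : ℕ))⁻¹ * a ^ (k : ℕ) := by rw [h]; group
    rw [zpow_natCast, zpow_natCast, e]
    exact mul_mem (inv_mem (pow_mem (mem_zpowers a) _)) (pow_mem (mem_zpowers a) _)
  have hjl' : j = l := by
    by_contra hne
    rw [← zpow_neg, ← zpow_add] at hjl
    set z : ℤ := ((j : ℕ) : ℤ) + -((l : ℕ) : ℤ)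
    have hne' : (j : ℕ) ≠ (l : ℕ) := fun e => hne (Fin.ext e)
    have hj := j.isLt
    have hl := l.isLt
    rcases (show z = 1 ∨ z = 2 ∨ z = -1 ∨ z = -2 by omega) with e | e | e | e <;> rw [e] at hjl
    · exact hK.notMem (by simpa using hjl)
    · refine hK.notMem ?_
      have h4 := mul_mem hjl hjl
      rwa [← zpow_add, show (2 : ℤ) + 2 = ((4 : ℕ) : ℤ) by norm_num, zpow_natCast,
        pow_eq_pow_mod 4 hK.b_cube, show 4 % 3 = 1 from rfl, pow_one] at h4
    · exact hK.notMem (by simpa using hjl)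
    · refine hK.notMem ?_
      rwa [show (-2 : ℤ) = 1 + (-3) by norm_num, zpow_add, zpow_one, zpow_neg,
        show (b : G) ^ (3 : ℤ) = 1 by rw [show (3 : ℤ) = ((3 : ℕ) : ℤ) from rfl, zpow_natCast, hK.b_cube],
        inv_one, mul_one] at hjl
  subst hjl'
  have hik : a ^ (i : ℕ) = a ^ (k : ℕ) := mul_right_cancel h
  have := pow_injOn_Iio_orderOf (x := a) (by rw [Set.mem_Iio, ha3]; exact i.isLt)
    (by rw [Set.mem_Iio, ha3]; exact k.isLt) hik
  exact Prod.ext (Fin.ext this) rfl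

/-- The coordinates as an equivalence. -/
noncomputable def KleinType.coord (hK : KleinType R a b) : Fin 3 × Fin 3 ≃ (R : Subgroup G) :=
  Equiv.ofBijective (fun p => ⟨elt a b p, hK.elt_mem p⟩) ((Fintype.bijective_iff_injective_and_card _).mpr
    ⟨fun p p' h => hK.elt_injective (congrArg Subtype.val h), by
      rw [← Nat.card_eq_fintype_card, ← Nat.card_eq_fintype_card, hK.card]; simp⟩)

theorem KleinType.coord_apply (hK : KleinType R a b) (p : Fin 3 × Fin 3) :
    (hK.coord p : G) = elt a b p := rfl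

theorem KleinType.sq_a (hK : KleinType R a b) : a ^ 2 = a⁻¹ :=
  eq_inv_of_mul_eq_one_left (by rw [← pow_succ]; exact hK.a_cube)

theorem KleinType.sq_b (hK : KleinType R a b) : b ^ 2 = b⁻¹ :=
  eq_inv_of_mul_eq_one_left (by rw [← pow_succ]; exact hK.b_cube)

/-- Fusion in coordinates. -/
theorem KleinType.isConj_elt (hK : KleinType R a b) (p p' : Fin 3 × Fin 3) :
    IsConj (elt a b p) (elt a b p') ↔
      ((p.1 = 0 ↔ p'.1 = 0) ∧ (p.2 = 0 ↔ p'.2 = 0)) := by
  have e2a : ∀ i : Fin 3, (a⁻¹) ^ (i : ℕ) = a ^ ((-i : Fin 3) : ℕ) := by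
    intro i
    fin_cases i
    · simp
    · show a⁻¹ ^ 1 = a ^ 2
      rw [pow_one, hK.sq_a]
    · show a⁻¹ ^ 2 = a ^ 1
      rw [pow_one, inv_pow, hK.sq_a, inv_inv]
  have e2b : ∀ i : Fin 3, (b⁻¹) ^ (i : ℕ) = b ^ ((-i : Fin 3) : ℕ) := by
    intro i
    fin_cases i
    · simp
    · show b⁻¹ ^ 1 = b ^ 2
      rw [pow_one, hK.sq_b]
    · show b⁻¹ ^ 2 = b ^ 1
      rw [pow_one, inv_pow, hK.sq_b, inv_inv]
  have himg : ∀ n : G, (n * a * n⁻¹ = a ∨ n * a * n⁻¹ = a⁻¹) →
      (n * b * n⁻¹ = b ∨ n * b * n⁻¹ = b⁻¹) →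
      ∃ i j, (i = p.1 ∨ i = -p.1) ∧ (j = p.2 ∨ j = -p.2) ∧
        n * elt a b p * n⁻¹ = elt a b (i, j) := by
    intro n h1 h2
    have e : n * elt a b p * n⁻¹ = (n * a * n⁻¹) ^ (p.1 : ℕ) * (n * b * n⁻¹) ^ (p.2 : ℕ) := by
      rw [conj_pow, conj_pow]; simp only [elt]; group
    rcases h1 with h1 | h1 <;> rcases h2 with h2 | h2 <;> rw [h1, h2] at e
    · exact ⟨p.1, p.2, Or.inl rfl, Or.inl rfl, e⟩
    · exact ⟨p.1, -p.2, Or.inl rfl, Or.inr rfl, by rw [e, e2b]; rfl⟩
    · exact ⟨-p.1, p.2, Or.inr rfl, Or.inl rfl, by rw [e, e2a]; rfl⟩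
    · exact ⟨-p.1, -p.2, Or.inr rfl, Or.inr rfl, by rw [e, e2a, e2b]; rfl⟩
  constructor
  · intro h
    obtain ⟨n, hn, he⟩ := fusion R hK.card (hK.elt_mem p) (hK.elt_mem p') h
    obtain ⟨h1, h2⟩ := hK.axes n hn
    obtain ⟨i, j, hi, hj, hij⟩ := himg n h1 h2
    obtain rfl : p' = (i, j) := hK.elt_injective (he.symm.trans hij)
    constructor
    · rcases hi with rfl | rfl <;> simp
    · rcases hj with rfl | rfl <;> simp
  · rintro ⟨h1, h2⟩
    have hsg : ∀ i i' : Fin 3, (i = 0 ↔ i' = 0) → i' = i ∨ i' = -i := by decide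
    obtain ⟨na, -, a1, a2⟩ := hK.refl_a
    obtain ⟨nb, -, b1, b2⟩ := hK.refl_b
    have eA : IsConj (elt a b p) (elt a b (-p.1, p.2)) := isConj_iff.mpr ⟨na, by
      calc na * elt a b p * na⁻¹ = (na * a * na⁻¹) ^ (p.1 : ℕ) * (na * b * na⁻¹) ^ (p.2 : ℕ) := by
            rw [conj_pow, conj_pow]; simp only [elt]; group
        _ = _ := by rw [a1, a2, e2a]; rfl⟩
    have eB : ∀ i, IsConj (elt a b (i, p.2)) (elt a b (i, -p.2)) := fun i => isConj_iff.mpr ⟨nb, by
      calc nb * elt a b (i, p.2) * nb⁻¹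
          = (nb * a * nb⁻¹) ^ (i : ℕ) * (nb * b * nb⁻¹) ^ (p.2 : ℕ) := by
            rw [conj_pow, conj_pow]; simp only [elt]; group
        _ = _ := by rw [b1, b2, e2b]; rfl⟩
    obtain ⟨x, y⟩ := p'
    rcases hsg _ _ h1 with rfl | rfl <;> rcases hsg _ _ h2 with rfl | rfl
    · exact IsConj.refl _
    · exact eB p.1
    · exact eA
    · exact eA.trans (eB (-p.1))

theorem KleinType.elt_a (hK : KleinType R a b) : elt a b (1, 0) = a := by simp [elt]

theorem KleinType.elt_u (hK : KleinType R a b) : elt a b (1, 1) = a * b := by simp [elt]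

theorem KleinType.elt_zero (hK : KleinType R a b) : elt a b (0, 0) = 1 := by simp [elt]

theorem KleinType.complement (hK : KleinType R a b) :
    HasNormalPComplement 3 (centralizer ({a * b} : Set G)) := by
  refine hasNormalPComplement_centralizer R hK.card (mul_mem hK.mem_a hK.mem_b) fun n hn hnu => ?_
  obtain ⟨h1, h2⟩ := hK.axes n hn
  have e : n * (a * b) * n⁻¹ = (n * a * n⁻¹) * (n * b * n⁻¹) := by group
  have hcases : n * a * n⁻¹ = a ∧ n * b * n⁻¹ = b := by
    rw [e] at hnu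
    rcases h1 with h1 | h1 <;> rcases h2 with h2 | h2 <;> rw [h1, h2] at hnu
    · exact ⟨h1, h2⟩
    · rw [← hK.sq_b] at hnu
      have := hK.elt_injective (a₁ := (1, 2)) (a₂ := (1, 1)) (by simpa [elt] using hnu)
      simp at this
    · rw [← hK.sq_a] at hnu
      have := hK.elt_injective (a₁ := (2, 1)) (a₂ := (1, 1)) (by simpa [elt] using hnu)
      simp at this
    · rw [← hK.sq_a, ← hK.sq_b] at hnu
      have := hK.elt_injective (a₁ := (2, 2)) (a₂ := (1, 1)) (by simpa [elt] using hnu)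
      simp at this
  refine mem_centralizer_iff.mpr fun w hw => ?_
  obtain ⟨p, hp⟩ := hK.coord.surjective ⟨w, hw⟩
  have hw' : w = elt a b p := by rw [← hK.coord_apply, hp]
  subst hw'
  have ca : Commute n a := mul_inv_eq_iff_eq_mul.mp hcases.1
  have cb : Commute n b := mul_inv_eq_iff_eq_mul.mp hcases.2
  exact ((ca.pow_right _).mul_right (cb.pow_right _)).symm.eq

theorem cube_sum_cases {z : ℂ} (h : z ^ 3 = 1) : z + z ^ 2 = 2 ∨ z + z ^ 2 = -1 := by
  by_cases h1 : z = 1
  · left; rw [h1]; norm_num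
  · right
    have := (mul_eq_zero.mp (show (z - 1) * (z ^ 2 + z + 1) = 0 by linear_combination h)).resolve_left
      (sub_ne_zero.mpr h1)
    linear_combination this

/-- Class functions on R with integral coordinates of the required kind are virtual. -/
theorem KleinType.gen_res (hK : KleinType R a b) {F : G → ℂ} (hF : IsClassFunction G F)
    (h : ∀ z w : ℂ, z ^ 3 = 1 → w ^ 3 = 1 → ∃ k : ℤ,
      ∑ p : Fin 3 × Fin 3, F (elt a b p) * (z ^ (p.1 : ℕ) * w ^ (p.2 : ℕ)) = 9 * k) :
    IsGeneralizedCharacter G fun g => F (g ^ Blocks.pPartExp G 3) := by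
  haveI : IsMulCommutative (R : Subgroup G) := isMulCommutative_sylow R hK.card
  refine isGeneralizedCharacter_pPart R hF (Chars.isGeneralizedCharacter_of_classInner_int ?_ ?_)
  · intro g k
    have e : k * g * k⁻¹ = g := by
      rw [IsMulCommutative.is_comm.comm k g, mul_inv_cancel_right]
    rw [e]
  intro χ
  obtain ⟨φ, hφ⟩ := Chars.exists_hom_of_degree_one (Chars.irr_isCharacter χ)
    (Chars.irr_apply_one_of_comm χ)
  set ca : (R : Subgroup G) := ⟨a, hK.mem_a⟩
  set cb : (R : Subgroup G) := ⟨b, hK.mem_b⟩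
  have hz : conj (φ ca : ℂ) ^ 3 = 1 := by
    rw [← map_pow, ← Units.val_pow_eq_pow_val, ← map_pow,
      show ca ^ 3 = 1 from Subtype.ext hK.a_cube, map_one, Units.val_one, map_one]
  have hw : conj (φ cb : ℂ) ^ 3 = 1 := by
    rw [← map_pow, ← Units.val_pow_eq_pow_val, ← map_pow,
      show cb ^ 3 = 1 from Subtype.ext hK.b_cube, map_one, Units.val_one, map_one]
  obtain ⟨k, hk⟩ := h _ _ hz hw
  refine ⟨k, ?_⟩
  rw [classInner, ← hK.coord.sum_comp, hK.card]
  have e : ∀ p : Fin 3 × Fin 3, F (hK.coord p : G) * conj (χ.1 (hK.coord p)) =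
      F (elt a b p) * (conj (φ ca : ℂ) ^ (p.1 : ℕ) * conj (φ cb : ℂ) ^ (p.2 : ℕ)) := by
    intro p
    rw [hK.coord_apply, hφ,
      show hK.coord p = ca ^ (p.1 : ℕ) * cb ^ (p.2 : ℕ) from Subtype.ext rfl]
    simp only [map_mul, map_pow, Units.val_mul, Units.val_pow_eq_pow_val]
  rw [sum_congr rfl fun p _ => e p, hk]
  push_cast
  ring

variable [IsSimpleGroup G]

/-- The table. -/
theorem KleinType.exists_table (hG : ¬ IsMulCommutative G) (hK : KleinType R a b)
    {M : Ideal AlgInt} [M.IsPrime] (hM : IsPModular 3 M) :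
    ∃ c x y x' y' : IrrCharacter G → ℤ, KTable (Chars.trivialIrr G)
      (fun χ => (charDegree (χ : G → ℂ) : ℤ)) c x y x' y' := by
  set u := a * b with hu
  set e := Blocks.pPartExp G 3 with he
  have huR : u ∈ (R : Subgroup G) := mul_mem hK.mem_a hK.mem_b
  have hne : ∀ {p q : Fin 3 × Fin 3}, p ≠ q → elt a b p ≠ elt a b q :=
    fun h e => h (hK.elt_injective e)
  have hu1 : u ≠ 1 := by
    rw [hu, ← hK.elt_u, ← hK.elt_zero]; exact hne (by decide)
  have hau : ¬ IsConj a u := by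
    rw [hu, ← hK.elt_u]; nth_rw 1 [← hK.elt_a]
    rw [hK.isConj_elt]; decide
  have hbu : ¬ IsConj b u := by
    have hb' : elt a b (0, 1) = b := by simp [elt]
    rw [hu, ← hK.elt_u]; nth_rw 1 [← hb']
    rw [hK.isConj_elt]; decide
  have hab : ¬ IsConj a b := by
    have hb' : elt a b (0, 1) = b := by simp [elt]
    intro h
    rw [← hb'] at h
    nth_rw 1 [← hK.elt_a] at h
    rw [hb'] at h
    have h' : IsConj (elt a b (1, 0)) (elt a b (0, 1)) := by rwa [hb']
    rw [hK.isConj_elt] at h'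
    exact absurd h' (by decide)
  obtain ⟨f, g, hA⟩ := hK.exists_axisFun hM
  obtain ⟨f', g', hB⟩ := hK.swap.exists_axisFun hM
  have hP := isMulCommutative_sylow R hK.card
  have hC := hK.complement
  have hclass : ∀ v : G, IsClassFunction G fun x => if IsConj v x then (9 : ℂ) else 0 := by
    intro v x k
    have : IsConj v (k * x * k⁻¹) ↔ IsConj v x :=
      ⟨fun h => h.trans (isConj_iff.mpr ⟨k⁻¹, by group⟩),
        fun h => h.trans (isConj_iff.mpr ⟨k, rfl⟩)⟩
    simp only [this]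
  -- the mixed function
  set T : G → ℂ := fun x => if IsConj u (x ^ e) then 9 else 0 with hTdef
  have hTgen : IsGeneralizedCharacter G T := by
    refine hK.gen_res (F := fun x => if IsConj u x then (9 : ℂ) else 0) (hclass u) fun z w hz hw => ?_
    have e1 : ∀ p : Fin 3 × Fin 3, IsConj u (elt a b p) ↔ (p.1 ≠ 0 ∧ p.2 ≠ 0) := fun p => by
      rw [hu, ← hK.elt_u, hK.isConj_elt]; simp
    simp only [e1, Fintype.sum_prod_type, Fin.sum_univ_three]
    norm_num [Fin.ext_iff]
    rcases cube_sum_cases hz with h1 | h1 <;> rcases cube_sum_cases hw with h2 | h2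
    · exact ⟨4, by push_cast; linear_combination 9 * (w + w ^ 2) * h1 + 18 * h2⟩
    · exact ⟨-2, by push_cast; linear_combination 9 * (w + w ^ 2) * h1 + 18 * h2⟩
    · exact ⟨-2, by push_cast; linear_combination 9 * (w + w ^ 2) * h1 + -9 * h2⟩
    · exact ⟨1, by push_cast; linear_combination 9 * (w + w ^ 2) * h1 + -9 * h2⟩
  -- the functions giving the congruences
  have hmix : ∀ a' b' : G, KleinType R a' b' → a' * b' = u →
      IsGeneralizedCharacter G fun x =>
        if IsConj a' (x ^ e) ∨ IsConj u (x ^ e) then (-3 : ℂ) else 0 := by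
    intro a' b' hK' hu'
    refine hK'.gen_res (F := fun x => if IsConj a' x ∨ IsConj u x then (-3 : ℂ) else 0) ?_ fun z w hz hw => ?_
    · intro x k
      have : ∀ v : G, IsConj v (k * x * k⁻¹) ↔ IsConj v x := fun v =>
        ⟨fun h => h.trans (isConj_iff.mpr ⟨k⁻¹, by group⟩),
          fun h => h.trans (isConj_iff.mpr ⟨k, rfl⟩)⟩
      simp only [this]
    have e1 : ∀ p : Fin 3 × Fin 3, (IsConj a' (elt a' b' p) ∨ IsConj u (elt a' b' p)) ↔ p.1 ≠ 0 := by
      intro p
      have h1 : IsConj a' (elt a' b' p) ↔ (p.1 ≠ 0 ∧ p.2 = 0) := by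
        nth_rw 1 [← hK'.elt_a]
        rw [hK'.isConj_elt]; simp
      have h2 : IsConj u (elt a' b' p) ↔ (p.1 ≠ 0 ∧ p.2 ≠ 0) := by
        rw [← hu', ← hK'.elt_u, hK'.isConj_elt]; simp
      rw [h1, h2]; tauto
    simp only [e1, Fintype.sum_prod_type, Fin.sum_univ_three]
    norm_num [Fin.ext_iff]
    rcases cube_sum_cases hz with h1 | h1 <;> rcases cube_sum_cases hw with h2 | h2
    · exact ⟨-2, by push_cast; linear_combination -3 * (1 + w + w ^ 2) * h1 + -6 * h2⟩
    · exact ⟨0, by push_cast; linear_combination -3 * (1 + w + w ^ 2) * h1 + -6 * h2⟩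
    · exact ⟨1, by push_cast; linear_combination -3 * (1 + w + w ^ 2) * h1 + 3 * h2⟩
    · exact ⟨0, by push_cast; linear_combination -3 * (1 + w + w ^ 2) * h1 + 3 * h2⟩
  have hirr : ∀ χ : IrrCharacter G, IsGeneralizedCharacter G (χ : G → ℂ) := fun χ =>
    Chars.isGeneralizedCharacter_of_isCharacter (Chars.irr_isCharacter χ)
  choose x hx using fun χ : IrrCharacter G =>
    Chars.isGeneralizedCharacter_classInner_int (Chars.isGeneralizedCharacter_neg hA.gen_f) (hirr χ)
  choose y hy using fun χ : IrrCharacter G =>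
    Chars.isGeneralizedCharacter_classInner_int (Chars.isGeneralizedCharacter_neg hA.gen_g) (hirr χ)
  choose x' hx' using fun χ : IrrCharacter G =>
    Chars.isGeneralizedCharacter_classInner_int (Chars.isGeneralizedCharacter_neg hB.gen_f) (hirr χ)
  choose y' hy' using fun χ : IrrCharacter G =>
    Chars.isGeneralizedCharacter_classInner_int (Chars.isGeneralizedCharacter_neg hB.gen_g) (hirr χ)
  choose c hc using fun χ : IrrCharacter G =>
    Chars.isGeneralizedCharacter_classInner_int hTgen (hirr χ)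
  have hcl := fun {φ : G → ℂ} (h : IsGeneralizedCharacter G φ) =>
    Chars.isClassFunction_of_isGeneralizedCharacter h
  have hneg : ∀ φ ψ : G → ℂ, classInner (-φ) ψ = -classInner φ ψ := fun φ ψ => by
    simp [classInner]
  have hnegr : ∀ φ ψ : G → ℂ, classInner φ (-ψ) = -classInner φ ψ := fun φ ψ => by
    simp [classInner]
  have pars : ∀ {φ ψ : G → ℂ} (α β : IrrCharacter G → ℤ), IsGeneralizedCharacter G φ →
      IsGeneralizedCharacter G ψ → (∀ χ : IrrCharacter G, classInner φ (χ : G → ℂ) = α χ) →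
      (∀ χ : IrrCharacter G, classInner ψ (χ : G → ℂ) = β χ) →
      ∀ {k : ℤ}, classInner φ ψ = k → ∑ χ, α χ * β χ = k := by
    intro φ ψ α β h1 h2 hα hβ k hk
    rw [Chars.classInner_eq_sum_mul_conj (hcl h1) (hcl h2)] at hk
    simp only [hα, hβ, map_intCast] at hk
    exact_mod_cast hk
  have degsum : ∀ {φ : G → ℂ} (α : IrrCharacter G → ℤ), IsGeneralizedCharacter G φ →
      (∀ χ : IrrCharacter G, classInner φ (χ : G → ℂ) = α χ) → φ 1 = 0 →
      ∑ χ : IrrCharacter G, (charDegree (χ : G → ℂ) : ℤ) * α χ = 0 := by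
    intro φ α h1 hα h0
    rw [Chars.isClassFunction_apply_eq_sum_classInner (hcl h1)] at h0
    simp only [hα, H66.SmallCofactor.degree_eq] at h0
    rw [← Int.cast_inj (α := ℂ)]
    push_cast
    rw [← h0]
    exact sum_congr rfl fun χ _ => mul_comm _ _
  have hdisj : ∀ {φ ψ : G → ℂ} {v w : G}, ¬ IsConj v w →
      (∀ z, ¬ IsConj v (z ^ e) → φ z = 0) → (∀ z, ¬ IsConj w (z ^ e) → ψ z = 0) →
      classInner φ ψ = 0 := by
    intro φ ψ v w hvw h1 h2
    rw [classInner, sum_eq_zero fun z _ => ?_, mul_zero]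
    by_cases hz : IsConj v (z ^ e)
    · rw [h2 z fun h => hvw (hz.trans h.symm), map_zero, mul_zero]
    · rw [h1 z hz, zero_mul]
  have hTsupp : ∀ z, ¬ IsConj u (z ^ e) → T z = 0 := fun z hz => by simp only [hTdef, if_neg hz]
  have hT : ∀ χ : IrrCharacter G, classInner T (χ : G → ℂ) = conj (secAvg 3 χ u) := by
    intro χ
    have h := congrArg conj (OneSection.sum_partIn R hP huR hu1 hC χ)
    simp only [map_sum, map_mul, map_div₀, map_natCast, hK.card] at h
    rw [classInner]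
    simp only [hTdef, ite_mul, zero_mul]
    rw [← sum_filter, ← mul_sum, h]
    push_cast
    field_simp [Chars.natCard_ne_zero (G := G)]
  have hsec1 : secAvg 3 (Chars.trivialIrr G) u = 1 := by
    simp only [secAvg, Chars.trivialIrr_apply, sum_const, nsmul_eq_mul, mul_one]
    exact inv_mul_cancel₀ (card_reg_ne_zero u)
  have hc1 : c (Chars.trivialIrr G) = 1 := by
    have h := (hc (Chars.trivialIrr G)).symm.trans (hT _)
    rw [hsec1, map_one] at h
    exact_mod_cast h
  have htriv : ∀ φ : G → ℂ, classInner φ (Chars.trivialIrr G : G → ℂ) = classInner φ (fun _ => 1) :=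
    fun φ => rfl
  have hsupp1 : ∀ {v : G}, v ≠ 1 → ¬ IsConj v ((1 : G) ^ e) := fun hv h => hv (by
    rwa [one_pow, isConj_one_left] at h)
  have hTT : classInner T T = ((9 : ℤ) : ℂ) := by
    have h := OneSection.sum_partIn R hP huR hu1 hC (Chars.trivialIrr G)
    simp only [Chars.trivialIrr_apply, sum_const, nsmul_eq_mul, mul_one, hsec1, hK.card] at h
    rw [classInner]
    have e2 : ∀ z, T z * conj (T z) = if IsConj u (z ^ e) then (81 : ℂ) else 0 := fun z => by
      simp only [hTdef]; split_ifs <;> simp only [map_ofNat, map_zero] <;> norm_num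
    rw [sum_congr rfl fun z _ => e2 z, ← sum_filter, sum_const, nsmul_eq_mul, h]
    push_cast
    field_simp [Chars.natCard_ne_zero (G := G)]
    ring
  have axis : ∀ {a' b' : G} {φ ψ : G → ℂ}, AxisFun a' φ ψ → KleinType R a' b' → a' * b' = u →
      ¬ IsConj a' u → a' ≠ 1 →
      ∀ (p q : IrrCharacter G → ℤ), (∀ χ : IrrCharacter G, classInner (-φ) (χ : G → ℂ) = p χ) →
      (∀ χ : IrrCharacter G, classInner (-ψ) (χ : G → ℂ) = q χ) →
      AxisData (Chars.trivialIrr G) (fun χ => (charDegree (χ : G → ℂ) : ℤ)) c p q := by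
    intro a' b' φ ψ hF hK' hu' hau' ha1 p q hp hq
    have gφ := Chars.isGeneralizedCharacter_neg hF.gen_f
    have gψ := Chars.isGeneralizedCharacter_neg hF.gen_g
    have sφ : ∀ z, ¬ IsConj a' (z ^ e) → (-φ) z = 0 := fun z hz => by simp [hF.supp_f z hz]
    have sψ : ∀ z, ¬ IsConj a' (z ^ e) → (-ψ) z = 0 := fun z hz => by simp [hF.supp_g z hz]
    refine
      { sum_xx := pars p p gφ gφ hp hp (by rw [hneg, hnegr, hF.ff]; norm_num)
        sum_yy := pars q q gψ gψ hq hq (by rw [hneg, hnegr, hF.gg]; norm_num)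
        sum_xy := pars p q gφ gψ hp hq (by rw [hneg, hnegr, hF.fg]; norm_num)
        sum_cx := pars c p hTgen gφ hc hp (by
          rw [hdisj (fun h => hau' h.symm) hTsupp sφ, Int.cast_zero])
        sum_cy := pars c q hTgen gψ hc hq (by
          rw [hdisj (fun h => hau' h.symm) hTsupp sψ, Int.cast_zero])
        sum_dx := degsum p gφ hp (sφ 1 (hsupp1 ha1))
        sum_dy := degsum q gψ hq (sψ 1 (hsupp1 ha1))
        cong := fun χ => ?_
        x_one := ?_
        y_one := ?_ }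
    · obtain ⟨k, hk⟩ := Chars.isGeneralizedCharacter_classInner_int (hmix a' b' hK' hu') (hirr χ)
      have hexp : ∀ z, (3 : ℂ) * (if IsConj a' (z ^ e) ∨ IsConj u (z ^ e) then (-3 : ℂ) else 0) =
          2 * φ z - ψ z - T z := by
        intro z
        rw [hF.rel z]
        simp only [hTdef, ← he]
        by_cases h1 : IsConj a' (z ^ e) <;> by_cases h2 : IsConj u (z ^ e)
        · exact absurd (h1.trans h2.symm) hau'
        all_goals simp only [h1, h2, or_self, or_false, false_or, if_true, if_false]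
        all_goals norm_num
      have h3 : (3 : ℂ) * k = -2 * (p χ : ℂ) + (q χ : ℂ) - (c χ : ℂ) := by
        rw [← hk, ← hp χ, ← hq χ, ← hc χ]
        simp only [classInner, Pi.neg_apply, neg_mul, sum_neg_distrib, mul_neg, neg_neg]
        rw [mul_left_comm, mul_sum]
        simp only [← mul_assoc (3 : ℂ), hexp, sub_mul, mul_assoc, sum_sub_distrib, ← mul_sum]
        ring
      have h4 : (3 : ℤ) * k = -2 * p χ + q χ - c χ := by exact_mod_cast h3
      exact ⟨-k - p χ, by linarith⟩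
    · have h := (hp (Chars.trivialIrr G)).symm
      rw [hneg, htriv, hF.f_one, neg_neg] at h
      exact_mod_cast h
    · have h := (hq (Chars.trivialIrr G)).symm
      rw [hneg, htriv, hF.g_one, neg_zero] at h
      exact_mod_cast h
  have sA : ∀ {φ : G → ℂ} {v : G}, (∀ z, ¬ IsConj v (z ^ e) → φ z = 0) →
      ∀ z, ¬ IsConj v (z ^ e) → (-φ) z = 0 := fun h z hz => by simp [h z hz]
  refine ⟨c, x, y, x', y',
    axis hA hK rfl hau hK.a_ne x y hx hy,
    axis hB hK.swap (by rw [hu]; exact hK.comm.eq.symm) hbu hK.b_ne x' y' hx' hy',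
    pars c c hTgen hTgen hc hc hTT, hc1, ?_,
    degsum c hTgen hc (hTsupp 1 (hsupp1 hu1)), ?_, ?_,
    pars x x' (Chars.isGeneralizedCharacter_neg hA.gen_f) (Chars.isGeneralizedCharacter_neg hB.gen_f)
      hx hx' (by rw [hdisj hab (sA hA.supp_f) (sA hB.supp_f), Int.cast_zero]),
    pars x y' (Chars.isGeneralizedCharacter_neg hA.gen_f) (Chars.isGeneralizedCharacter_neg hB.gen_g)
      hx hy' (by rw [hdisj hab (sA hA.supp_f) (sA hB.supp_g), Int.cast_zero]),
    pars y x' (Chars.isGeneralizedCharacter_neg hA.gen_g) (Chars.isGeneralizedCharacter_neg hB.gen_f)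
      hy hx' (by rw [hdisj hab (sA hA.supp_g) (sA hB.supp_f), Int.cast_zero]),
    pars y y' (Chars.isGeneralizedCharacter_neg hA.gen_g) (Chars.isGeneralizedCharacter_neg hB.gen_g)
      hy hy' (by rw [hdisj hab (sA hA.supp_g) (sA hB.supp_g), Int.cast_zero])⟩
  · have h := H66.SmallCofactor.degree_eq (Chars.trivialIrr G)
    rw [Chars.trivialIrr_apply] at h
    show ((charDegree (Chars.trivialIrr G : G → ℂ) : ℕ) : ℤ) = 1
    exact_mod_cast h.symm
  · intro χ hχ
    have := H66.SmallCofactor.one_lt_degree hG χ fun h => hχ (Subtype.ext (by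
      rw [h]; funext z; simp))
    exact_mod_cast this
  · intro χ hcχ
    have h := (hc χ).symm.trans (hT χ)
    have h' : secAvg 3 χ u = (c χ : ℂ) := by
      have := congrArg conj h
      rwa [map_intCast, Complex.conj_conj, eq_comm] at this
    by_cases hB' : χ ∈ principalBlock M G
    · rw [OneSection.secAvg_eq R hP huR hu1 hC hM hB'] at h'
      have hu3 : u ^ 3 ^ 1 = 1 := by
        rw [pow_one, hu, hK.comm.mul_pow, hK.a_cube, hK.b_cube, one_mul]
      have := H66.SmallCofactor.dvd_sub_charDegree Nat.prime_three χ hu3 h'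
      exact dvd_sub_comm.mp this
    · rw [OneSection.secAvg_eq_zero R hP huR hu1 hC hM hB'] at h'
      exact absurd (by exact_mod_cast h'.symm) hcχ

end Cfsg.Agent.Lib.Order9TwoQ
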