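import Mathlib
import Cfsg.Agent.Lib.Order9TwoQ.KleinTheta
import Cfsg.Agent.Lib.Order9TwoQ.Mersenne

/-!
# The Klein case does not occur
-/

set_option autoImplicit false
set_option linter.unusedSectionVars false

namespace Cfsg.Agent.Lib.Order9TwoQ

open Cfsg Subgroup Finset
open Cfsg.Agent.Lib

universe u

attribute [local instance] fact_three'

variable {G : Type u} [Group G] [Fintype G] [IsSimpleGroup G] (hG : ¬ IsMulCommutative G)
  {q a b : ℕ} [hq : Fact q.Prime] (hq2 : q ≠ 2) (hq3 : q ≠ 3)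
  (hcard : Nat.card G = 9 * 2 ^ a * q ^ b)

include hG hq2 hq3 hcard

/-- Two nontrivial degrees with difference one, prime to three. -/
theorem small_prime {m : ℕ} (hm : 1 < m) (h3 : ¬ 3 ∣ m) (h3' : ¬ 3 ∣ m + 1)
    (h1 : ∃ χ : IrrCharacter G, charDegree (χ : G → ℂ) = m)
    (h2 : ∃ χ : IrrCharacter G, charDegree (χ : G → ℂ) = m + 1) :
    b = 1 ∧ (∃ D : IrrCharacter G, charDegree (D : G → ℂ) = q) ∧
      ((q = 5 ∧ m = 4) ∨ (q = 7 ∧ m = 7) ∨ (q = 17 ∧ m = 16)) := by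
  obtain ⟨χ, hχ⟩ := h1
  obtain ⟨χ', hχ'⟩ := h2
  obtain ⟨i, hi, hc⟩ := consecutive hq.out hq2 hq3 hm
    (hχ ▸ hcard ▸ H66.SmallCofactor.degree_dvd_card χ)
    (hχ' ▸ hcard ▸ H66.SmallCofactor.degree_dvd_card χ') h3 h3'
  have hqi : q = 2 ^ i + 1 ∨ q + 1 = 2 ^ i := by
    rcases hc with ⟨h, h'⟩ | ⟨h, h'⟩
    · exact Or.inl h'
    · exact Or.inr (by omega)
  obtain ⟨D, hD⟩ : ∃ D : IrrCharacter G, charDegree (D : G → ℂ) = q := by
    rcases hc with ⟨h, h'⟩ | ⟨h, h'⟩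
    · exact ⟨χ', by omega⟩
    · exact ⟨χ, by omega⟩
  have hb := q_exp_eq_one hG hq2 hq3 hcard hD
  have h31 : q < 31 := q_lt hG hcard hD hqi
  have hi5 : i ≤ 5 := by
    by_contra h
    have := Nat.pow_le_pow_right (show 0 < 2 by norm_num) (show 6 ≤ i by omega)
    omega
  have hp := hq.out
  refine ⟨hb, ⟨D, hD⟩, ?_⟩
  interval_cases i <;> rcases hc with ⟨hc1, hc2⟩ | ⟨hc1, hc2⟩ <;> norm_num at hc1 hc2 <;>
    first
      | omega
      | (subst hc2; norm_num at hp)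
      | (obtain rfl : q = 15 := by omega
         norm_num at hp)

omit hG hq2 hq3 hcard in
/-- The four interior cells. -/
theorem interior {x0 ab ac ba bb bc ca cb cc : ℤ} (hx0 : x0 % 2 = 1)
    (h4 : bb % 2 = 0 ∨ bb = x0) (h5 : bc % 2 = 0 ∨ bc = x0)
    (h7 : cb % 2 = 0 ∨ cb = x0) (h8 : cc % 2 = 0 ∨ cc = x0)
    (e1 : (ab = x0 ∧ ac = -1 - x0) ∨ (ac = x0 ∧ ab = -1 - x0))
    (e2 : (ba = x0 ∧ ca = -1 - x0) ∨ (ca = x0 ∧ ba = -1 - x0))
    (r1 : ba + bb + bc = 0) (r2 : ca + cb + cc = 0) (c1 : ab + bb + cb = 0)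
    (c2 : ac + bc + cc = 0) :
    (bb = 1 ∨ bb = 1 + 3 * x0) ∨ (bc = 1 ∨ bc = 1 + 3 * x0) ∨ (cb = 1 ∨ cb = 1 + 3 * x0) ∨
      (cc = 1 ∨ cc = 1 + 3 * x0) := by
  rcases e1 with ⟨ea, eb⟩ | ⟨ea, eb⟩ <;> rcases e2 with ⟨ec, ed⟩ | ⟨ec, ed⟩ <;>
    rcases h4 with h4 | h4 <;> rcases h5 with h5 | h5 <;> rcases h7 with h7 | h7 <;>
    rcases h8 with h8 | h8 <;> omega

omit hG hq2 hq3 hcard in
/-- The nine cells cannot be filled. -/
theorem cells_false {x0 ab ac ba bb bc ca cb cc : ℤ} (hx0 : x0 % 2 = 1)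
    (h : ∀ z ∈ [ab, ac, ba, bb, bc, ca, cb, cc], (z % 2 = 0 ∨ z = x0) ∧ z ≠ 1 ∧ z ≠ 1 + 3 * x0)
    (r0 : 1 + ab + ac = 0) (r1 : ba + bb + bc = 0) (r2 : ca + cb + cc = 0)
    (c0 : 1 + ba + ca = 0) (c1 : ab + bb + cb = 0) (c2 : ac + bc + cc = 0) : False := by
  have h1 := (h ab (by simp)).1
  have h2 := (h ac (by simp)).1
  have h3 := (h ba (by simp)).1
  have h6 := (h ca (by simp)).1
  have e1 : (ab = x0 ∧ ac = -1 - x0) ∨ (ac = x0 ∧ ab = -1 - x0) := by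
    rcases h1 with h1 | h1 <;> rcases h2 with h2 | h2 <;> omega
  have e2 : (ba = x0 ∧ ca = -1 - x0) ∨ (ca = x0 ∧ ba = -1 - x0) := by
    rcases h3 with h3 | h3 <;> rcases h6 with h6 | h6 <;> omega
  obtain ⟨h4, h4', h4''⟩ := h bb (by simp)
  obtain ⟨h5, h5', h5''⟩ := h bc (by simp)
  obtain ⟨h7, h7', h7''⟩ := h cb (by simp)
  obtain ⟨h8, h8', h8''⟩ := h cc (by simp)
  rcases interior hx0 h4 h5 h7 h8 e1 e2 r1 r2 c1 c2 with (e | e) | (e | e) | (e | e) | (e | e)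
  exacts [h4' e, h4'' e, h5' e, h5'' e, h7' e, h7'' e, h8' e, h8'' e]

set_option maxHeartbeats 1000000 in
/-- No Klein type. -/
theorem not_kleinType {R : Sylow 3 G} {x y : G} (hK : KleinType R x y) : False := by
  classical
  obtain ⟨M, hM⟩ := CharCount.exists_isPModular 3 Nat.prime_three
  haveI := Blocks.isPModular_isPrime hM
  obtain ⟨c, x₁, y₁, x₂, y₂, hT⟩ := hK.exists_table hG hM
  have hdeg : ∀ n : ℤ, (∃ χ, χ ≠ Chars.trivialIrr G ∧
      (charDegree (χ : G → ℂ) : ℤ) = |n|) →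
      1 < n.natAbs ∧ ∃ χ : IrrCharacter G, charDegree (χ : G → ℂ) = n.natAbs := by
    rintro n ⟨χ, hχ, he⟩
    have h1 := hT.one_lt χ hχ
    have he' : (charDegree (χ : G → ℂ) : ℤ) = (n.natAbs : ℤ) := by
      rw [Int.natCast_natAbs]; exact he
    exact ⟨by omega, χ, by exact_mod_cast he'⟩
  rcases hT.degrees with ⟨E, h00, hE, hr, hc⟩ | ⟨F, hF3, hF, hF2, hF21, hFS⟩
  · -- nine cells
    have e : ∀ k : Fin 3 × Fin 3, k ≠ (0, 0) → 3 ∣ E k - 1 ∧ 1 < (E k).natAbs ∧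
        ∃ χ : IrrCharacter G, charDegree (χ : G → ℂ) = (E k).natAbs := by
      intro k hk
      obtain ⟨h3, χ, hχ, he⟩ := hE k hk
      exact ⟨h3, hdeg _ ⟨χ, hχ, he⟩⟩
    obtain ⟨p1, p2, p3⟩ := e (0, 1) (by decide)
    obtain ⟨r1, r2, r3⟩ := e (0, 2) (by decide)
    have hrow := hr 0
    rw [h00] at hrow
    have hcases : b = 1 ∧ (∃ D : IrrCharacter G, charDegree (D : G → ℂ) = q) ∧
        ((q = 5 ∧ (E (0, 1) = -5 ∨ E (0, 2) = -5)) ∨ (q = 7 ∧ (E (0, 1) = 7 ∨ E (0, 2) = 7)) ∨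
          (q = 17 ∧ (E (0, 1) = -17 ∨ E (0, 2) = -17))) := by
      rcases (show (E (0, 1)).natAbs + 1 = (E (0, 2)).natAbs ∨
          (E (0, 2)).natAbs + 1 = (E (0, 1)).natAbs by omega) with h | h
      · obtain ⟨hb, hD, hm⟩ := small_prime hG hq2 hq3 hcard p2 (by omega) (by omega) p3
          (by rw [h]; exact r3)
        exact ⟨hb, hD, by omega⟩
      · obtain ⟨hb, hD, hm⟩ := small_prime hG hq2 hq3 hcard r2 (by omega) (by omega) r3
          (by rw [h]; exact p3)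
        exact ⟨hb, hD, by omega⟩
    obtain ⟨hb, -, hq'⟩ := hcases
    subst hb
    -- the restrictions on one cell
    have cell : ∀ k : Fin 3 × Fin 3, k ≠ (0, 0) → 3 ∣ E k - 1 ∧ 1 < (E k).natAbs ∧
        ((E k % 2 = 0) ∨ (E k).natAbs = q) ∧
        (q = 5 → (E k).natAbs ≠ 14) ∧ (q = 7 → (E k).natAbs ≠ 22) ∧
        (q = 17 → (E k).natAbs ≠ 50) := by
      intro k hk
      obtain ⟨h3, h1, χ, hχ⟩ := e k hk
      have hdvd : (E k).natAbs ∣ 9 * 2 ^ a * q ^ 1 :=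
        hχ ▸ hcard ▸ H66.SmallCofactor.degree_dvd_card χ
      obtain ⟨i, j, -, hj, hf⟩ := exists_form hq.out hdvd (by omega)
      refine ⟨h3, h1, ?_, fun h5 h => ?_, fun h7 h => ?_, fun h17 h => ?_⟩
      · rcases i with - | i
        · right
          rw [pow_zero, one_mul] at hf
          interval_cases j
          · simp only [pow_zero] at hf; omega
          · simpa using hf
        · left
          have : 2 ∣ (E k).natAbs := by
            rw [hf]; exact dvd_mul_of_dvd_left (dvd_pow_self 2 i.succ_ne_zero) _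
          omega
      all_goals
        rw [h] at hf
        first | subst h5 | subst h7 | subst h17
        have hi : i ≤ 5 := by
          by_contra h'
          have := Nat.pow_le_pow_right (show 0 < 2 by norm_num) (show 6 ≤ i by omega)
          interval_cases j <;> omega
        interval_cases i <;> interval_cases j <;> norm_num at hf
    refine cells_false (x0 := if q = 7 then 7 else -(q : ℤ)) ?_ ?_
      (by have := hr 0; rwa [h00] at this) (hr 1) (hr 2)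
      (by have := hc 0; rwa [h00] at this) (hc 1) (hc 2)
    · rcases hq' with ⟨rfl, -⟩ | ⟨rfl, -⟩ | ⟨rfl, -⟩ <;> norm_num
    have key : ∀ k : Fin 3 × Fin 3, k ≠ (0, 0) → (E k % 2 = 0 ∨ E k = if q = 7 then 7 else -(q : ℤ)) ∧
        E k ≠ 1 ∧ E k ≠ 1 + 3 * (if q = 7 then 7 else -(q : ℤ)) := by
      intro k hk
      obtain ⟨h3, h1, h2, h5, h7, h17⟩ := cell k hk
      rcases hq' with ⟨rfl, -⟩ | ⟨rfl, -⟩ | ⟨rfl, -⟩
      · have := h5 rfl; norm_num; omega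
      · have := h7 rfl; norm_num; omega
      · have := h17 rfl; norm_num; omega
    intro z hz
    simp only [List.mem_cons, List.not_mem_nil, or_false] at hz
    rcases hz with rfl | rfl | rfl | rfl | rfl | rfl | rfl | rfl <;> exact key _ (by decide)
  · -- the exceptional quadruple
    obtain ⟨f1, hf⟩ := hdeg _ hF
    obtain ⟨g1, hg⟩ := hdeg _ hF2
    obtain ⟨k1, hk⟩ := hdeg _ hF21
    obtain ⟨l1, hl⟩ := hdeg _ hFS
    have hcases : b = 1 ∧ (∃ D : IrrCharacter G, charDegree (D : G → ℂ) = q) ∧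
        ((q = 5 ∧ F = -2) ∨ (q = 7 ∧ F = 4) ∨ (q = 17 ∧ F = -8)) := by
      rcases (show (2 * F).natAbs + 1 = (2 * F - 1).natAbs ∨
          (2 * F - 1).natAbs + 1 = (2 * F).natAbs by omega) with h | h
      · obtain ⟨hb, hD, hm⟩ := small_prime hG hq2 hq3 hcard g1 (by omega) (by omega) hg
          (by rw [h]; exact hk)
        exact ⟨hb, hD, by omega⟩
      · obtain ⟨hb, hD, hm⟩ := small_prime hG hq2 hq3 hcard k1 (by omega) (by omega) hk
          (by rw [h]; exact hg)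
        exact ⟨hb, hD, by omega⟩
    obtain ⟨-, ⟨D, hD⟩, hqF⟩ := hcases
    obtain ⟨P, d, k, hQ⟩ := exists_qData hG hD
    obtain ⟨A, B, δ, ε, -, -, -, hmem, hA, hεs, -, hrel⟩ := principal_degrees hG hQ
    obtain ⟨χ, hχ⟩ := hf
    obtain ⟨ψ, hψ⟩ := hl
    have inB : ∀ η : IrrCharacter G,
        (charDegree (η : G → ℂ) = 2 ∧ q = 5) ∨ (charDegree (η : G → ℂ) = 3 ∧ q = 5) ∨
        (charDegree (η : G → ℂ) = 4 ∧ q = 7) ∨ (charDegree (η : G → ℂ) = 3 ∧ q = 7) ∨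
        (charDegree (η : G → ℂ) = 8 ∧ q = 17) ∨ (charDegree (η : G → ℂ) = 9 ∧ q = 17) →
        η ∈ B := by
      intro η hη
      refine (hmem η fun hd => ?_).resolve_left fun h => ?_
      · rcases hη with ⟨e, rfl⟩ | ⟨e, rfl⟩ | ⟨e, rfl⟩ | ⟨e, rfl⟩ | ⟨e, rfl⟩ | ⟨e, rfl⟩ <;>
          rw [e] at hd <;> norm_num at hd
      · obtain ⟨hs, hd⟩ := hA η h
        rcases hη with ⟨e, rfl⟩ | ⟨e, rfl⟩ | ⟨e, rfl⟩ | ⟨e, rfl⟩ | ⟨e, rfl⟩ | ⟨e, rfl⟩ <;>
          rw [e] at hd <;> rcases hs with hs | hs <;> rw [hs] at hd <;> norm_num at hd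
    have h1 := hrel χ (inB χ (by rcases hqF with ⟨rfl, rfl⟩ | ⟨rfl, rfl⟩ | ⟨rfl, rfl⟩ <;> simp_all))
    have h2 := hrel ψ (inB ψ (by rcases hqF with ⟨rfl, rfl⟩ | ⟨rfl, rfl⟩ | ⟨rfl, rfl⟩ <;> simp_all))
    rw [← h2, hχ, hψ] at h1
    have hε : ε ≠ 0 := by rcases hεs with e | e <;> rw [e] <;> norm_num
    have h3 := mul_left_cancel₀ hε h1
    rcases hqF with ⟨-, rfl⟩ | ⟨-, rfl⟩ | ⟨-, rfl⟩ <;> norm_num at h3

end Cfsg.Agent.Lib.Order9TwoQ
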